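import Cfsg.Agent.Lib.DGroup.Max
import Cfsg.Agent.Lib.Bender.FreeNormal
import Cfsg.Agent.Lib.PLocal.ZJControl
import Cfsg.Agent.Lib.Transfer.IsolatedSylow

/-!
In the extremal configuration of a `D`-group, `N(Z(J(S)))` fuses the involutions of a Sylow 2-subgroup.

* `Best.not_isolated` : `t` is not isolated in `N(Z(J(S)))`
* `Best.fused`
-/

set_option autoImplicit false

namespace Cfsg.Agent.DGroup

open Subgroup Cfsg Involution DHyp

universe v

variable {G : Type v} [Group G] [Finite G]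

/-- An element of a subgroup `M` of 2-power order is conjugate in `M` into a Sylow subgroup inside `M`. -/
theorem exists_conj_into {p : ℕ} [Fact p.Prime] (T : Sylow p G) {M : Subgroup G} (hT : (T : Subgroup G) ≤ M)
    {X : Subgroup G} (hX : IsPGroup p X) (hXM : X ≤ M) :
    ∃ c ∈ M, ∀ x ∈ X, c * x * c⁻¹ ∈ T := by
  obtain ⟨Q, hQ⟩ :=
    (hX.of_equiv (Subgroup.subgroupOfEquivOfLe hXM).symm : IsPGroup p (X.subgroupOf M)).exists_le_sylow
  obtain ⟨c, hc⟩ := MulAction.exists_smul_eq M Q (T.subtype hT)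
  refine ⟨c, c.2, fun x hx => ?_⟩
  have h1 : (⟨x, hXM hx⟩ : M) ∈ (Q : Subgroup M) := hQ (by exact hx)
  have h2 : c * ⟨x, hXM hx⟩ * c⁻¹ ∈ ((c • Q : Sylow p M) : Subgroup M) := by
    rw [Sylow.coe_subgroup_smul]
    exact ⟨_, h1, rfl⟩
  rw [hc, Sylow.coe_subtype, Subgroup.mem_subgroupOf] at h2
  exact h2

namespace Best

variable {h : DHyp G} {p : ℕ} [Fact p.Prime] {hp : Odd p} {t j z : G} {S : Subgroup G}
  (B : Best h p hp t j z S)
include B

theorem z_odd : Odd (orderOf z) := odd_of_pow_eq_one hp (k := 1) (by rw [pow_one]; exact B.z_pow)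

theorem four_le : B.f.group ≤ normalizer (S : Set G) := B.f.le_iff.2 ⟨B.t_S, B.j_S⟩

theorem z_W : z ∈ centerThompsonOf p S := PLocal.central_le_centerThompsonOf B.z_mem B.z_pow

omit B in
theorem W_le (S : Subgroup G) : centerThompsonOf p S ≤ S :=
  inf_le_left.trans (PLocal.thompsonSubgroupOf_le S)

omit B in
theorem W_comm {S : Subgroup G} {a b : G} (ha : a ∈ centerThompsonOf p S)
    (hb : b ∈ centerThompsonOf p S) : a * b = b * a := mem_centralizer_iff.1 hb.2 a ha.1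

theorem W_odd : Odd (Nat.card (centerThompsonOf p S)) := odd_card_of_pGroup hp (B.hS.to_le (W_le S))

omit B in
theorem normalizer_le (S : Subgroup G) :
    normalizer (S : Set G) ≤ normalizer (centerThompsonOf p S : Set G) :=
  Bender.normalizer_le_normalizer_centerThompsonOf S

theorem exists_sylow : ∃ P : Sylow p (core z), (P : Subgroup (core z)).map (core z).subtype = S := by
  have hK := h.four_le_normalizer_core B.f B.z_odd B.z_t
  obtain ⟨P, hSP, hPn⟩ := Coprime.exists_invariant_sylow_ge hK (B.f.coprime (odd_core z))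
    (Or.inr (OddOrderTheorem.solvable (odd_core z))) B.S_le B.hS B.four_le
  refine ⟨P, ((lt_or_eq_of_le hSP).resolve_left fun hl => ?_).symm⟩
  exact absurd (B.key_max t j _ B.f (P.isPGroup'.map _) (hPn B.f.t_mem) (hPn B.f.j_mem))
    (not_le.2 (key_lt hl))

theorem centralizer_le_normalizer_core : centralizer ({t} : Set G) ≤ normalizer (core z : Set G) := by
  intro g hg
  obtain ⟨A, u, hl⟩ := h.loc t B.f.ht
  have hzA := h.mem_of_odd hl (mem_centralizer_singleton_iff.2 B.z_t) B.z_odd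
  refine normalizes_core ?_
  by_cases hgA : g ∈ A
  · exact Or.inl (by rw [hl.comm g hgA z hzA, mul_inv_cancel_right])
  · exact Or.inr (hl.inverts_of_not_mem hg hgA hzA)

/-- A 2-subgroup of `C(t)` containing the four group normalises `S`. -/
theorem two_group_normalizes {T : Subgroup G} (hT : IsPGroup 2 T) (hTt : T ≤ centralizer ({t} : Set G))
    (hfT : B.f.group ≤ T) : T ≤ normalizer (S : Set G) := by
  haveI : Fact (Nat.Prime 2) := ⟨Nat.prime_two⟩
  have hK : T ≤ normalizer (core z : Set G) := hTt.trans B.centralizer_le_normalizer_core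
  obtain ⟨n, hn⟩ := IsPGroup.iff_card.1 hT
  obtain ⟨Q, hQ⟩ := Coprime.exists_invariant_sylow hK
    (hn ▸ (Nat.coprime_two_left.2 (odd_core z)).pow_left n)
    (Or.inr (OddOrderTheorem.solvable (odd_core z))) p
  obtain ⟨P, hP⟩ := B.exists_sylow
  have h1 := h.sylow_unique B.f (odd_core z) (hK (hfT B.f.t_mem)) (hK (hfT B.f.j_mem)) Q P
    (hQ (hfT B.f.t_mem)) (hQ (hfT B.f.j_mem)) (by rw [hP]; exact B.t_S) (by rw [hP]; exact B.j_S)
  rw [h1, hP] at hQ
  exact hQ

/-- `t` is not isolated in `N(Z(J(S)))`. -/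
theorem not_isolated :
    ∃ n ∈ normalizer (centerThompsonOf p S : Set G), Commute t (n * t * n⁻¹) ∧ n * t * n⁻¹ ≠ t := by
  by_contra hcon
  push Not at hcon
  set N := normalizer (centerThompsonOf p S : Set G) with hNdef
  have hSN : normalizer (S : Set G) ≤ N := normalizer_le S
  have htN : t ∈ N := hSN B.t_S
  have hiso : IsIsolatedInvolution (⟨t, htN⟩ : N) :=
    ⟨by rw [← Subgroup.orderOf_coe]; exact B.f.ht, fun g hc =>
      Subtype.ext (hcon g g.2 (congrArg Subtype.val hc))⟩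
  obtain ⟨D₀, hD₀, hD₀o, hD₀c⟩ := Transfer.exists_odd_normal_of_isolated hiso
  set D := D₀.map N.subtype with hDdef
  have hDo : Odd (Nat.card D) := by rw [hDdef, Cores.card_map_subtype]; exact hD₀o
  have hND : N ≤ normalizer (D : Set G) := fun g hg => by
    refine Coprime.mem_normalizer_of_forall ?_
    rintro _ ⟨d, hd, rfl⟩
    exact ⟨_, hD₀.conj_mem d hd ⟨g, hg⟩, rfl⟩
  have hDc : ∀ g ∈ N, t * g * t⁻¹ * g⁻¹ ∈ D := fun g hg => ⟨_, hD₀c ⟨g, hg⟩, rfl⟩
  obtain ⟨P, hP⟩ : ∃ P : Sylow p G, (P : Subgroup G) = S := by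
    obtain ⟨P, hSP⟩ := B.hS.exists_le_sylow
    refine ⟨P, (lt_or_eq_of_le hSP).elim (fun hlt => ?_) Eq.symm⟩
    exfalso
    haveI : Group.IsNilpotent (P : Subgroup G) := P.isPGroup'.isNilpotent
    have hne : S.subgroupOf (P : Subgroup G) < ⊤ :=
      lt_top_iff_ne_top.2 fun e => hlt.ne (le_antisymm hSP (subgroupOf_eq_top.1 e))
    obtain ⟨⟨g, hgP⟩, hg, hgS⟩ :=
      SetLike.exists_of_lt (Group.normalizerCondition_of_isNilpotent (S.subgroupOf (P : Subgroup G)) hne)
    have hgN : g ∈ normalizer (S : Set G) := Coprime.mem_normalizer_of_forall fun x hx =>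
      (Subgroup.mem_normalizer_iff.1 hg ⟨x, hSP hx⟩).1 hx
    set D' := D ⊓ normalizer (S : Set G) with hD'
    have hd : t * g * t⁻¹ * g⁻¹ ∈ D' := ⟨hDc g (hSN hgN),
      Subgroup.mul_mem _ (Subgroup.mul_mem _ (Subgroup.mul_mem _ B.t_S hgN) (Subgroup.inv_mem _ B.t_S))
        (Subgroup.inv_mem _ hgN)⟩
    have hD'o : Odd (Nat.card D') := hDo.of_dvd_nat (card_dvd_of_le inf_le_left)
    obtain ⟨e, he, c, hct, hgec⟩ := exists_odd_factor B.f.ht hD'o hd
    have hcN : c ∈ normalizer (S : Set G) := by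
      rw [show c = e⁻¹ * g by rw [hgec, inv_mul_cancel_left]]
      exact Subgroup.mul_mem _ (Subgroup.inv_mem _ he.2) hgN
    have hnD' : normalizer (S : Set G) ≤ normalizer (D' : Set G) := fun x hx =>
      Coprime.mem_normalizer_of_forall fun d hd => ⟨(Subgroup.mem_normalizer_iff.1 (hND (hSN hx)) d).1 hd.1,
        Subgroup.mul_mem _ (Subgroup.mul_mem _ hx hd.2) (Subgroup.inv_mem _ hx)⟩
    set K := D' ⊔ S with hK
    have hKn : normalizer (S : Set G) ≤ normalizer (K : Set G) := fun x hx =>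
      Cores.normalizer_inf_le_normalizer_sup D' S ⟨hnD' hx, hx⟩
    have hKo : Odd (Nat.card K) :=
      odd_card_sup hD'o (odd_card_of_pGroup hp B.hS) (le_normalizer.trans hnD')
    have hfK : B.f.group ≤ normalizer (K : Set G) := B.four_le.trans hKn
    obtain ⟨n, hn⟩ := P.isPGroup' ⟨g, hgP⟩
    have hn' : g ^ p ^ n = 1 := congrArg Subtype.val hn
    have hcK : c ∈ K := by
      let π := QuotientGroup.mk' (D'.subgroupOf (normalizer (D' : Set G)))
      have hgD : g ∈ normalizer (D' : Set G) := hnD' hgN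
      have hcD : c ∈ normalizer (D' : Set G) := hnD' hcN
      have hπ : π ⟨g, hgD⟩ = π ⟨c, hcD⟩ := by
        rw [show (⟨g, hgD⟩ : normalizer (D' : Set G)) = ⟨e, le_normalizer he⟩ * ⟨c, hcD⟩ from
          Subtype.ext hgec, map_mul,
          show π ⟨e, le_normalizer he⟩ = 1 from (QuotientGroup.eq_one_iff _).2 he, one_mul]
      have h1 : c ^ p ^ n ∈ K := by
        refine mem_sup_left ?_
        have : π (⟨c, hcD⟩ ^ p ^ n) = 1 := by
          rw [map_pow, ← hπ, ← map_pow, show (⟨g, hgD⟩ : normalizer (D' : Set G)) ^ p ^ n = 1 from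
            Subtype.ext hn', map_one]
        exact (QuotientGroup.eq_one_iff (N := D'.subgroupOf (normalizer (D' : Set G)))
          ((⟨c, hcD⟩ : normalizer (D' : Set G)) ^ p ^ n)).1 this
      obtain ⟨a, m, hm, ham⟩ := Nat.exists_eq_pow_mul_and_not_dvd (orderOf_pos c).ne' p
        (Fact.out : p.Prime).ne_one
      have h2 : c ^ m ∈ K := mem_sup_right (B.up_le ⟨hct.pow_left m, a, by
        rw [← pow_mul, mul_comm, ← ham, pow_orderOf_eq_one]⟩)
      have hcop : Nat.gcd m (p ^ n) = 1 :=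
        Nat.Coprime.pow_right n (((Fact.out : p.Prime).coprime_iff_not_dvd.2 hm).symm)
      have h3 := Nat.gcd_eq_gcd_ab m (p ^ n)
      rw [hcop] at h3
      rw [← zpow_one c, ← Nat.cast_one, h3, zpow_add, zpow_mul, zpow_mul, zpow_natCast, zpow_natCast]
      exact mul_mem (zpow_mem h2 _) (zpow_mem h1 _)
    have hgK : g ∈ K := hgec ▸ mul_mem (mem_sup_left he) hcK
    obtain ⟨R, hSR, hRn⟩ := Coprime.exists_invariant_sylow_ge hfK (B.f.coprime hKo)
      (Or.inr (OddOrderTheorem.solvable hKo)) le_sup_right B.hS B.four_le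
    have hReq : S = (R : Subgroup K).map K.subtype :=
      (lt_or_eq_of_le hSR).resolve_left fun hl =>
        absurd (B.key_max t j _ B.f (R.isPGroup'.map _) (hRn B.f.t_mem) (hRn B.f.j_mem))
          (not_le.2 (key_lt hl))
    have hlt' : S < (P : Subgroup G) ⊓ K :=
      lt_of_le_of_ne (le_inf hSP le_sup_right) fun e1 => hgS (show g ∈ S from e1 ▸ ⟨hgP, hgK⟩)
    obtain ⟨R', hR'⟩ := ((P.isPGroup'.to_le inf_le_left).of_equiv
      (Subgroup.subgroupOfEquivOfLe (inf_le_right : (P : Subgroup G) ⊓ K ≤ K)).symm :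
        IsPGroup p (((P : Subgroup G) ⊓ K).subgroupOf K)).exists_le_sylow
    refine hlt'.ne (eq_of_le_of_card_ge hlt'.le ?_)
    rw [hReq, Cores.card_map_subtype, R.card_eq_multiplicity, ← R'.card_eq_multiplicity,
      ← Cores.card_subgroupOf (inf_le_right : (P : Subgroup G) ⊓ K ≤ K)]
    exact card_le_of_le hR'
  obtain ⟨j', f', hj', w, hwS, hw1, hwj⟩ :=
    h.exists_inverted B.f (odd_card_of_pGroup hp B.hS) B.t_S B.j_S B.moved
  obtain ⟨g₀, hg₀⟩ := isConj_iff.1 (h.conj j' t f'.hj B.f.ht)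
  set a := g₀ * w * g₀⁻¹ with ha
  obtain ⟨n, hn⟩ := B.hS ⟨w, hwS⟩
  have hn' : w ^ p ^ n = 1 := congrArg Subtype.val hn
  have hat : Commute a t := by
    have := hwj.map (MulAut.conj g₀).toMonoidHom
    rwa [show (MulAut.conj g₀).toMonoidHom j' = t from hg₀] at this
  have han : a ^ p ^ n = 1 := by rw [ha, conj_pow, hn', mul_one, mul_inv_cancel]
  have haS : a ∈ (P : Subgroup G) := hP ▸ B.up_le ⟨hat, n, han⟩
  obtain ⟨m, hm, hma⟩ := PLocal.zj_control (p := p) (fun e => by subst e; exact absurd hp (by decide))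
    (h.sl2Free (fun e => by subst e; exact absurd hp (by decide))) P (zpowers a) (zpowers_le.2 haS) g₀⁻¹ (by
      rw [MonoidHom.map_zpowers]
      refine zpowers_le.2 ?_
      show g₀⁻¹ * a * g₀⁻¹⁻¹ ∈ (P : Subgroup G)
      rw [hP, ha]
      simpa [mul_assoc] using hwS)
  rw [hP] at hm
  have hma' : m * a * m⁻¹ = w := by
    rw [hma a (mem_zpowers a), ha]
    group
  obtain ⟨e, he, c, hct, hmec⟩ := exists_odd_factor B.f.ht hDo (hDc m hm)
  have haco : Odd (orderOf (c * a * c⁻¹)) := by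
    rw [orderOf_conj]; exact odd_of_pow_eq_one hp han
  have hca : c * a * c⁻¹ = 1 := h.not_conj f' hDo (hND htN)
    ((hct.mul_left hat).mul_left hct.inv_left) hwj he haco (by rw [← hma', hmec]; group)
  refine hw1 ?_
  rw [← hma', hmec, show e * c * a * (e * c)⁻¹ = e * (c * a * c⁻¹) * e⁻¹ by group, hca]
  group

omit B in
/-- A non-trivial element of `W` fixed by `v` gives one of order `p`. -/
theorem exists_order_p {v y : G} (hy : y ∈ centerThompsonOf p S) (hS : IsPGroup p S) (hy1 : y ≠ 1)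
    (hyv : Commute y v) : ∃ x ∈ centerThompsonOf p S, x ≠ 1 ∧ x ^ p = 1 ∧ Commute x v := by
  obtain ⟨k, hk⟩ := IsPGroup.iff_orderOf.1 (hS.to_le (W_le S)) ⟨y, hy⟩
  rw [Subgroup.orderOf_mk] at hk
  rcases k with _ | k
  · exact absurd (orderOf_eq_one_iff.1 (by rw [hk, pow_zero])) hy1
  refine ⟨y ^ p ^ k, Subgroup.pow_mem _ hy _, fun e => ?_, ?_, hyv.pow_left _⟩
  · have h1 := orderOf_dvd_of_pow_eq_one e
    rw [hk] at h1
    exact absurd ((Nat.pow_dvd_pow_iff_le_right (Fact.out : p.Prime).one_lt).1 h1) (by omega)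
  · rw [← pow_mul, ← pow_succ, ← hk, pow_orderOf_eq_one]

/-- Without elements of order four a Sylow 2-subgroup inside `C(t)` is the four group. -/
theorem sylow_le_four (hno : ¬ ∃ r : G, r * r = t) {t' u : G} (f' : Four t' u) (ht' : t' = t)
    {T : Subgroup G} (hT : IsPGroup 2 T) (hTt : T ≤ centralizer ({t} : Set G)) (huT : u ∈ T) :
    T ≤ f'.group := by
  subst t'
  obtain ⟨A, a, hl⟩ := h.loc t B.f.ht
  have hsq : ∀ c ∈ T, c * c = 1 := by
    intro c hc
    by_contra hne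
    have hcA : c ∈ A := by_contra fun hA => hne (hl.sq_eq_one (hTt hc) hA)
    obtain ⟨k, hk⟩ := IsPGroup.iff_orderOf.1 hT ⟨c, hc⟩
    rw [Subgroup.orderOf_mk] at hk
    have hp2 : c ^ 2 ≠ 1 := by rwa [pow_two]
    match k, hk with
    | 0, hk =>
      have hc1 : c = 1 := orderOf_eq_one_iff.1 (by rw [hk, pow_zero])
      exact hne (by rw [hc1, one_mul])
    | 1, hk => exact hp2 (by rw [show (2 : ℕ) = orderOf c by rw [hk, pow_one], pow_orderOf_eq_one])
    | k + 2, hk =>
      refine hno ⟨c ^ 2 ^ k, hl.uniq _ (A.mul_mem (A.pow_mem hcA _) (A.pow_mem hcA _)) ?_⟩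
      refine orderOf_of_sq ?_ fun e => ?_
      · rw [← pow_add, ← pow_add, show 2 ^ k + 2 ^ k + (2 ^ k + 2 ^ k) = 2 ^ (k + 2) by ring, ← hk,
          pow_orderOf_eq_one]
      · rw [← pow_add, show 2 ^ k + 2 ^ k = 2 ^ (k + 1) by ring] at e
        have h1 := orderOf_dvd_of_pow_eq_one e
        rw [hk] at h1
        exact absurd ((Nat.pow_dvd_pow_iff_le_right (by norm_num)).1 h1) (by omega)
  intro c hc
  have hA : ∀ d ∈ A, d * d = 1 → d = 1 ∨ d = t := fun d hd hd2 => by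
    rcases eq_or_ne d 1 with h1 | h1
    · exact Or.inl h1
    · exact Or.inr (hl.uniq d hd (orderOf_of_sq hd2 h1))
  by_cases hcA : c ∈ A
  · rcases hA c hcA (hsq c hc) with rfl | rfl
    · exact one_mem _
    · exact f'.t_mem
  have huA : u ∉ A := fun hu => f'.ne (hl.uniq u hu f'.hj)
  have hcu : c * u ∈ A := by
    rw [show c * u = c * a * (u * a)⁻¹ by rw [mul_inv_rev, inv_eq f'.hj,
      show c * a * (a⁻¹ * u) = c * u by group]]
    exact A.mul_mem ((hl.cover c (hTt hc)).resolve_left hcA)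
      (A.inv_mem ((hl.cover u (hTt huT)).resolve_left huA))
  have hmem : c * u ∈ f'.group := by
    rcases hA _ hcu (hsq _ (T.mul_mem hc huT)) with e | e
    · exact e ▸ one_mem _
    · exact e ▸ f'.t_mem
  have := Subgroup.mul_mem _ hmem f'.j_mem
  rwa [mul_assoc, mul_self f'.hj, mul_one] at this

/-- A Sylow 2-subgroup of `G` inside `C(t)` and containing the four group. -/
theorem exists_sylow_two : ∃ T : Sylow 2 G, B.f.group ≤ T ∧ (T : Subgroup G) ≤ centralizer ({t} : Set G) := by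
  haveI : Fact (Nat.Prime 2) := ⟨Nat.prime_two⟩
  obtain ⟨P⟩ : Nonempty (Sylow 2 G) := inferInstance
  obtain ⟨s, hs, hsP, hPs⟩ := h.sylow_le_centralizer P
  obtain ⟨g, hg⟩ := isConj_iff.1 (h.conj s t hs B.f.ht)
  have hgP : ((g • P : Sylow 2 G) : Subgroup G) ≤ centralizer ({t} : Set G) := by
    rw [Sylow.coe_subgroup_smul]
    rintro _ ⟨x, hx, rfl⟩
    rw [← hg]
    exact (map_mem_centralizer (MulAut.conj g)).2 (hPs hx)
  obtain ⟨c, hc, hcx⟩ := exists_conj_into (g • P) hgP B.f.isPGroup (B.f.le_iff.2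
    ⟨mem_centralizer_singleton_iff.2 rfl, mem_centralizer_singleton_iff.2 B.f.comm⟩)
  refine ⟨c⁻¹ • g • P, fun x hx => ?_, ?_⟩
  · rw [Sylow.coe_subgroup_smul]
    exact ⟨_, hcx x hx, by simp [MulAut.smul_def, mul_assoc]⟩
  · rw [Sylow.coe_subgroup_smul]
    rintro _ ⟨x, hx, rfl⟩
    exact Subgroup.mul_mem _ (Subgroup.mul_mem _ (Subgroup.inv_mem _ hc) (hgP hx))
      (Subgroup.inv_mem _ (Subgroup.inv_mem _ hc))

/-- With an element of order four squaring to `t`. -/
theorem fused_four {r : G} (hr : r * r = t) : ∃ T : Sylow 2 G, t ∈ T ∧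
    (T : Subgroup G) ≤ centralizer ({t} : Set G) ∧
    (T : Subgroup G) ≤ normalizer (centerThompsonOf p S : Set G) ∧ (∃ u ∈ T, Four t u) ∧
    ∀ v ∈ T, orderOf v = 2 → ∃ n ∈ normalizer (centerThompsonOf p S : Set G), n * t * n⁻¹ = v := by
  haveI : Fact (Nat.Prime 2) := ⟨Nat.prime_two⟩
  obtain ⟨T, hfT, hTt⟩ := B.exists_sylow_two
  set N := normalizer (centerThompsonOf p S : Set G) with hNdef
  have hTS : (T : Subgroup G) ≤ normalizer (S : Set G) := B.two_group_normalizes T.isPGroup' hTt hfT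
  have hTN : (T : Subgroup G) ≤ N := hTS.trans (normalizer_le S)
  have htT : t ∈ (T : Subgroup G) := hfT B.f.t_mem
  refine ⟨T, htT, hTt, hTN, ⟨j, hfT B.f.j_mem, B.f⟩, ?_⟩
  -- a fused partner inside `T`
  obtain ⟨n, hn, hnc, hnne⟩ := B.not_isolated
  have huN : n * t * n⁻¹ ∈ N :=
    Subgroup.mul_mem _ (Subgroup.mul_mem _ hn (hTN htT)) (Subgroup.inv_mem _ hn)
  have hu2 : orderOf (n * t * n⁻¹) = 2 := by rw [orderOf_conj]; exact B.f.ht
  obtain ⟨c, hc, hcx⟩ := exists_conj_into T (le_inf hTt hTN : (T : Subgroup G) ≤ centralizer {t} ⊓ N)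
    (IsPGroup.of_card (n := 1) (by rw [Nat.card_zpowers, hu2, pow_one]) : IsPGroup 2 (zpowers (n * t * n⁻¹)))
    (zpowers_le.2 ⟨mem_centralizer_singleton_iff.2 hnc.symm, huN⟩)
  set m := c * n with hmdef
  have hmN : m ∈ N := N.mul_mem hc.2 hn
  set u := m * t * m⁻¹ with hudef
  have hu : u = c * (n * t * n⁻¹) * c⁻¹ := by rw [hudef, hmdef]; group
  have huT : u ∈ (T : Subgroup G) := hu ▸ hcx _ (mem_zpowers _)
  have hut : Commute u t := mem_centralizer_singleton_iff.1 (hTt huT)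
  have hune : u ≠ t := fun e => hnne (by
    have hct : c * t = t * c := mem_centralizer_singleton_iff.1 hc.1
    rw [hu, mul_inv_eq_iff_eq_mul, ← hct] at e
    exact mul_left_cancel e)
  have fu : Four t u := ⟨B.f.ht, by rw [hudef, orderOf_conj]; exact B.f.ht, hut, hune⟩
  set z' := m * z * m⁻¹ with hz'def
  have hz'W : z' ∈ centerThompsonOf p S := (Subgroup.mem_normalizer_iff.1 hmN z).1 B.z_W
  have hz'u : Commute z' u := by
    have := B.z_t.map (MulAut.conj m).toMonoidHom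
    exact this
  have hz'1 : z' ≠ 1 := fun e => B.z_ne (by simpa [mul_assoc, hz'def] using congrArg (fun y => m⁻¹ * y * m) e)
  have hz'o : Odd (orderOf z') := by rw [hz'def, orderOf_conj]; exact B.z_odd
  obtain ⟨A, a, hl⟩ := h.loc t B.f.ht
  have hrt : r ∈ centralizer ({t} : Set G) := by
    rw [mem_centralizer_singleton_iff, ← hr, mul_assoc]
  have hr4 : IsPGroup 2 (zpowers r) := by
    obtain ⟨i, -, hi⟩ := (Nat.dvd_prime_pow Nat.prime_two).1 (orderOf_dvd_of_pow_eq_one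
      (show r ^ 2 ^ 2 = 1 by rw [show (2 : ℕ) ^ 2 = 2 * 2 from rfl, pow_mul, pow_two, pow_two, hr, mul_self B.f.ht]))
    exact IsPGroup.of_card (n := i) (by rw [Nat.card_zpowers, hi])
  obtain ⟨d, hd, hdx⟩ := exists_conj_into T hTt hr4 (zpowers_le.2 hrt)
  have hr' : d * r * d⁻¹ * (d * r * d⁻¹) = t := by
    rw [show d * r * d⁻¹ * (d * r * d⁻¹) = d * (r * r) * d⁻¹ by group, hr,
      mem_centralizer_singleton_iff.1 hd, mul_inv_cancel_right]
  have hr'T : d * r * d⁻¹ ∈ (T : Subgroup G) := hdx _ (mem_zpowers r)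
  generalize d * r * d⁻¹ = ρ at hr' hr'T
  have hswap : ∀ v ∈ (T : Subgroup G), orderOf v = 2 → v ≠ t → ρ * v * ρ⁻¹ = t * v := by
    intro v hv hv2 hvt
    have hρA : ρ ∈ A := by_contra fun hA => ne_one B.f.ht (hr' ▸ hl.sq_eq_one (hTt hr'T) hA)
    have e := hl.inverts_of_not_mem (hTt hv) (fun hA => hvt (hl.uniq v hA hv2)) hρA
    rw [inv_eq hv2] at e
    calc ρ * v * ρ⁻¹ = ρ * v * (v * ρ * v) := by rw [e]
      _ = ρ * (v * v) * ρ * v := by group
      _ = t * v := by rw [mul_self hv2, mul_one, hr']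
  have hW : ∀ v ∈ (T : Subgroup G), orderOf v = 2 → v ≠ t →
      ∃ y ∈ centerThompsonOf p S, y ≠ 1 ∧ y ^ p = 1 ∧ Commute y v := by
    intro v hv hv2 hvt
    by_contra hcon
    have hfix : ∀ y ∈ centerThompsonOf p S, Commute y v → y = 1 := fun y hy hyv =>
      by_contra fun hy1 => hcon (exists_order_p hy B.hS hy1 hyv)
    have hfix' : ∀ y ∈ centerThompsonOf p S, Commute y (t * v) → y = 1 := fun y hy hyv => by
      have h1 : ρ⁻¹ * y * ρ ∈ centerThompsonOf p S :=
        (Subgroup.mem_normalizer_iff''.1 (hTN hr'T) y).1 hy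
      have h2 : Commute (ρ⁻¹ * y * ρ) v := by
        have := (hswap v hv hv2 hvt ▸ hyv).map (MulAut.conj ρ⁻¹).toMonoidHom
        simpa [mul_assoc] using this
      simpa [mul_assoc] using congrArg (fun x => ρ * x * ρ⁻¹) (hfix _ h1 h2)
    have hinv : ∀ w ∈ (T : Subgroup G), orderOf w = 2 →
        (∀ y ∈ centerThompsonOf p S, Commute y w → y = 1) →
        ∀ y ∈ centerThompsonOf p S, w * y * w⁻¹ = y⁻¹ := by
      intro w hw hw2 hwfix y hy
      let φ : centerThompsonOf p S →* centerThompsonOf p S :=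
        (normalizerMonoidHom (centerThompsonOf p S) ⟨w, hTN hw⟩ :
          MulAut (centerThompsonOf p S)).toMonoidHom
      have hφ : ∀ x : centerThompsonOf p S, ((φ x : centerThompsonOf p S) : G) = w * x * w⁻¹ :=
        fun _ => rfl
      have := InvolutionEigen.inverts_of_fpf φ (fun x => Subtype.ext (by
          rw [hφ, hφ, show w * (w * (x : G) * w⁻¹) * w⁻¹ = (w * w) * x * (w * w)⁻¹ by group, mul_self hw2]
          group))
        (fun x hx => Subtype.ext (hwfix x x.2 (by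
          have := congrArg Subtype.val hx
          rw [hφ] at this
          exact (mul_inv_eq_iff_eq_mul.1 this).symm))) ⟨y, hy⟩
      simpa [hφ] using congrArg Subtype.val this
    have ftv : orderOf (t * v) = 2 :=
      (Four.mk B.f.ht hv2 (mem_centralizer_singleton_iff.1 (hTt hv)) hvt).mul_right.hj
    have e1 := hinv v hv hv2 hfix z' hz'W
    have e2 := hinv (t * v) (mul_mem htT hv) ftv hfix' z' hz'W
    rw [show t * v * z' * (t * v)⁻¹ = t * (v * z' * v⁻¹) * t⁻¹ by group, e1] at e2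
    have e3 : t * z' * t⁻¹ = z' := inv_injective (by rw [← e2]; group)
    exact hz'1 (h.eq_one_of_four B.f.ht fu.hj hut hune (mul_inv_eq_iff_eq_mul.1 e3).symm hz'u hz'o)
  have hτ : ∀ v ∈ (T : Subgroup G), orderOf v = 2 → v ≠ t → ∃ n ∈ N, n * t * n⁻¹ = t * v := by
    intro v hv hv2 hvt
    have fv : Four t v := ⟨B.f.ht, hv2, mem_centralizer_singleton_iff.1 (hTt hv), hvt⟩
    obtain ⟨y, hyW, hy1, hyp, hyv⟩ := hW v hv hv2 hvt
    have hyo : Odd (orderOf y) := odd_of_pow_eq_one hp (k := 1) (by rw [pow_one]; exact hyp)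
    have hJ : thompsonSubgroupOf p S ≤ core y := fun a ha => h.mem_core hy1 hyo
      (mem_centralizer_iff.1 hyW.2 a ha)
      (odd_orderOf_of_mem (odd_card_of_pGroup hp B.hS) (PLocal.thompsonSubgroupOf_le S ha))
    have hK : fv.group ≤ normalizer (core y : Set G) := fv.le_iff.2
      ⟨normalizes_core (Or.inr (h.inverts hv2 B.f.ht fv.comm.symm (Ne.symm hvt) hyv hyo)),
        normalizes_core (Or.inl (by rw [← hyv.eq, mul_inv_cancel_right]))⟩
    obtain ⟨P, hJP, hPn⟩ := Coprime.exists_invariant_sylow_ge hK (fv.coprime (odd_core y))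
      (Or.inr (OddOrderTheorem.solvable (odd_core y))) hJ (B.hS.to_le (PLocal.thompsonSubgroupOf_le S))
      ((fv.le_iff.2 ⟨hTS htT, hTS hv⟩).trans (PLocal.normalizer_le_normalizer_thompsonSubgroupOf S))
    set S' := (P : Subgroup (core y)).map (core y).subtype with hS'
    have hW' : centerThompsonOf p S' = centerThompsonOf p S := by
      unfold Cfsg.centerThompsonOf
      rw [thompson_eq hJP (B.key_max t v S' fv (P.isPGroup'.map _) (hPn fv.t_mem) (hPn fv.j_mem))]
    obtain ⟨g, hg⟩ := isConj_iff.1 (h.conj t v B.f.ht hv2)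
    have hτ2 : g * r * g⁻¹ * (g * r * g⁻¹) = v := by
      rw [show g * r * g⁻¹ * (g * r * g⁻¹) = g * (r * r) * g⁻¹ by group, hr, hg]
    generalize g * r * g⁻¹ = τ at hτ2
    obtain ⟨A', a', hl'⟩ := h.loc v hv2
    have hτc : τ ∈ centralizer ({v} : Set G) := by
      rw [mem_centralizer_singleton_iff, ← hτ2, mul_assoc]
    have hτA : τ ∈ A' := by_contra fun hA => ne_one hv2 (hτ2 ▸ hl'.sq_eq_one hτc hA)
    have hτy : τ * y * τ⁻¹ = y := by
      rw [hl'.comm τ hτA y (h.mem_of_odd hl' (mem_centralizer_singleton_iff.2 hyv) hyo), mul_inv_cancel_right]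
    have e := hl'.inverts_of_not_mem (mem_centralizer_singleton_iff.2 fv.comm.symm)
      (fun hA => hvt (hl'.uniq t hA B.f.ht).symm) hτA
    rw [inv_eq B.f.ht] at e
    have hτt : τ * t * τ⁻¹ = t * v := by
      calc τ * t * τ⁻¹ = τ * t * (t * τ * t) := by rw [e]
        _ = τ * (t * t) * τ * t := by group
        _ = t * v := by rw [mul_self B.f.ht, mul_one, hτ2, fv.comm.eq]
    have hτt' : τ⁻¹ * t * τ = t * v := by
      rw [← e]
      calc t * τ * t * t * τ = t * τ * (t * t) * τ := by group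
        _ = t * v := by rw [mul_self B.f.ht, mul_one, mul_assoc, hτ2]
    have hτv : τ⁻¹ * v * τ = v := by rw [← hτ2]; group
    refine ⟨τ, ?_, hτt⟩
    rw [hNdef, ← hW']
    exact normalizer_le S' (h.sylow_normalized fv (odd_core y) (hK fv.t_mem) (hK fv.j_mem) P
      (hPn fv.t_mem) (hPn fv.j_mem) (normalizes_core (Or.inl hτy)) (by
      rw [hτt']; exact Or.inr (Or.inr (Or.inr rfl))) (by rw [hτv]; exact fv.j_mem))
  intro v hv hv2
  rcases eq_or_ne v t with rfl | hvt
  · exact ⟨1, one_mem _, by group⟩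
  · have fv : Four t v := ⟨B.f.ht, hv2, mem_centralizer_singleton_iff.1 (hTt hv), hvt⟩
    obtain ⟨n, hn, hnt⟩ := hτ (t * v) (mul_mem htT hv) fv.mul_right.hj fv.mul_right.ne
    exact ⟨n, hn, by rw [hnt, ← mul_assoc, mul_self B.f.ht, one_mul]⟩

/-- Without an element of order four. -/
theorem fused_klein (hno : ¬ ∃ r : G, r * r = t) : ∃ T : Sylow 2 G, t ∈ T ∧
    (T : Subgroup G) ≤ centralizer ({t} : Set G) ∧
    (T : Subgroup G) ≤ normalizer (centerThompsonOf p S : Set G) ∧ (∃ u ∈ T, Four t u) ∧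
    ∀ v ∈ T, orderOf v = 2 → ∃ n ∈ normalizer (centerThompsonOf p S : Set G), n * t * n⁻¹ = v := by
  haveI : Fact (Nat.Prime 2) := ⟨Nat.prime_two⟩
  obtain ⟨T₀, hfT₀, hT₀t⟩ := B.exists_sylow_two
  have hsq₀ : ∀ x ∈ (T₀ : Subgroup G), x * x = 1 := fun x hx => by
    rcases B.sylow_le_four hno B.f rfl T₀.isPGroup' hT₀t (hfT₀ B.f.j_mem) hx with rfl | rfl | rfl | rfl
    · rw [one_mul]
    · exact mul_self B.f.ht
    · exact mul_self B.f.hj
    · exact mul_self B.f.mul_right.hj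
  set N := normalizer (centerThompsonOf p S : Set G) with hNdef
  obtain ⟨n, hn, hnc, hnne⟩ := B.not_isolated
  set u := n * t * n⁻¹ with hudef
  have htN : t ∈ N := normalizer_le S B.t_S
  have huN : u ∈ N := Subgroup.mul_mem _ (Subgroup.mul_mem _ hn htN) (Subgroup.inv_mem _ hn)
  have f' : Four t u := ⟨B.f.ht, by rw [hudef, orderOf_conj]; exact B.f.ht, hnc.symm, hnne⟩
  obtain ⟨T, hfT⟩ := f'.isPGroup.exists_le_sylow
  obtain ⟨g, hg⟩ := MulAction.exists_smul_eq G T₀ T
  have hsq : ∀ x ∈ (T : Subgroup G), x * x = 1 := by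
    rw [← hg, Sylow.coe_subgroup_smul]
    rintro _ ⟨x, hx, rfl⟩
    show MulAut.conj g x * MulAut.conj g x = 1
    rw [← map_mul, hsq₀ x hx, map_one]
  have hcomm : ∀ a ∈ (T : Subgroup G), ∀ b ∈ (T : Subgroup G), a * b = b * a := fun a ha b hb => by
    have h1 := inv_eq_of_mul_eq_one_right (hsq _ (mul_mem ha hb))
    rwa [mul_inv_rev, inv_eq_of_mul_eq_one_right (hsq a ha), inv_eq_of_mul_eq_one_right (hsq b hb),
      eq_comm] at h1
  have htT := hfT f'.t_mem
  have huT := hfT f'.j_mem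
  have hTt : (T : Subgroup G) ≤ centralizer ({t} : Set G) := fun x hx =>
    mem_centralizer_singleton_iff.2 (hcomm x hx t htT)
  have hTf : (T : Subgroup G) ≤ f'.group := B.sylow_le_four hno f' rfl T.isPGroup' hTt huT
  have hTN : (T : Subgroup G) ≤ N := hTf.trans (f'.le_iff.2 ⟨htN, huN⟩)
  -- Burnside
  set M := centralizer ({u} : Set G) ⊓ N with hMdef
  have hTM : (T : Subgroup G) ≤ M :=
    le_inf (fun x hx => mem_centralizer_singleton_iff.2 (hcomm x hx u huT)) hTN
  have hnTM : ((n • T : Sylow 2 G) : Subgroup G) ≤ M := by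
    rw [Sylow.coe_subgroup_smul]
    rintro _ ⟨x, hx, rfl⟩
    exact ⟨(map_mem_centralizer (MulAut.conj n)).2 (hTt hx),
      Subgroup.mul_mem _ (Subgroup.mul_mem _ hn (hTN hx)) (Subgroup.inv_mem _ hn)⟩
  obtain ⟨c, hc, hcx⟩ := exists_conj_into T hTM (n • T).isPGroup' hnTM
  set σ := c * n with hσdef
  have hσT : ∀ x ∈ (T : Subgroup G), σ * x * σ⁻¹ ∈ (T : Subgroup G) := fun x hx => by
    have h1 := hcx (n * x * n⁻¹) (by rw [Sylow.coe_subgroup_smul]; exact ⟨x, hx, rfl⟩)
    rwa [show c * (n * x * n⁻¹) * c⁻¹ = σ * x * σ⁻¹ by rw [hσdef]; group] at h1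
  have hσt : σ * t * σ⁻¹ = u := by
    rw [show σ * t * σ⁻¹ = c * u * c⁻¹ by rw [hσdef, hudef]; group,
      mem_centralizer_singleton_iff.1 hc.1, mul_inv_cancel_right]
  have hσN : σ ∈ N := N.mul_mem hc.2 hn
  have hσu : σ * u * σ⁻¹ = t * u := by
    rcases hTf (hσT u huT) with e | e | e | e
    · exact absurd (conj_eq_one_iff.1 e) (ne_one f'.hj)
    · exfalso
      obtain ⟨a, k, hk, hak⟩ := Nat.exists_eq_pow_mul_and_not_dvd (orderOf_pos σ).ne' 2 (by norm_num)
      obtain ⟨i, rfl⟩ : Odd k := Nat.odd_iff.2 (Nat.two_dvd_ne_zero.1 hk)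
      set s := σ ^ (2 * i + 1) with hsdef
      have hσ2 : Commute (σ * σ) t := by
        refine (mul_inv_eq_iff_eq_mul (b := σ * σ)).1 ?_
        rw [show σ * σ * t * (σ * σ)⁻¹ = σ * (σ * t * σ⁻¹) * σ⁻¹ by group, hσt, e]
      have hst : s * t * s⁻¹ = u := by
        have h1 : Commute ((σ * σ) ^ i) t := hσ2.pow_left i
        rw [hsdef, pow_succ', pow_mul, pow_two,
          show σ * (σ * σ) ^ i * t * (σ * (σ * σ) ^ i)⁻¹ =
            σ * ((σ * σ) ^ i * t * ((σ * σ) ^ i)⁻¹) * σ⁻¹ by group, h1.eq, mul_inv_cancel_right, hσt]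
      have hsP : IsPGroup 2 (zpowers s) := by
        obtain ⟨l, -, hl⟩ := (Nat.dvd_prime_pow Nat.prime_two).1 (orderOf_dvd_of_pow_eq_one
          (show s ^ 2 ^ a = 1 by rw [hsdef, ← pow_mul, mul_comm, ← hak, pow_orderOf_eq_one]))
        exact IsPGroup.of_card (n := l) (by rw [Nat.card_zpowers, hl])
      have hσn : σ ∈ normalizer ((T : Subgroup G) : Set G) := Coprime.mem_normalizer_of_forall hσT
      have hsT : zpowers s ≤ (T : Subgroup G) := by
        have h1 : zpowers s ⊓ normalizer ((T : Subgroup G) : Set G) = zpowers s ⊓ (T : Subgroup G) :=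
          hsP.inf_normalizer_sylow T
        rw [inf_eq_left.2 (zpowers_le.2 (Subgroup.pow_mem _ hσn _))] at h1
        exact inf_eq_left.1 h1.symm
      refine f'.ne ?_
      rw [← hst, hcomm s (hsT (mem_zpowers s)) t htT, mul_inv_cancel_right]
    · exact absurd (e.trans hσt.symm) fun h1 => f'.ne (by simpa using h1)
    · exact e
  refine ⟨T, htT, hTt, hTN, ⟨u, huT, f'⟩, fun v hv hv2 => ?_⟩
  rcases hTf hv with rfl | rfl | rfl | rfl
  · exact absurd hv2 (by simp)
  · exact ⟨1, one_mem _, by group⟩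
  · exact ⟨σ, hσN, hσt⟩
  · exact ⟨σ * σ, N.mul_mem hσN hσN, by
      rw [show σ * σ * t * (σ * σ)⁻¹ = σ * (σ * t * σ⁻¹) * σ⁻¹ by group, hσt, hσu]⟩

theorem fused : ∃ T : Sylow 2 G, t ∈ T ∧
    (T : Subgroup G) ≤ centralizer ({t} : Set G) ∧
    (T : Subgroup G) ≤ normalizer (centerThompsonOf p S : Set G) ∧ (∃ u ∈ T, Four t u) ∧
    ∀ v ∈ T, orderOf v = 2 → ∃ n ∈ normalizer (centerThompsonOf p S : Set G), n * t * n⁻¹ = v := by
  by_cases hr : ∃ r : G, r * r = t
  · obtain ⟨r, hr⟩ := hr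
    exact B.fused_four hr
  · exact B.fused_klein hr

end Best

end Cfsg.Agent.DGroup
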