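import Cfsg.Agent.EqLemmas
import Cfsg.Agent.Lib.Involution.Basic
import Cfsg.Agent.Lib.Quadratic.Stable
import Cfsg.Agent.Lib.PLocal.ZJControl
import Cfsg.Agent.Lib.PairsCyclic.Basic
import Cfsg.Agent.Lib.Coprime.Basic
import Cfsg.Agent.Lib.Cores.Basic
import Cfsg.Agent.Lib.Cores.Subnormal

/-!
Groups in which the centraliser of an involution is generalised dihedral with abelian kernel
containing a unique involution (the `D`-group situation, owner: helper10).

* `Loc t A u` : `C(t) = A ∪ A u`, `A` abelian with only involution `t`, `u` inverting `A`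
* `DHyp G` : all involutions conjugate and each has such a centraliser
* `DHyp.commute_odd`, `DHyp.inverts` : odd elements of `C(t)` commute and are inverted by every other
  involution of `C(t)`
* `DHyp.sl2Free`
-/

set_option autoImplicit false

namespace Cfsg.Agent.DGroup

open Subgroup Cfsg Involution

universe v

variable {G : Type v} [Group G]

/-- The centraliser of `t` is `A⟨u⟩`, with `A` abelian, `t` its only involution, `u` inverting it. -/
structure Loc (t : G) (A : Subgroup G) (u : G) : Prop where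
  ht : orderOf t = 2
  le_cent : A ≤ centralizer ({t} : Set G)
  comm : ∀ a ∈ A, ∀ b ∈ A, a * b = b * a
  t_mem : t ∈ A
  uniq : ∀ a ∈ A, orderOf a = 2 → a = t
  hu : orderOf u = 2
  u_cent : u ∈ centralizer ({t} : Set G)
  u_not : u ∉ A
  inv : ∀ a ∈ A, u * a * u⁻¹ = a⁻¹
  cover : ∀ c ∈ centralizer ({t} : Set G), c ∈ A ∨ c * u ∈ A

theorem map_mem_centralizer {G' : Type*} [Group G'] (e : G ≃* G') {t c : G} :
    e c ∈ centralizer ({e t} : Set G') ↔ c ∈ centralizer ({t} : Set G) := by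
  rw [mem_centralizer_singleton_iff, mem_centralizer_singleton_iff, ← map_mul, ← map_mul,
    e.injective.eq_iff]

theorem Loc.map {t : G} {A : Subgroup G} {u : G} (h : Loc t A u) (e : G ≃* G) :
    Loc (e t) (A.map e.toMonoidHom) (e u) where
  ht := by rw [MulEquiv.orderOf_eq]; exact h.ht
  le_cent := by
    rintro _ ⟨a, ha, rfl⟩
    exact (map_mem_centralizer e).2 (h.le_cent ha)
  comm := by
    rintro _ ⟨a, ha, rfl⟩ _ ⟨b, hb, rfl⟩
    show e a * e b = e b * e a
    rw [← map_mul, ← map_mul, h.comm a ha b hb]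
  t_mem := ⟨t, h.t_mem, rfl⟩
  uniq := by
    rintro _ ⟨a, ha, rfl⟩ ho
    exact congrArg e (h.uniq a ha ((MulEquiv.orderOf_eq e a).symm.trans ho))
  hu := by rw [MulEquiv.orderOf_eq]; exact h.hu
  u_cent := (map_mem_centralizer e).2 h.u_cent
  u_not := by
    rintro ⟨a, ha, hae⟩
    exact h.u_not (e.injective hae ▸ ha)
  inv := by
    rintro _ ⟨a, ha, rfl⟩
    show e u * e a * (e u)⁻¹ = (e a)⁻¹
    rw [← map_inv, ← map_mul, ← map_mul, h.inv a ha, map_inv]
  cover := fun c hc => by
    rw [← e.apply_symm_apply c] at hc ⊢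
    rcases h.cover _ ((map_mem_centralizer e).1 hc) with hm | hm
    · exact Or.inl ⟨_, hm, rfl⟩
    · exact Or.inr ⟨_, hm, map_mul e _ _⟩

namespace Loc

variable {t : G} {A : Subgroup G} {u : G} (h : Loc t A u)
include h

theorem sq_eq_one {c : G} (hc : c ∈ centralizer ({t} : Set G)) (hA : c ∉ A) : c * c = 1 := by
  have ha := (h.cover c hc).resolve_left hA
  have e := h.inv _ ha
  have hu := mul_self h.hu
  rw [inv_eq h.hu] at e
  calc c * c = (c * u) * (u * (c * u) * u) := by
        rw [show (c * u) * (u * (c * u) * u) = c * (u * u) * c * (u * u) by group, hu, mul_one, mul_one]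
    _ = 1 := by rw [e, mul_inv_cancel]

theorem inverts_of_not_mem {c : G} (hc : c ∈ centralizer ({t} : Set G)) (hA : c ∉ A) {a : G}
    (ha : a ∈ A) : c * a * c⁻¹ = a⁻¹ := by
  have hb := (h.cover c hc).resolve_left hA
  have e := h.inv a ha
  rw [inv_eq h.hu] at e
  calc c * a * c⁻¹ = (c * u) * (u * a * u) * (c * u)⁻¹ := by
        rw [mul_inv_rev, inv_eq h.hu,
          show c * u * (u * a * u) * (u * c⁻¹) = c * (u * u) * a * (u * u) * c⁻¹ by group,
          mul_self h.hu, mul_one, mul_one]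
    _ = a⁻¹ := by rw [e, h.comm _ hb _ (A.inv_mem ha), mul_inv_cancel_right]

end Loc

/-- All involutions are conjugate and each has a centraliser of this shape. -/
structure DHyp (G : Type v) [Group G] : Prop where
  exists_invol : ∃ t : G, orderOf t = 2
  conj : ∀ s t : G, orderOf s = 2 → orderOf t = 2 → IsConj s t
  loc : ∀ t : G, orderOf t = 2 → ∃ A u, Loc t A u

theorem dhyp_of_loc {t : G} {A : Subgroup G} {u : G} (h : Loc t A u)
    (hconj : ∀ s t : G, orderOf s = 2 → orderOf t = 2 → IsConj s t) : DHyp G where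
  exists_invol := ⟨t, h.ht⟩
  conj := hconj
  loc := fun s hs => by
    obtain ⟨g, rfl⟩ := isConj_iff.1 (hconj t s h.ht hs)
    exact ⟨_, _, h.map (MulAut.conj g)⟩

namespace DHyp

variable (h : DHyp G)
include h

theorem mem_of_odd {t : G} {A : Subgroup G} {u : G} (hl : Loc t A u) {c : G}
    (hc : c ∈ centralizer ({t} : Set G)) (ho : Odd (orderOf c)) : c ∈ A := by
  by_contra hA
  have h1 := hl.sq_eq_one hc hA
  have h2 : c ≠ 1 := fun e => hA (e ▸ A.one_mem)
  rw [orderOf_of_sq h1 h2] at ho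
  exact absurd ho (by decide)

theorem commute_odd {t x y : G} (ht : orderOf t = 2) (hx : Commute x t) (hy : Commute y t)
    (hxo : Odd (orderOf x)) (hyo : Odd (orderOf y)) : Commute x y := by
  obtain ⟨A, u, hl⟩ := h.loc t ht
  exact hl.comm x (h.mem_of_odd hl (mem_centralizer_singleton_iff.2 hx) hxo) y
    (h.mem_of_odd hl (mem_centralizer_singleton_iff.2 hy) hyo)

theorem inverts {t j x : G} (ht : orderOf t = 2) (hj : orderOf j = 2) (hjt : Commute j t)
    (hne : j ≠ t) (hx : Commute x t) (hxo : Odd (orderOf x)) : j * x * j⁻¹ = x⁻¹ := by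
  obtain ⟨A, u, hl⟩ := h.loc t ht
  exact hl.inverts_of_not_mem (mem_centralizer_singleton_iff.2 hjt)
    (fun hA => hne (hl.uniq j hA hj)) (h.mem_of_odd hl (mem_centralizer_singleton_iff.2 hx) hxo)

theorem eq_one_of_four {t j x : G} (ht : orderOf t = 2) (hj : orderOf j = 2) (hjt : Commute j t)
    (hne : j ≠ t) (hxt : Commute x t) (hxj : Commute x j) (hxo : Odd (orderOf x)) : x = 1 := by
  have h1 := h.inverts ht hj hjt hne hxt hxo
  rw [← hxj.eq, mul_inv_cancel_right] at h1
  have h2 : x * x = 1 := by nth_rw 2 [h1]; exact mul_inv_cancel x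
  by_contra hne1
  rw [orderOf_of_sq h2 hne1] at hxo
  exact absurd hxo (by decide)

theorem exists_partner {t : G} (ht : orderOf t = 2) :
    ∃ j : G, orderOf j = 2 ∧ Commute j t ∧ j ≠ t := by
  obtain ⟨A, u, hl⟩ := h.loc t ht
  exact ⟨u, hl.hu, mem_centralizer_singleton_iff.1 hl.u_cent, fun e => hl.u_not (e ▸ hl.t_mem)⟩

theorem sylow_le_centralizer [Finite G] (P : Sylow 2 G) :
    ∃ t : G, orderOf t = 2 ∧ t ∈ (P : Subgroup G) ∧
      (P : Subgroup G) ≤ centralizer ({t} : Set G) := by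
  haveI : Fact (Nat.Prime 2) := ⟨Nat.prime_two⟩
  obtain ⟨s, hs⟩ := h.exists_invol
  have hne : (P : Subgroup G) ≠ ⊥ := fun e => by
    have h1 := P.dvd_card_of_dvd_card (hs ▸ orderOf_dvd_natCard s)
    rw [e, card_bot] at h1
    exact absurd h1 (by decide)
  obtain ⟨z, hz, hz1, hz2⟩ := PLocal.exists_central_of_order_p P.isPGroup' hne
  refine ⟨z, orderOf_of_sq (by rw [← sq]; exact hz2) hz1, hz.1, fun x hx => ?_⟩
  rw [mem_centralizer_singleton_iff]
  exact mem_centralizer_iff.1 hz.2 x hx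

theorem two_group_comm [Finite G] {P : Subgroup G} (hP : IsPGroup 2 P) {a b : G} (ha : a ∈ P)
    (hb : b ∈ P) (ha2 : a * a ≠ 1) (hb2 : b * b ≠ 1) : a * b = b * a := by
  obtain ⟨S, hS⟩ := hP.exists_le_sylow
  obtain ⟨t, ht, -, hle⟩ := h.sylow_le_centralizer S
  obtain ⟨A, u, hl⟩ := h.loc t ht
  have hmem : ∀ c ∈ P, c * c ≠ 1 → c ∈ A := fun c hc hc2 =>
    by_contra fun hA => hc2 (hl.sq_eq_one (hle (hS hc)) hA)
  exact hl.comm a (hmem a ha ha2) b (hmem b hb hb2)

end DHyp

theorem sl2_central_of_sq {p : ℕ} [Fact p.Prime] (hp : p ≠ 2)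
    (g : Matrix.SpecialLinearGroup (Fin 2) (ZMod p)) (hg : g * g = 1)
    (y : Matrix.SpecialLinearGroup (Fin 2) (ZMod p)) : g * y = y * g := by
  have h2 := Quadratic.two_ne_zero_char (K := ZMod p) hp
  obtain ⟨a, b, c, d, hM⟩ : ∃ a b c d, g.1 = !![a, b; c, d] :=
    ⟨_, _, _, _, Matrix.eta_fin_two g.1⟩
  have hdet : a * d - b * c = 1 := by
    have := g.2
    rwa [hM, Matrix.det_fin_two_of] at this
  have hsq : g.1 * g.1 = 1 := congrArg Subtype.val hg
  rw [hM, Matrix.mul_fin_two] at hsq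
  have e00 := congrFun (congrFun hsq 0) 0
  have e01 := congrFun (congrFun hsq 0) 1
  have e10 := congrFun (congrFun hsq 1) 0
  simp [Matrix.one_apply] at e00 e01 e10
  have hs : a * (a + d) = 2 := by linear_combination e00 + hdet
  have hs0 : a + d ≠ 0 := fun h0 => h2 (by rw [← hs, h0, mul_zero])
  have hb : b = 0 := (mul_eq_zero.1 (by linear_combination e01 : b * (a + d) = 0)).resolve_right hs0
  have hc : c = 0 := (mul_eq_zero.1 (by linear_combination e10 : c * (a + d) = 0)).resolve_right hs0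
  subst hb hc
  have ha0 : a ≠ 0 := fun h0 => by simp [h0] at hdet
  have had : a = d := mul_left_cancel₀ ha0 (by linear_combination e00 - hdet)
  subst had
  apply Subtype.ext
  show g.1 * y.1 = y.1 * g.1
  rw [hM]
  ext i j
  fin_cases i <;> fin_cases j <;> simp [Matrix.mul_apply, Fin.sum_univ_two, mul_comm]

theorem DHyp.sl2Free [Finite G] (h : DHyp G) {p : ℕ} [Fact p.Prime] (hp : p ≠ 2) :
    PLocal.SL2Free p G := by
  rintro ⟨K, L, hL, ⟨e⟩⟩
  haveI : Fact (Nat.Prime 2) := ⟨Nat.prime_two⟩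
  obtain ⟨U⟩ : Nonempty (Sylow 2 K) := inferInstance
  set q := e.toMonoidHom.comp (QuotientGroup.mk' (L.subgroupOf K))
  have hq : Function.Surjective q := e.surjective.comp (QuotientGroup.mk'_surjective _)
  refine Quadratic.not_comm_sylow_two_sl2 hp (U.mapSurjective hq) ⟨⟨?_⟩⟩
  rintro ⟨_, a, ha, rfl⟩ ⟨_, b, hb, rfl⟩
  apply Subtype.ext
  show q a * q b = q b * q a
  by_cases ha2 : a * a = 1
  · exact sl2_central_of_sq hp _ (by rw [← map_mul, ha2, map_one]) _
  by_cases hb2 : b * b = 1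
  · exact (sl2_central_of_sq hp _ (by rw [← map_mul, hb2, map_one]) _).symm
  have h1 := h.two_group_comm (U.isPGroup'.map K.subtype) (mem_map_of_mem _ ha) (mem_map_of_mem _ hb)
    (fun e1 => ha2 (Subtype.ext e1)) (fun e1 => hb2 (Subtype.ext e1))
  rw [← map_mul, ← map_mul]
  exact congrArg q (Subtype.ext h1)

end Cfsg.Agent.DGroup
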