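import Cfsg.Agent.Lib.DGroup.Klein
import Cfsg.Agent.Lib.ZStar.Glauberman
import Cfsg.Agent.Lib.PairsCyclic.Basic
import Cfsg.Agent.Lib.Frobenius.SolvableAut

/-!
The semidihedral case does not occur.

* `SDSylow` arithmetic
* `Klein.false_of_sd`
-/

set_option autoImplicit false

namespace Cfsg.Agent.DGroup

open Subgroup Cfsg Involution

universe v

variable {G : Type v} [Group G] [Finite G]

/-- A group with a normal 2-complement is solvable. -/
theorem solvable_of_complement {H : Type v} [Group H] [Finite H]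
    (h : Cfsg.HasNormalPComplement 2 H) : Group.IsSolvable H := by
  haveI : Fact (Nat.Prime 2) := ⟨Nat.prime_two⟩
  obtain ⟨Q, N, hN, hNQ⟩ := h
  haveI := hN
  refine (Group.isSolvable_iff_subgroup_quotient N).2 ⟨OddOrderTheorem.solvable ?_, ?_⟩
  · rw [← hNQ.index_eq_card]
    exact Nat.odd_iff.2 (Nat.two_dvd_ne_zero.1 Q.not_dvd_index)
  · obtain ⟨n, hn⟩ := IsPGroup.iff_card.1 Q.isPGroup'
    haveI : Group.IsNilpotent (H ⧸ N) := (IsPGroup.of_card (p := 2) (n := n)
      (by rw [← Subgroup.index_eq_card, hNQ.symm.index_eq_card, hn])).isNilpotent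
    infer_instance

namespace SDSylow

variable {R : Sylow 2 G} {k : ℕ} {a t : G} (S : SDSylow R k a t)
include S

omit [Finite G] in
theorem zpow_eq_one_iff (i : ℤ) : a ^ i = 1 ↔ (2 : ℤ) ^ (k + 3) ∣ i := by
  rw [← orderOf_dvd_iff_zpow_eq_one, S.ord]
  push_cast
  rfl

omit [Finite G] in
theorem conj_zpow' (i : ℤ) : t * a ^ i * t⁻¹ = a ^ (i * ((2 : ℤ) ^ (k + 2) - 1)) := by
  have h1 : ((2 ^ (k + 2) - 1 : ℕ) : ℤ) = (2 : ℤ) ^ (k + 2) - 1 := by
    rw [Nat.cast_sub Nat.one_le_two_pow]; push_cast; rfl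
  rw [← _root_.conj_zpow, S.conj, ← zpow_natCast, ← zpow_mul, h1, mul_comm]

omit [Finite G] in
theorem not_commute : ¬ Commute t a := fun h => by
  have h1 := S.conj_zpow' 1
  rw [zpow_one, h.eq, mul_inv_cancel_right, one_mul] at h1
  have h2 : a ^ ((2 : ℤ) ^ (k + 2) - 1 - 1) = 1 := by
    rw [zpow_sub, zpow_one, ← h1, mul_inv_cancel]
  have h3 := (S.zpow_eq_one_iff _).1 h2
  have hp : (4 : ℤ) ≤ 2 ^ (k + 2) :=
    calc (4 : ℤ) = 2 ^ 2 := by norm_num
      _ ≤ _ := pow_le_pow_right₀ (by norm_num) (by omega)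
  have h4 := Int.le_of_dvd (by linarith) h3
  rw [pow_succ 2 (k + 2)] at h4
  linarith

omit [Finite G] in
theorem exists_outer {x : G} (hx : x ∈ R) (hxa : x ∉ zpowers a) (ht : t * t = 1) :
    ∃ i : ℤ, x = a ^ i * t := by
  obtain ⟨i, hi⟩ := mem_zpowers_iff.1 ((S.cover x hx).resolve_left hxa)
  exact ⟨i, by rw [hi, mul_assoc, ht, mul_one]⟩

omit [Finite G] in
theorem outer_sq (ht : orderOf t = 2) (i : ℤ) : a ^ i * t * (a ^ i * t) = a ^ (i * (2 : ℤ) ^ (k + 2)) := by
  rw [show a ^ i * t * (a ^ i * t) = a ^ i * (t * a ^ i * t⁻¹) * (t * t) by group,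
    S.conj_zpow', mul_self ht, mul_one, ← zpow_add]
  congr 1
  ring

omit [Finite G] in
theorem outer_fourth (ht : orderOf t = 2) {x : G} (hx : x ∈ R) (hxa : x ∉ zpowers a) : x ^ 4 = 1 := by
  obtain ⟨i, rfl⟩ := S.exists_outer hx hxa (mul_self ht)
  rw [show (4 : ℕ) = 2 * 2 from rfl, pow_mul, pow_two, pow_two, S.outer_sq ht, ← zpow_add,
    S.zpow_eq_one_iff]
  exact ⟨i, by rw [pow_succ 2 (k + 2)]; ring⟩

omit [Finite G] in
/-- The outer involutions are conjugate to `t`. -/
theorem isConj_of_outer (ht : orderOf t = 2) {x : G} (hx : x ∈ R) (hxa : x ∉ zpowers a)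
    (hx2 : x * x = 1) : IsConj x t := by
  obtain ⟨i, rfl⟩ := S.exists_outer hx hxa (mul_self ht)
  rw [S.outer_sq ht, S.zpow_eq_one_iff, pow_succ' 2 (k + 2)] at hx2
  obtain ⟨j, rfl⟩ : (2 : ℤ) ∣ i := (mul_dvd_mul_iff_right (pow_ne_zero (k + 2) (two_ne_zero))).1 hx2
  set l : ℤ := -j * (1 + 2 ^ (k + 1)) with hl
  refine isConj_iff.2 ⟨a ^ l, ?_⟩
  have h1 : a ^ (l + 2 * j - l * ((2 : ℤ) ^ (k + 2) - 1)) = 1 := by
    rw [S.zpow_eq_one_iff, hl]
    exact ⟨j * 2 ^ k, by ring⟩
  calc a ^ l * (a ^ (2 * j) * t) * (a ^ l)⁻¹ = a ^ l * a ^ (2 * j) * (t * a ^ (-l) * t⁻¹) * t := by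
        rw [zpow_neg]; group
    _ = a ^ (l + 2 * j - l * ((2 : ℤ) ^ (k + 2) - 1)) * t := by
        rw [S.conj_zpow', ← zpow_add, ← zpow_add]
        congr 2
        ring
    _ = t := by rw [h1, one_mul]

end SDSylow

theorem Klein.false_of_sd {R : Sylow 2 G} {t z : G} {A : Subgroup G} (K : Klein R t z A)
    (hns : ¬ Group.IsSolvable G) (hO : Cfsg.pPrimeCore 2 G = ⊥) {k : ℕ} {a : G}
    (S : SDSylow R k a t) : False := by
  classical
  haveI : Fact (Nat.Prime 2) := ⟨Nat.prime_two⟩
  have ht2 := K.loc.ht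
  have hz2 := K.loc.hu
  have htt := mul_self ht2
  have hzz := mul_self hz2
  have hza : z ∈ zpowers a := by
    by_contra hout
    obtain ⟨i, hi⟩ := S.exists_outer K.z_mem hout htt
    refine S.not_commute ?_
    rw [show t = (a ^ i)⁻¹ * z by rw [hi]; group]
    exact ((Commute.refl a).zpow_left i).inv_left.mul_left (show Commute a z from K.central a S.a_mem).symm
  -- involutions of `R`
  have hcls : ∀ x ∈ R, orderOf x = 2 → x = z ∨ IsConj x t := fun x hx hx2 => by
    by_cases hxa : x ∈ zpowers a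
    · exact Or.inl (KleinSimple.eq_of_orderOf_two (isOfFinOrder_of_finite a) hxa hza hx2 hz2)
    · exact Or.inr (S.isConj_of_outer ht2 hx hxa (mul_self hx2))
  have hiso : IsIsolatedInvolution z := ZStar.isolated_of_sylow R hz2 K.z_mem fun g hg =>
    (hcls _ hg (by rw [orderOf_conj]; exact hz2)).resolve_right fun h =>
      K.not_conj (h.symm.trans (isConj_iff.2 ⟨g, rfl⟩).symm)
  have hzc : ∀ g : G, g * z = z * g :=
    Subgroup.mem_center_iff.1 (ZStar.isolated_mem_center ZStar.uniqueInvolution hiso hO)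
  have hcent : ∀ {x y : G}, IsConj x t → Commute y x → y = 1 ∨ y = x ∨ y = z ∨ y = x * z := by
    intro x y hx hy
    obtain ⟨h, hh⟩ := isConj_iff.1 hx
    have h1 : Commute (h * y * h⁻¹) t := by
      have := (hy.map (MulAut.conj h).toMonoidHom)
      simp only [MulEquiv.coe_toMonoidHom, MulAut.conj_apply, hh] at this
      exact this
    have back : y = h⁻¹ * (h * y * h⁻¹) * h := by group
    have hzh : h⁻¹ * z * h = z := by rw [hzc h⁻¹, mul_assoc, inv_mul_cancel, mul_one]
    have hth : h⁻¹ * t * h = x := by rw [← hh]; group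
    rcases K.cent_four h1 (hzc _) with e | e | e | e <;> rw [e] at back
    · left; rw [back]; group
    · right; left; rw [back, hth]
    · right; right; left; rw [back, hzh]
    · right; right; right
      rw [back, show h⁻¹ * (t * z) * h = (h⁻¹ * t * h) * (h⁻¹ * z * h) by group, hth, hzh]
  -- the element `w`
  set w : G := a ^ ((2 : ℤ) ^ (k + 1)) with hw
  have hwa : w ∈ zpowers a := zpow_mem (mem_zpowers a) _
  have hwR : w ∈ R := Subgroup.zpow_mem _ S.a_mem _
  have hmid : orderOf (w * w) = 2 := by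
    rw [hw, ← zpow_add]
    refine orderOf_of_sq ?_ fun e => ?_
    · rw [← zpow_add, S.zpow_eq_one_iff]
      exact ⟨1, by ring⟩
    · rw [S.zpow_eq_one_iff, show (2 : ℤ) ^ (k + 1) + 2 ^ (k + 1) = 2 ^ (k + 2) by ring,
        pow_succ 2 (k + 2)] at e
      have := Int.le_of_dvd (by positivity) e
      have : (0 : ℤ) < 2 ^ (k + 2) := by positivity
      linarith
  have hww : w * w = z :=
    KleinSimple.eq_of_orderOf_two (isOfFinOrder_of_finite a) (mul_mem hwa hwa) hza hmid hz2
  have hne1 : z ≠ 1 := ne_one hz2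
  have htw : t * w * t⁻¹ = w⁻¹ := by
    rw [hw, S.conj_zpow', ← mul_inv_eq_one, inv_inv, ← zpow_add, S.zpow_eq_one_iff]
    exact ⟨2 ^ k, by ring⟩
  have hwinv : w⁻¹ = w * z := by
    rw [inv_eq_of_mul_eq_one_right (a := w) (b := w * z) (by rw [← mul_assoc, hww, hzz])]
  have hwt : w * t * w⁻¹ = t * z := by
    calc w * t * w⁻¹ = t * (t⁻¹ * w * t) * w⁻¹ := by group
      _ = t * w⁻¹ * w⁻¹ := by rw [inv_eq ht2] at htw ⊢; rw [htw]
      _ = t * z := by rw [mul_assoc, ← mul_inv_rev, hww, inv_eq hz2]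
  have hτ : ∀ {τ w' : G}, IsConj τ t → w * τ * w⁻¹ = τ * z → w' * w' = z →
      (w' * τ * w'⁻¹ = τ ∨ w' * τ * w'⁻¹ = τ * z) → w' = w ∨ w' = w * z := by
    intro τ w' hτt hwτ hw' hcases
    have hττ : τ * τ = 1 := mul_self ((orderOf_eq_of_isConj hτt).trans ht2)
    rcases hcases with h | h
    · exfalso
      have hc : Commute w' τ := mul_inv_eq_iff_eq_mul.1 h
      rcases hcent hτt hc with e | e | e | e <;> rw [e] at hw'
      · exact hne1 (by rw [← hw', one_mul])
      · exact hne1 (hw'.symm.trans hττ)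
      · exact hne1 (hw'.symm.trans hzz)
      · refine hne1 (hw'.symm.trans ?_)
        rw [show τ * z * (τ * z) = τ * (z * τ) * z by group, ← hzc τ,
          show τ * (τ * z) * z = τ * τ * (z * z) by group, hττ, hzz, mul_one]
    · have hc : Commute (w⁻¹ * w') τ := by
        refine mul_inv_eq_iff_eq_mul.1 ?_
        rw [show w⁻¹ * w' * τ * (w⁻¹ * w')⁻¹ = w⁻¹ * (w' * τ * w'⁻¹) * w by group, h, ← hwτ]
        group
      have hw'' : w' = w * (w⁻¹ * w') := by group
      have key : w * τ * (w * τ) = 1 := by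
        calc w * τ * (w * τ) = (w * τ * w⁻¹) * (w * w) * τ := by group
          _ = τ * (z * z) * τ := by rw [hwτ, hww]; group
          _ = 1 := by rw [hzz, mul_one, hττ]
      rcases hcent hτt hc with e | e | e | e <;> rw [e] at hw''
      · exact Or.inl (by rw [hw'', mul_one])
      · exact absurd (hw'.symm.trans (by rw [hw'']; exact key)) hne1
      · exact Or.inr hw''
      · refine absurd (hw'.symm.trans ?_) hne1
        rw [hw'', show w * (τ * z) * (w * (τ * z)) = w * τ * (z * (w * τ)) * z by group, ← hzc (w * τ),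
          show w * τ * (w * τ * z) * z = w * τ * (w * τ) * (z * z) by group, key, hzz, mul_one]
  have htwR : t * w ∈ R := mul_mem K.t_mem hwR
  have htw2 : t * w * (t * w) = 1 := by
    rw [show t * w * (t * w) = t * w * t⁻¹ * (t * t) * w by group, htw, htt, mul_one, inv_mul_cancel]
  have htwt : IsConj (t * w) t := S.isConj_of_outer ht2 htwR
    (fun h => S.t_not (by simpa using mul_mem h (inv_mem hwa))) htw2
  have hwtw : w * (t * w) * w⁻¹ = t * w * z := by
    rw [show w * (t * w) * w⁻¹ = w * t * w⁻¹ * w by group, hwt, mul_assoc, ← hzc w, mul_assoc]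
  -- the quotient by `⟨z⟩`
  set Z := zpowers z with hZ
  haveI hZn : Z.Normal := ⟨fun x hx g => by
    obtain ⟨i, rfl⟩ := mem_zpowers_iff.1 hx
    rw [((show Commute g z from hzc g).zpow_right i).eq, mul_inv_cancel_right]
    exact zpow_mem (mem_zpowers z) i⟩
  set π := QuotientGroup.mk' Z
  have hπ : ∀ {x y : G}, π x = π y → y = x ∨ y = x * z := fun {x y} h => by
    obtain ⟨i, hi⟩ := mem_zpowers_iff.1 (QuotientGroup.eq.1 h : x⁻¹ * y ∈ Z)
    rw [← zpow_mod_orderOf, hz2] at hi
    rcases Int.emod_two_eq_zero_or_one i with h2 | h2 <;> simp only [Nat.cast_ofNat, h2] at hi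
    · exact Or.inl (by rw [zpow_zero] at hi; exact (inv_mul_eq_one.1 hi.symm).symm)
    · exact Or.inr (by rw [zpow_one] at hi; rw [hi]; group)
  have hπz : π z = 1 := (QuotientGroup.eq_one_iff z).2 (mem_zpowers z)
  have hconj : ∀ g : G, Commute (π (g * w * g⁻¹)) (π w) := by
    intro g
    set w' := g * w * g⁻¹ with hw'
    have hw'2 : w' * w' = z := by
      rw [hw', show g * w * g⁻¹ * (g * w * g⁻¹) = g * (w * w) * g⁻¹ by group, hww, hzc g, mul_inv_cancel_right]
    have good : w' = w ∨ w' = w * z → Commute (π w') (π w) := by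
      rintro (e | e) <;> rw [e]
      rw [map_mul, hπz, mul_one]
    have hpt : orderOf (π t) = 2 := orderOf_of_sq (by rw [← map_mul, htt, map_one]) fun e => by
      rcases hπ (e.trans π.map_one.symm) with h | h
      · exact ne_one ht2 h.symm
      · exact K.z_ne (by rw [← inv_eq ht2]; exact eq_inv_of_mul_eq_one_right h.symm)
    have hpw : orderOf (π w') = 2 := orderOf_of_sq (by rw [← map_mul, hw'2, hπz]) fun e => by
      rcases hπ (π.map_one.trans e.symm) with h | h
      · exact hne1 (by rw [← hw'2, h, one_mul])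
      · rw [one_mul] at h; exact hne1 (by rw [← hw'2, h, hzz])
    have hnc : ¬ IsConj (π t) (π w') := by
      intro h
      obtain ⟨q, hq⟩ := isConj_iff.1 h
      obtain ⟨g₀, rfl⟩ := QuotientGroup.mk'_surjective Z q
      change π g₀ * π t * (π g₀)⁻¹ = π w' at hq
      rw [← map_mul, ← map_inv, ← map_mul] at hq
      have h0 : g₀ * t * g₀⁻¹ * (g₀ * t * g₀⁻¹) = 1 := by
        rw [show g₀ * t * g₀⁻¹ * (g₀ * t * g₀⁻¹) = g₀ * (t * t) * g₀⁻¹ by group, htt, mul_one, mul_inv_cancel]
      rcases hπ hq with e | e <;> rw [e] at hw'2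
      · exact hne1 (hw'2.symm.trans h0)
      · refine hne1 (hw'2.symm.trans ?_)
        set y := g₀ * t * g₀⁻¹
        rw [show y * z * (y * z) = y * (z * y) * z by group, ← hzc y,
          show y * (y * z) * z = y * y * (z * z) by group, h0, hzz, mul_one]
    obtain ⟨q, hq2, hqt, hqw, -⟩ :=
      Involution.exists_commuting_involution hpt hpw (Involution.even_of_not_isConj hpt hpw hnc)
    obtain ⟨i, rfl⟩ := QuotientGroup.mk'_surjective Z q
    change Commute (π i) (π t) at hqt
    change Commute (π i) (π w') at hqw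
    have hi1 : π i ≠ 1 := ne_one hq2
    have hit : i * t * i⁻¹ = t ∨ i * t * i⁻¹ = t * z := hπ (by
      rw [map_mul, map_mul, hqt.eq, map_inv, mul_inv_cancel_right])
    have viaτ : ∀ {τ}, IsConj τ t → w * τ * w⁻¹ = τ * z → π i = π τ → Commute (π w') (π w) :=
      fun {τ} h1 h2 h3 => good (hτ h1 h2 hw'2 (hπ (by
        rw [map_mul, map_mul, ← h3, ← hqw.eq, map_inv, mul_inv_cancel_right])))
    rcases hit with h | h
    · rcases hcent (IsConj.refl t) (mul_inv_eq_iff_eq_mul.1 h) with e | e | e | e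
      · exact absurd (by rw [e, map_one]) hi1
      · exact viaτ (IsConj.refl t) hwt (by rw [e])
      · exact absurd (by rw [e, hπz]) hi1
      · exact viaτ (IsConj.refl t) hwt (by rw [e, map_mul, hπz, mul_one])
    · have hc : Commute (w⁻¹ * i) t := by
        refine mul_inv_eq_iff_eq_mul.1 ?_
        rw [show w⁻¹ * i * t * (w⁻¹ * i)⁻¹ = w⁻¹ * (i * t * i⁻¹) * w by group, h, ← hwt]
        group
      have hi : π i = π w * π (w⁻¹ * i) := by rw [← map_mul]; congr 1; group
      have hwtπ : π w * π t = π (t * w) := by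
        rw [← map_mul, show w * t = w * t * w⁻¹ * w by group, hwt, mul_assoc, ← hzc w, ← mul_assoc,
          map_mul, hπz, mul_one]
      rcases hcent (IsConj.refl t) hc with e | e | e | e <;> rw [e] at hi
      · rw [map_one, mul_one] at hi; rw [hi] at hqw; exact hqw.symm
      · exact viaτ htwt hwtw (hi.trans hwtπ)
      · rw [hπz, mul_one] at hi; rw [hi] at hqw; exact hqw.symm
      · exact viaτ htwt hwtw (by rw [hi, map_mul, hπz, mul_one, hwtπ])
  -- all conjugates commute
  have hcomm : ∀ x y, IsConj (π w) x → IsConj (π w) y → Commute x y := by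
    intro x y hx hy
    obtain ⟨p, rfl⟩ := isConj_iff.1 hx
    obtain ⟨q, rfl⟩ := isConj_iff.1 hy
    obtain ⟨g, hg⟩ := QuotientGroup.mk'_surjective Z (q⁻¹ * p)
    have h1 : Commute (π g * π w * (π g)⁻¹) (π w) := by
      rw [← map_inv, ← map_mul, ← map_mul]; exact hconj g
    have h2 := h1.map (MulAut.conj q).toMonoidHom
    simp only [MulEquiv.coe_toMonoidHom, MulAut.conj_apply] at h2
    rwa [show π g = q⁻¹ * p from hg,
      show q * (q⁻¹ * p * π w * (q⁻¹ * p)⁻¹) * q⁻¹ = p * π w * p⁻¹ by group] at h2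
  have hπw2 : π w * π w = 1 := by rw [← map_mul, hww, hπz]
  set L := Subgroup.normalClosure ({π w} : Set (G ⧸ Z)) with hL
  have hgen : ∀ x ∈ Group.conjugatesOfSet ({π w} : Set (G ⧸ Z)), IsConj (π w) x := fun x hx => by
    obtain ⟨b, rfl, hb⟩ := Group.mem_conjugatesOfSet_iff.1 hx
    exact hb
  have hLcomm : ∀ x ∈ L, ∀ y ∈ L, x * y = y * x := by
    have h1 : L ≤ centralizer (Group.conjugatesOfSet ({π w} : Set (G ⧸ Z))) :=
      (Subgroup.closure_le _).2 fun x hx => mem_centralizer_iff.2 fun y hy =>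
        (hcomm y x (hgen y hy) (hgen x hx)).eq
    have h2 : L ≤ centralizer (L : Set (G ⧸ Z)) := (Subgroup.closure_le _).2 fun x hx =>
      mem_centralizer_iff.2 fun y hy => (mem_centralizer_iff.1 (h1 hy) x hx).symm
    exact fun x hx y hy => (mem_centralizer_iff.1 (h2 hx) y hy).symm
  have hLsq : ∀ x ∈ L, x * x = 1 := fun x hx => by
    induction hx using Subgroup.closure_induction with
    | mem x hx =>
      obtain ⟨q, rfl⟩ := isConj_iff.1 (hgen x hx)
      rw [show q * π w * q⁻¹ * (q * π w * q⁻¹) = q * (π w * π w) * q⁻¹ by group, hπw2, mul_one, mul_inv_cancel]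
    | one => exact one_mul 1
    | mul x y hx hy ihx ihy =>
      rw [show x * y * (x * y) = x * (y * x) * y by group, ← hLcomm x hx y hy,
        show x * (x * y) * y = x * x * (y * y) by group, ihx, ihy, mul_one]
    | inv x hx ih => rw [← mul_inv_rev, ih, inv_one]
  have hLR : L ≤ ((R.mapSurjective (QuotientGroup.mk'_surjective Z)) : Subgroup (G ⧸ Z)) :=
    (Cores.le_pCore Subgroup.normalClosure_normal (isPGroup_of_sq hLsq)).trans (Cores.pCore_le_sylow _)
  -- at most three conjugates
  have hX : ∃ x₀ : G ⧸ Z, ∀ x, IsConj (π w) x → x = π w ∨ x = x₀ ∨ x = x₀ * π w := by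
    have hrep : ∀ x, IsConj (π w) x → ∃ r ∈ R, r * r = z ∧ π r = x := fun x hx => by
      have hxL : x ∈ L := Subgroup.conjugatesOfSet_subset_normalClosure
        (Group.mem_conjugatesOfSet_iff.2 ⟨π w, rfl, hx⟩)
      obtain ⟨r, hr, rfl⟩ := hLR hxL
      refine ⟨r, hr, ?_, rfl⟩
      obtain ⟨q, hq⟩ := isConj_iff.1 hx
      obtain ⟨g, rfl⟩ := QuotientGroup.mk'_surjective Z q
      change π g * π w * (π g)⁻¹ = π r at hq
      rw [← map_inv, ← map_mul, ← map_mul] at hq
      have h0 : g * w * g⁻¹ * (g * w * g⁻¹) = z := by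
        rw [show g * w * g⁻¹ * (g * w * g⁻¹) = g * (w * w) * g⁻¹ by group, hww, hzc g, mul_inv_cancel_right]
      rcases hπ hq with e | e <;> rw [e]
      · exact h0
      · set y := g * w * g⁻¹
        rw [show y * z * (y * z) = y * (z * y) * z by group, ← hzc y,
          show y * (y * z) * z = y * y * (z * z) by group, h0, hzz, mul_one]
    have hinner : ∀ r ∈ zpowers a, π r * π r = 1 → π r = 1 ∨ π r = π w := by
      intro r hr h2
      rw [← map_mul] at h2
      have hcw : Commute w r := by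
        obtain ⟨i, rfl⟩ := mem_zpowers_iff.1 hr
        exact ((Commute.refl a).zpow_left _).zpow_right i
      have one_or : ∀ q ∈ zpowers a, q * q = 1 → π q = 1 := fun q hq hqq => by
        rcases eq_or_ne q 1 with rfl | hq1
        · exact map_one π
        · rw [KleinSimple.eq_of_orderOf_two (isOfFinOrder_of_finite a) hq hza (orderOf_of_sq hqq hq1) hz2, hπz]
      rcases hπ (π.map_one.trans h2.symm) with e | e
      · exact Or.inl (one_or r hr e)
      · rw [one_mul] at e
        refine Or.inr ?_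
        have h3 := one_or (w⁻¹ * r) (mul_mem (inv_mem hwa) hr) (by
          rw [show w⁻¹ * r * (w⁻¹ * r) = w⁻¹ * (r * w⁻¹) * r by group, hcw.inv_left.symm.eq,
            show w⁻¹ * (w⁻¹ * r) * r = (w * w)⁻¹ * (r * r) by group, hww, e, inv_mul_cancel])
        rw [map_mul, map_inv, inv_mul_eq_one] at h3
        exact h3.symm
    by_cases hout : ∃ x, IsConj (π w) x ∧ ∃ r ∈ R, r ∉ zpowers a ∧ π r = x
    · obtain ⟨x₀, hx₀, r₀, hr₀, hr₀a, rfl⟩ := hout
      refine ⟨π r₀, fun x hx => ?_⟩
      obtain ⟨r, hr, hr2, rfl⟩ := hrep x hx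
      by_cases hra : r ∈ zpowers a
      · rcases hinner r hra (by rw [← map_mul, hr2, hπz]) with e | e
        · exfalso
          rcases hπ (π.map_one.trans e.symm) with e' | e'
          · exact hne1 (by rw [← hr2, e', one_mul])
          · rw [one_mul] at e'; exact hne1 (by rw [← hr2, e', hzz])
        · exact Or.inl e
      · right
        have hq : r₀⁻¹ * r ∈ zpowers a := by
          obtain ⟨i, hi⟩ := S.exists_outer hr₀ hr₀a htt
          obtain ⟨j, hj⟩ := S.exists_outer hr hra htt
          rw [hi, hj, show (a ^ i * t)⁻¹ * (a ^ j * t) = t⁻¹ * (a ^ (-i) * a ^ j) * t by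
            rw [zpow_neg]; group, ← zpow_add, inv_eq ht2]
          nth_rw 2 [← inv_eq ht2]
          rw [S.conj_zpow']
          exact zpow_mem (mem_zpowers a) _
        have hc := hcomm _ _ hx₀ hx
        have h2 : π (r₀⁻¹ * r) * π (r₀⁻¹ * r) = 1 := by
          have e1 : π r₀ * π r₀ = 1 := by
            obtain ⟨q, hq⟩ := isConj_iff.1 hx₀
            rw [← hq, show q * π w * q⁻¹ * (q * π w * q⁻¹) = q * (π w * π w) * q⁻¹ by group, hπw2,
              mul_one, mul_inv_cancel]
          have e2 : π r * π r = 1 := by rw [← map_mul, hr2, hπz]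
          rw [map_mul, map_inv, inv_eq_of_mul_eq_one_right e1,
            show π r₀ * π r * (π r₀ * π r) = π r₀ * (π r * π r₀) * π r by group, ← hc.eq,
            show π r₀ * (π r₀ * π r) * π r = π r₀ * π r₀ * (π r * π r) by group, e1, e2, mul_one]
        rcases hinner _ hq h2 with e | e <;> rw [map_mul, map_inv, inv_mul_eq_iff_eq_mul] at e
        · exact Or.inl (by rw [e, mul_one])
        · exact Or.inr e
    · refine ⟨π w, fun x hx => ?_⟩
      push Not at hout
      obtain ⟨r, hr, hr2, rfl⟩ := hrep x hx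
      have hra : r ∈ zpowers a := by_contra fun h => hout _ hx r hr h rfl
      rcases hinner r hra (by rw [← map_mul, hr2, hπz]) with e | e
      · exfalso
        rcases hπ (π.map_one.trans e.symm) with e' | e'
        · exact hne1 (by rw [← hr2, e', one_mul])
        · rw [one_mul] at e'; exact hne1 (by rw [← hr2, e', hzz])
      · exact Or.inl e
  obtain ⟨x₀, hx₀⟩ := hX
  set X := {x : G ⧸ Z // IsConj (π w) x}
  have hXcard : Nat.card X ≤ 4 := by
    have hsub : {x | IsConj (π w) x} ⊆ ({π w, x₀, x₀ * π w} : Set (G ⧸ Z)) := fun x hx => by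
      simpa using hx₀ x hx
    calc Nat.card X = ({x | IsConj (π w) x} : Set (G ⧸ Z)).ncard := rfl
      _ ≤ ({π w, x₀, x₀ * π w} : Set (G ⧸ Z)).ncard := Set.ncard_le_ncard hsub
      _ ≤ 4 := by
        refine (Set.ncard_insert_le _ _).trans ?_
        have := (Set.ncard_insert_le x₀ ({x₀ * π w} : Set (G ⧸ Z)))
        rw [Set.ncard_singleton] at this
        omega
  let act : G ⧸ Z → Equiv.Perm X := fun q =>
    { toFun := fun x => ⟨q * x.1 * q⁻¹, x.2.trans (isConj_iff.2 ⟨q, rfl⟩)⟩
      invFun := fun x => ⟨q⁻¹ * x.1 * q, x.2.trans (isConj_iff.2 ⟨q⁻¹, by rw [inv_inv]⟩)⟩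
      left_inv := fun x => Subtype.ext (by show q⁻¹ * (q * x.1 * q⁻¹) * q = x.1; group)
      right_inv := fun x => Subtype.ext (by show q * (q⁻¹ * x.1 * q) * q⁻¹ = x.1; group) }
  let φ : G ⧸ Z →* Equiv.Perm X := MonoidHom.mk' act fun p q => Equiv.ext fun x => Subtype.ext (by
    show p * q * x.1 * (p * q)⁻¹ = p * (q * x.1 * q⁻¹) * p⁻¹; group)
  -- the stabiliser is solvable
  have hCw : Group.IsSolvable (centralizer ({w} : Set G)) := by
    obtain ⟨P, hP⟩ := (R.isPGroup'.to_le (zpowers_le.2 S.a_mem)).of_equiv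
      (Subgroup.subgroupOfEquivOfLe (zpowers_le.2 (mem_centralizer_singleton_iff.2
        ((Commute.refl a).zpow_right _).eq) : zpowers a ≤ centralizer ({w} : Set G))).symm |>.exists_le_sylow
    refine solvable_of_complement (PairsCyclic.hasNormalPComplement_two P ?_ rfl)
    set P₀ := (P : Subgroup (centralizer ({w} : Set G))).map (centralizer ({w} : Set G)).subtype with hP₀
    obtain ⟨c, -, hc⟩ := exists_conj_into R (le_top : (R : Subgroup G) ≤ ⊤) (P.isPGroup'.map _ : IsPGroup 2 P₀) le_top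
    have haP : a ∈ P₀ := ⟨⟨a, mem_centralizer_singleton_iff.2 ((Commute.refl a).zpow_right _).eq⟩,
      hP (mem_subgroupOf.2 (mem_zpowers a)), rfl⟩
    have hca : c * a * c⁻¹ ∈ zpowers a := by
      by_contra h
      have h1 := orderOf_dvd_of_pow_eq_one (S.outer_fourth ht2 (hc a haP) h)
      rw [orderOf_conj, S.ord] at h1
      have := Nat.le_of_dvd (by norm_num) h1
      have := Nat.pow_le_pow_right (show 0 < 2 by norm_num) (show 3 ≤ k + 3 by omega)
      omega
    have heq : zpowers (c * a * c⁻¹) = zpowers a :=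
      Subgroup.eq_of_le_of_card_ge (zpowers_le.2 hca) (by
        rw [Nat.card_zpowers, Nat.card_zpowers, orderOf_conj])
    have hcw : c * w * c⁻¹ ∈ zpowers a := by
      rw [hw, ← _root_.conj_zpow, ← heq]
      exact zpow_mem (mem_zpowers _) _
    have hcw' : c * w * c⁻¹ = w ∨ c * w * c⁻¹ = w * z := by
      set y := w⁻¹ * (c * w * c⁻¹) with hy
      have hyy : y * y = 1 := by
        have h1 : Commute w⁻¹ (c * w * c⁻¹) := by
          obtain ⟨i, hi⟩ := mem_zpowers_iff.1 hcw
          rw [← hi]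
          exact (((Commute.refl a).zpow_left _).zpow_right i).inv_left
        rw [hy, show w⁻¹ * (c * w * c⁻¹) * (w⁻¹ * (c * w * c⁻¹)) = w⁻¹ * ((c * w * c⁻¹) * w⁻¹) * (c * w * c⁻¹)
          by group, ← h1.eq, show w⁻¹ * (w⁻¹ * (c * w * c⁻¹)) * (c * w * c⁻¹) = (w * w)⁻¹ * (c * (w * w) * c⁻¹)
          by group, hww, hzc c, mul_inv_cancel_right, inv_mul_cancel]
      rcases eq_or_ne y 1 with e | e
      · exact Or.inl (inv_mul_eq_one.1 e).symm
      · refine Or.inr ?_
        rw [← KleinSimple.eq_of_orderOf_two (isOfFinOrder_of_finite a) (mul_mem (inv_mem hwa) hcw) hza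
          (orderOf_of_sq hyy e) hz2]
        group
    have hle : P₀ ≤ zpowers a := by
      intro y hy
      have hyw : Commute y w := by
        obtain ⟨p, -, rfl⟩ := hy
        exact mem_centralizer_singleton_iff.1 p.2
      have h1 : Commute (c * y * c⁻¹) (c * w * c⁻¹) := by
        simpa using hyw.map (MulAut.conj c).toMonoidHom
      have h2 : Commute (c * y * c⁻¹) w := by
        rcases hcw' with e | e <;> rw [e] at h1
        · exact h1
        · have := h1.mul_right (show Commute (c * y * c⁻¹) z from hzc _)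
          rwa [mul_assoc w z z, hzz, mul_one] at this
      have h3 : c * y * c⁻¹ ∈ zpowers a := by
        by_contra h
        obtain ⟨i, hi⟩ := S.exists_outer (hc y hy) h htt
        rw [hi] at h2
        have h4 : Commute t w := by
          have := ((Commute.refl a).zpow_zpow (-i) ((2 : ℤ) ^ (k + 1))).mul_left h2
          rwa [← mul_assoc, ← zpow_add, neg_add_cancel, zpow_zero, one_mul] at this
        rw [h4.eq, mul_inv_cancel_right, hwinv] at htw
        exact hne1 (left_eq_mul.1 htw)
      rw [← heq] at h3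
      obtain ⟨i, hi⟩ := mem_zpowers_iff.1 h3
      refine mem_zpowers_iff.2 ⟨i, ?_⟩
      rw [_root_.conj_zpow] at hi
      simpa using hi
    haveI : IsCyclic P₀ := isCyclic_of_injective (Subgroup.inclusion hle) (Subgroup.inclusion_injective hle)
    exact isCyclic_of_surjective ((P : Subgroup _).equivMapOfInjective _
      (centralizer ({w} : Set G)).subtype_injective).symm.toMonoidHom (MulEquiv.surjective _)
  set M₀ := (centralizer ({π w} : Set (G ⧸ Z))).comap π with hM₀
  have hM₀m : ∀ g ∈ M₀, g * w * g⁻¹ = w ∨ g * w * g⁻¹ = w * z := fun g hg => by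
    refine hπ ?_
    rw [Subgroup.mem_comap, mem_centralizer_singleton_iff] at hg
    rw [map_mul, map_mul, hg, map_inv, mul_inv_cancel_right]
  have hCwM : centralizer ({w} : Set G) ≤ M₀ := fun g hg => by
    rw [Subgroup.mem_comap, mem_centralizer_singleton_iff, ← map_mul, ← map_mul,
      mem_centralizer_singleton_iff.1 hg]
  have hM₀s : Group.IsSolvable M₀ := by
    haveI hn : ((centralizer ({w} : Set G)).subgroupOf M₀).Normal := ⟨fun x hx g => by
      rw [mem_subgroupOf, mem_centralizer_singleton_iff] at hx ⊢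
      show (g : G) * x * (g : G)⁻¹ * w = w * ((g : G) * x * (g : G)⁻¹)
      have h1 : Commute ((g : G) * x * (g : G)⁻¹) ((g : G) * w * (g : G)⁻¹) := by
        simpa using (show Commute (x : G) w from hx).map (MulAut.conj (g : G)).toMonoidHom
      rcases hM₀m g g.2 with e | e <;> rw [e] at h1
      · exact h1.eq
      · have := h1.mul_right (show Commute _ z from hzc ((g : G) * x * (g : G)⁻¹))
        rw [mul_assoc w z z, hzz, mul_one] at this
        exact this.eq⟩
    refine (Group.isSolvable_iff_subgroup_quotient ((centralizer ({w} : Set G)).subgroupOf M₀)).2 ⟨?_, ?_⟩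
    · haveI := hCw
      exact Group.isSolvable_of_surjective
        (f := (Subgroup.subgroupOfEquivOfLe hCwM).symm.toMonoidHom) (MulEquiv.surjective _)
    · have htM : t ∈ M₀ := by
        rw [Subgroup.mem_comap, mem_centralizer_singleton_iff, ← map_mul, ← map_mul,
          show t * w = t * w * t⁻¹ * t by group, htw, hwinv]
        rw [map_mul, map_mul, map_mul, hπz, mul_one]
      have key : ∀ q : M₀ ⧸ (centralizer ({w} : Set G)).subgroupOf M₀,
          q = 1 ∨ q = QuotientGroup.mk (⟨t, htM⟩ : M₀) := by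
        intro q
        obtain ⟨g, rfl⟩ := QuotientGroup.mk_surjective q
        rcases hM₀m g g.2 with e | e
        · exact Or.inl ((QuotientGroup.eq_one_iff g).2
            (mem_subgroupOf.2 (mem_centralizer_singleton_iff.2 (mul_inv_eq_iff_eq_mul.1 e))))
        · refine Or.inr (QuotientGroup.eq.2 (mem_subgroupOf.2 (mem_centralizer_singleton_iff.2 ?_)))
          show (g : G)⁻¹ * t * w = w * ((g : G)⁻¹ * t)
          have h1 : t * w = w * z * t := by
            rw [← hwinv, ← htw]; group
          rw [mul_assoc, h1, ← e]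
          group
      refine Group.isSolvable_of_comm fun x y => ?_
      rcases key x with rfl | rfl <;> rcases key y with rfl | rfl <;> simp
  have hkerM : φ.ker ≤ centralizer ({π w} : Set (G ⧸ Z)) := fun q hq => by
    have h1 := congrArg Subtype.val (Equiv.ext_iff.1 (MonoidHom.mem_ker.1 hq) ⟨π w, IsConj.refl _⟩)
    exact mem_centralizer_singleton_iff.2 (mul_inv_eq_iff_eq_mul.1 h1)
  have hQ : Group.IsSolvable (G ⧸ Z) := by
    haveI : Group.IsSolvable (Equiv.Perm X) := Frobenius.isSolvable_perm_of_card_le hXcard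
    haveI hker : Group.IsSolvable φ.ker := by
      haveI : Group.IsSolvable (centralizer ({π w} : Set (G ⧸ Z))) := by
        haveI := hM₀s
        refine Group.isSolvable_of_surjective (f := π.subgroupComap (centralizer ({π w} : Set (G ⧸ Z)))) ?_
        exact MonoidHom.subgroupComap_surjective_of_surjective _ _ (QuotientGroup.mk'_surjective Z)
      exact Group.isSolvable_of_isSolvable_injective (Subgroup.inclusion_injective hkerM)
    refine (Group.isSolvable_iff_subgroup_quotient φ.ker).2 ⟨hker, ?_⟩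
    exact Group.isSolvable_of_isSolvable_injective (f := QuotientGroup.kerLift φ) (QuotientGroup.kerLift_injective φ)
  exact hns ((Group.isSolvable_iff_subgroup_quotient Z).2
    ⟨Group.isSolvable_of_comm fun p q => IsMulCommutative.is_comm.comm p q, hQ⟩)

end Cfsg.Agent.DGroup
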