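import Cfsg.Agent.Lib.DGroup.KleinDihedral
import Cfsg.Agent.Lib.DGroup.KleinSD

/-!
The two outcomes for a centraliser of this shape in a group without odd core.

* `Loc.cases`
-/

set_option autoImplicit false

namespace Cfsg.Agent.DGroup

open Subgroup Cfsg Involution

universe v

variable {G : Type v} [Group G] [Finite G]

theorem Loc.cases {t : G} {A : Subgroup G} {u : G} (hl : Loc t A u) (hns : ¬ Group.IsSolvable G)
    (hO : Cfsg.pPrimeCore 2 G = ⊥) : DHyp G ∨ ∃ N z A' v w, Split (G := G) N z A' v w := by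
  haveI : Fact (Nat.Prime 2) := ⟨Nat.prime_two⟩
  have f : Four t u := ⟨hl.ht, hl.hu, mem_centralizer_singleton_iff.1 hl.u_cent,
    fun e => hl.u_not (e ▸ hl.t_mem)⟩
  have hfC : f.group ≤ centralizer ({t} : Set G) :=
    f.le_iff.2 ⟨mem_centralizer_singleton_iff.2 rfl, hl.u_cent⟩
  by_cases hS : ∃ S : Sylow 2 G, (S : Subgroup G) ≤ centralizer ({t} : Set G)
  · obtain ⟨S, hS⟩ := hS
    obtain ⟨c, hc, hcS⟩ := exists_conj_into S hS f.isPGroup hfC
    have hmem : ∀ x ∈ f.group, x ∈ c⁻¹ • S := fun x hx => by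
      show x ∈ ((c⁻¹ • S : Sylow 2 G) : Subgroup G)
      rw [Sylow.coe_subgroup_smul]
      exact ⟨c * x * c⁻¹, hcS x hx, by show c⁻¹ * (c * x * c⁻¹) * c⁻¹⁻¹ = x; group⟩
    refine hl.full_case hns (c⁻¹ • S) (hmem t f.t_mem) (hmem u f.j_mem) ?_
    rw [Sylow.coe_subgroup_smul]
    rintro _ ⟨x, hx, rfl⟩
    exact Subgroup.mul_mem _ (Subgroup.mul_mem _ (Subgroup.inv_mem _ hc) (hS hx))
      (Subgroup.inv_mem _ (Subgroup.inv_mem _ hc))
  push Not at hS
  obtain ⟨R, hR⟩ := f.isPGroup.exists_le_sylow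
  have htR : t ∈ R := hR f.t_mem
  have hne : (R : Subgroup G) ≠ ⊥ := fun e => ne_one hl.ht (by
    have h1 : t ∈ (R : Subgroup G) := htR
    rwa [e, Subgroup.mem_bot] at h1)
  obtain ⟨z, hz, hz1, hz2⟩ := PLocal.exists_central_of_order_p R.isPGroup' hne
  have hcen : ∀ x ∈ R, x * z = z * x := fun x hx => mem_centralizer_iff.1 hz.2 x hx
  have hzt : z ≠ t := fun e => hS R fun x hx => mem_centralizer_singleton_iff.2 (e ▸ hcen x hx)
  have hzo : orderOf z = 2 := orderOf_of_sq (by rw [← sq]; exact hz2) hz1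
  have K : Klein R t z A :=
    ⟨hl.change hzo (hcen t htR).symm hzt, htR, hz.1, hcen, hS⟩
  rcases K.shape with ⟨k, a, D⟩ | ⟨k, a, D⟩
  · exact K.dihedral_case hns hO D
  · exact (K.false_of_sd hns hO D).elim

end Cfsg.Agent.DGroup
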