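import Cfsg.Agent.Lib.DGroup.Setting
import Cfsg.Agent.Lib.DGroup.Fused
import Cfsg.Agent.Lib.Perm.ProjLineOvergroup
import Cfsg.Agent.Lib.ZStar.KleinSimple
import Cfsg.Agent.S3864

/-!
Dihedral Sylow 2-subgroups, and further facts on `Loc`.

* `Loc.change`, `Loc.solvable`, `Loc.not_isolated`
* `four_sylow_conj` : fusion in an elementary Sylow subgroup of order four
* `DihSylow S a b`, `DihSylow.classes`, `DihSylow.exists_index_two`
-/

set_option autoImplicit false

namespace Cfsg.Agent.DGroup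

open Subgroup Cfsg Involution

universe v

variable {G : Type v} [Group G]

/-- Every outer involution can play the part of `u`. -/
theorem Loc.change {t : G} {A : Subgroup G} {u v : G} (hl : Loc t A u) (hv : orderOf v = 2)
    (hvc : Commute v t) (hvt : v ≠ t) : Loc t A v := by
  have hvA : v ∉ A := fun h => hvt (hl.uniq v h hv)
  refine ⟨hl.ht, hl.le_cent, hl.comm, hl.t_mem, hl.uniq, hv, mem_centralizer_singleton_iff.2 hvc, hvA,
    fun a ha => hl.inverts_of_not_mem (mem_centralizer_singleton_iff.2 hvc) hvA ha, fun c hc => ?_⟩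
  by_cases hcA : c ∈ A
  · exact Or.inl hcA
  have h1 := (hl.cover c hc).resolve_left hcA
  have h2 := (hl.cover v (mem_centralizer_singleton_iff.2 hvc)).resolve_left hvA
  refine Or.inr ?_
  rw [show c * v = (c * u) * (v * u)⁻¹ by rw [mul_inv_rev, inv_eq hv, inv_eq hl.hu, mul_assoc c u (u * v), ← mul_assoc u u v, mul_self hl.hu, one_mul]]
  exact A.mul_mem h1 (A.inv_mem h2)

theorem Loc.solvable [Finite G] {t : G} {A : Subgroup G} {u : G} (hl : Loc t A u) :
    Group.IsSolvable (centralizer ({t} : Set G)) := by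
  set C := centralizer ({t} : Set G) with hC
  haveI hn : (A.subgroupOf C).Normal := ⟨fun x hx g => by
    rw [mem_subgroupOf] at hx ⊢
    show (g : G) * x * (g : G)⁻¹ ∈ A
    by_cases hgA : (g : G) ∈ A
    · exact A.mul_mem (A.mul_mem hgA hx) (A.inv_mem hgA)
    · rw [hl.inverts_of_not_mem g.2 hgA hx]; exact A.inv_mem hx⟩
  refine (Group.isSolvable_iff_subgroup_quotient (A.subgroupOf C)).2 ⟨?_, ?_⟩
  · exact Group.isSolvable_of_comm fun a b => Subtype.ext (Subtype.ext (hl.comm _ a.2 _ b.2))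
  · have key : ∀ q : C ⧸ A.subgroupOf C, q = 1 ∨ q = QuotientGroup.mk (⟨u, hl.u_cent⟩ : C) := by
      intro q
      obtain ⟨g, rfl⟩ := QuotientGroup.mk_surjective q
      by_cases hgA : (g : G) ∈ A
      · exact Or.inl ((QuotientGroup.eq_one_iff g).2 hgA)
      · refine Or.inr (QuotientGroup.eq.2 ?_)
        rw [mem_subgroupOf]
        show (g : G)⁻¹ * u ∈ A
        rw [inv_eq_of_mul_eq_one_right (hl.sq_eq_one g.2 hgA)]
        exact (hl.cover g g.2).resolve_left hgA
    refine Group.isSolvable_of_comm fun x y => ?_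
    rcases key x with rfl | rfl <;> rcases key y with rfl | rfl <;> simp

/-- In a non-solvable group `t` is fused to a commuting partner. -/
theorem Loc.not_isolated [Finite G] {t : G} {A : Subgroup G} {u : G} (hl : Loc t A u)
    (hns : ¬ Group.IsSolvable G) : ∃ g : G, Commute t (g * t * g⁻¹) ∧ g * t * g⁻¹ ≠ t := by
  by_contra hcon
  push Not at hcon
  exact hns (solvable_of_isolated ⟨hl.ht, hcon⟩ hl.solvable)

/-- Fusion in a Sylow four group. -/
theorem four_sylow_conj [Finite G] {t u : G} (f : Four t u) (T : Sylow 2 G) (htT : t ∈ T) (huT : u ∈ T)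
    (hTf : (T : Subgroup G) ≤ f.group) {n : G} (hn : n * t * n⁻¹ = u) :
    ∀ v ∈ T, orderOf v = 2 → IsConj t v := by
  haveI : Fact (Nat.Prime 2) := ⟨Nat.prime_two⟩
  have hsq : ∀ x ∈ (T : Subgroup G), x * x = 1 := fun x hx => by
    rcases hTf hx with rfl | rfl | rfl | rfl
    · rw [one_mul]
    · exact mul_self f.ht
    · exact mul_self f.hj
    · exact mul_self f.mul_right.hj
  set M := centralizer ({u} : Set G) with hM
  have hTM : (T : Subgroup G) ≤ M := fun x hx => mem_centralizer_singleton_iff.2 (comm_of_sq hsq hx huT)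
  have hnTM : ((n • T : Sylow 2 G) : Subgroup G) ≤ M := by
    rw [Sylow.coe_subgroup_smul]
    rintro _ ⟨x, hx, rfl⟩
    rw [hM, ← hn]
    exact (map_mem_centralizer (MulAut.conj n)).2 (mem_centralizer_singleton_iff.2 (comm_of_sq hsq hx htT))
  obtain ⟨c, hc, hcx⟩ := exists_conj_into T hTM (n • T).isPGroup' hnTM
  set σ := c * n with hσdef
  have hσT : ∀ x ∈ (T : Subgroup G), σ * x * σ⁻¹ ∈ (T : Subgroup G) := fun x hx => by
    have h1 := hcx (n * x * n⁻¹) (by rw [Sylow.coe_subgroup_smul]; exact ⟨x, hx, rfl⟩)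
    rwa [show c * (n * x * n⁻¹) * c⁻¹ = σ * x * σ⁻¹ by rw [hσdef]; group] at h1
  have hσt : σ * t * σ⁻¹ = u := by
    rw [show σ * t * σ⁻¹ = c * (n * t * n⁻¹) * c⁻¹ by rw [hσdef]; group, hn,
      mem_centralizer_singleton_iff.1 hc, mul_inv_cancel_right]
  have hσu : σ * u * σ⁻¹ = t * u := by
    rcases hTf (hσT u huT) with e | e | e | e
    · exact absurd (conj_eq_one_iff.1 e) (ne_one f.hj)
    · exfalso
      obtain ⟨a, k, hk, hak⟩ := Nat.exists_eq_pow_mul_and_not_dvd (orderOf_pos σ).ne' 2 (by norm_num)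
      obtain ⟨i, rfl⟩ : Odd k := Nat.odd_iff.2 (Nat.two_dvd_ne_zero.1 hk)
      set s := σ ^ (2 * i + 1) with hsdef
      have hσ2 : Commute (σ * σ) t := by
        refine (mul_inv_eq_iff_eq_mul (b := σ * σ)).1 ?_
        rw [show σ * σ * t * (σ * σ)⁻¹ = σ * (σ * t * σ⁻¹) * σ⁻¹ by group, hσt, e]
      have hst : s * t * s⁻¹ = u := by
        have h1 : Commute ((σ * σ) ^ i) t := hσ2.pow_left i
        rw [hsdef, pow_succ', pow_mul, pow_two,
          show σ * (σ * σ) ^ i * t * (σ * (σ * σ) ^ i)⁻¹ =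
            σ * ((σ * σ) ^ i * t * ((σ * σ) ^ i)⁻¹) * σ⁻¹ by group, h1.eq, mul_inv_cancel_right, hσt]
      have hsP : IsPGroup 2 (zpowers s) := by
        obtain ⟨l, -, hl⟩ := (Nat.dvd_prime_pow Nat.prime_two).1 (orderOf_dvd_of_pow_eq_one
          (show s ^ 2 ^ a = 1 by rw [hsdef, ← pow_mul, mul_comm, ← hak, pow_orderOf_eq_one]))
        exact IsPGroup.of_card (n := l) (by rw [Nat.card_zpowers, hl])
      have hσn : σ ∈ normalizer ((T : Subgroup G) : Set G) := Coprime.mem_normalizer_of_forall hσT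
      have hsT : zpowers s ≤ (T : Subgroup G) := by
        have h1 : zpowers s ⊓ normalizer ((T : Subgroup G) : Set G) = zpowers s ⊓ (T : Subgroup G) :=
          hsP.inf_normalizer_sylow T
        rw [inf_eq_left.2 (zpowers_le.2 (Subgroup.pow_mem _ hσn _))] at h1
        exact inf_eq_left.1 h1.symm
      refine f.ne ?_
      rw [← hst, comm_of_sq hsq (hsT (mem_zpowers s)) htT, mul_inv_cancel_right]
    · exact absurd (e.trans hσt.symm) fun h1 => f.ne (by simpa using h1)
    · exact e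
  intro v hv hv2
  rcases hTf hv with rfl | rfl | rfl | rfl
  · exact absurd hv2 (by simp)
  · exact IsConj.refl _
  · exact isConj_iff.2 ⟨σ, hσt⟩
  · exact isConj_iff.2 ⟨σ * σ, by
      rw [show σ * σ * t * (σ * σ)⁻¹ = σ * (σ * t * σ⁻¹) * σ⁻¹ by group, hσt, hσu]⟩

/-- Every involution is conjugate to one in a given Sylow 2-subgroup. -/
theorem exists_conj_mem_sylow [Finite G] (S : Sylow 2 G) {x : G} (hx : orderOf x = 2) :
    ∃ y ∈ S, orderOf y = 2 ∧ IsConj x y := by
  haveI : Fact (Nat.Prime 2) := ⟨Nat.prime_two⟩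
  obtain ⟨c, -, hc⟩ := exists_conj_into S (le_top : (S : Subgroup G) ≤ ⊤)
    (IsPGroup.of_card (n := 1) (by rw [Nat.card_zpowers, hx, pow_one]) : IsPGroup 2 (zpowers x)) le_top
  exact ⟨_, hc x (mem_zpowers x), by rw [orderOf_conj]; exact hx, isConj_iff.2 ⟨c, rfl⟩⟩

/-- `S = ⟨a⟩⟨b⟩`, `b` an involution inverting `a`, `orderOf a = 2 ^ (k + 2)`. -/
structure DihSylow (S : Sylow 2 G) (k : ℕ) (a b : G) : Prop where
  a_mem : a ∈ S
  b_mem : b ∈ S
  ord : orderOf a = 2 ^ (k + 2)
  hb : orderOf b = 2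
  inv : b * a * b⁻¹ = a⁻¹
  b_not : b ∉ zpowers a
  cover : ∀ x ∈ S, x ∈ zpowers a ∨ x * b ∈ zpowers a

namespace DihSylow

variable [Finite G] {S : Sylow 2 G} {k : ℕ} {a b : G} (D : DihSylow S k a b)
include D

omit [Finite G] in
theorem inv_zpow (i : ℤ) : b * a ^ i * b⁻¹ = (a ^ i)⁻¹ := inverts_zpow D.inv i

omit [Finite G] in
theorem outer_sq (i : ℤ) : a ^ i * b * (a ^ i * b) = 1 := by
  have h := D.inv_zpow i
  rw [inv_eq D.hb] at h
  rw [show a ^ i * b * (a ^ i * b) = a ^ i * (b * a ^ i * b) by group, h, mul_inv_cancel]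

omit [Finite G] in
theorem exists_outer {x : G} (hx : x ∈ S) (hxa : x ∉ zpowers a) : ∃ i : ℤ, x = a ^ i * b := by
  obtain ⟨i, hi⟩ := mem_zpowers_iff.1 ((D.cover x hx).resolve_left hxa)
  exact ⟨i, by rw [hi, mul_assoc, mul_self D.hb, mul_one]⟩

omit [Finite G] in
/-- Two classes of outer elements. -/
theorem outer_cases {x : G} (hx : x ∈ S) (hxa : x ∉ zpowers a) :
    ∃ j ∈ (zpowers a), j * x * j⁻¹ = b ∨ j * x * j⁻¹ = a * b := by
  obtain ⟨i, rfl⟩ := D.exists_outer hx hxa
  have key : ∀ l m : ℤ, a ^ l * (a ^ m * b) * (a ^ l)⁻¹ = a ^ (2 * l + m) * b := fun l m => by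
    have h := D.inv_zpow l
    have h2 : b * (a ^ l)⁻¹ = a ^ l * b := by
      rw [← h, inv_eq D.hb, ← mul_assoc, ← mul_assoc, mul_self D.hb, one_mul]
    rw [show a ^ l * (a ^ m * b) * (a ^ l)⁻¹ = a ^ l * a ^ m * (b * (a ^ l)⁻¹) by group, h2, ← mul_assoc,
      ← zpow_add, ← zpow_add]
    congr 2
    ring
  rcases Int.even_or_odd i with ⟨m, rfl⟩ | ⟨m, rfl⟩
  · exact ⟨a ^ (-m), zpow_mem (mem_zpowers a) _, Or.inl (by
      rw [key, show 2 * -m + (m + m) = 0 by ring, zpow_zero, one_mul])⟩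
  · exact ⟨a ^ (-m), zpow_mem (mem_zpowers a) _, Or.inr (by
      rw [key, show 2 * -m + (2 * m + 1) = 1 by ring, zpow_one])⟩

theorem mid_order : orderOf (a ^ 2 ^ (k + 1)) = 2 := by
  rw [orderOf_pow' a (by positivity), D.ord, Nat.gcd_eq_right (pow_dvd_pow 2 (by omega)),
    Nat.pow_div (by omega) (by norm_num), show k + 2 - (k + 1) = 1 by omega, pow_one]

theorem eq_mid {x : G} (hx : x ∈ zpowers a) (hx2 : orderOf x = 2) : x = a ^ 2 ^ (k + 1) :=
  KleinSimple.eq_of_orderOf_two (isOfFinOrder_of_finite a) hx (pow_mem (mem_zpowers a) _) hx2 D.mid_order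

omit [Finite G] in
theorem mul_b_order : orderOf (a * b) = 2 := by
  refine orderOf_of_sq (by simpa using D.outer_sq 1) fun e => D.b_not ?_
  rw [show b = a⁻¹ by exact eq_inv_of_mul_eq_one_right e]
  exact inv_mem (mem_zpowers a)

/-- An involution is conjugate to the central one or to one of the two outer representatives. -/
theorem classes {x : G} (hx : orderOf x = 2) :
    IsConj x (a ^ 2 ^ (k + 1)) ∨ IsConj x b ∨ IsConj x (a * b) := by
  obtain ⟨y, hy, hy2, hxy⟩ := exists_conj_mem_sylow S hx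
  by_cases hya : y ∈ zpowers a
  · exact Or.inl (D.eq_mid hya hy2 ▸ hxy)
  · obtain ⟨j, -, h | h⟩ := D.outer_cases hy hya
    · exact Or.inr (Or.inl (hxy.trans (isConj_iff.2 ⟨j, h⟩)))
    · exact Or.inr (Or.inr (hxy.trans (isConj_iff.2 ⟨j, h⟩)))

theorem nonempty_equiv : Nonempty ((S : Subgroup G) ≃* DihedralGroup (2 ^ (k + 2))) := by
  haveI : NeZero (2 ^ (k + 2)) := ⟨by positivity⟩
  obtain ⟨f, hf, hf1, hf0⟩ := Perm.ProjLine.exists_dihedral (m := 2 ^ (k + 2)) (h := a) (s := b) D.ord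
    (mul_self D.hb) (by have := D.inv; rwa [inv_eq D.hb] at this) D.b_not
  have hrange : f.range = (S : Subgroup G) := by
    refine le_antisymm ?_ fun x hx => ?_
    · rintro _ ⟨d, rfl⟩
      cases d with
      | r i =>
        rw [show DihedralGroup.r i = (DihedralGroup.r 1 : DihedralGroup (2 ^ (k + 2))) ^ i.val by
          rw [DihedralGroup.r_one_pow, ZMod.natCast_zmod_val], map_pow, hf1]
        exact pow_mem D.a_mem _
      | sr i =>
        rw [show DihedralGroup.sr i = (DihedralGroup.sr 0 : DihedralGroup (2 ^ (k + 2))) *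
          (DihedralGroup.r 1) ^ i.val by
          rw [DihedralGroup.r_one_pow, ZMod.natCast_zmod_val, DihedralGroup.sr_mul_r, zero_add],
          map_mul, map_pow, hf1, hf0]
        exact mul_mem D.b_mem (pow_mem D.a_mem _)
    · have hz : zpowers a ≤ f.range := zpowers_le.2 ⟨_, hf1⟩
      rcases D.cover x hx with h | h
      · exact hz h
      · have := f.range.mul_mem (hz h) (⟨_, hf0⟩ : b ∈ f.range)
        rwa [mul_assoc, mul_self D.hb, mul_one] at this
  exact ⟨((MonoidHom.ofInjective hf).trans (MulEquiv.subgroupCongr hrange)).symm⟩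

/-- A normal subgroup of index two, unless solvable or with one class of involutions. -/
theorem exists_index_two (hns : ¬ Group.IsSolvable G) {x y : G} (hx : orderOf x = 2) (hy : orderOf y = 2)
    (hxy : ¬ IsConj x y) : ∃ N : Subgroup G, N.Normal ∧ N.index = 2 := by
  rcases S3864.result S (k + 3) (by omega) (by
    simpa [show k + 3 - 1 = k + 2 by omega] using D.nonempty_equiv) with ⟨h1, -⟩ | ⟨-, h2, -⟩ | ⟨-, h3⟩
  · exfalso
    haveI := (Nat.card_eq_one_iff_unique.1 h1).1
    have := congrArg Subtype.val (Subsingleton.elim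
      (⟨ConjClasses.mk x, x, rfl, hx⟩ : {C : ConjClasses G // ∃ g : G, ConjClasses.mk g = C ∧ orderOf g = 2})
      ⟨ConjClasses.mk y, y, rfl, hy⟩)
    exact hxy (ConjClasses.mk_eq_mk_iff_isConj.1 this)
  · exact h2
  · exfalso
    haveI : Fact (Nat.Prime 2) := ⟨Nat.prime_two⟩
    obtain ⟨Q, N, hN, hNQ⟩ := h3
    haveI := hN
    refine hns ((Group.isSolvable_iff_subgroup_quotient N).2 ⟨OddOrderTheorem.solvable ?_, ?_⟩)
    · rw [← hNQ.index_eq_card]
      exact Nat.odd_iff.2 (Nat.two_dvd_ne_zero.1 Q.not_dvd_index)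
    · obtain ⟨n, hn⟩ := IsPGroup.iff_card.1 Q.isPGroup'
      haveI : Group.IsNilpotent (G ⧸ N) := (IsPGroup.of_card (p := 2) (n := n)
        (by rw [← Subgroup.index_eq_card, hNQ.symm.index_eq_card, hn])).isNilpotent
      infer_instance

end DihSylow

end Cfsg.Agent.DGroup
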