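import Cfsg.Agent.Lib.DGroup.Setting
import Cfsg.Agent.Lib.TwoFusion.ElemCentralizersPSL
import Cfsg.Agent.Lib.PairsCyclic.Basic

/-!
The case of an elementary abelian `H`.

* `Concl G` : the conclusion
* `DSet.concl_elementary`
-/

set_option autoImplicit false

namespace Cfsg.Agent.DGroup

open Subgroup Cfsg Involution

universe v

variable {G : Type v} [Group G]

/-- A quotient by a subgroup of order odd or twice odd is `PSL(2, F)` or `PGL(2, F)`, `|F| > 3`. -/
def Concl (G : Type v) [Group G] : Prop :=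
  ∃ (N : Subgroup G) (_ : N.Normal), (Odd (Nat.card ↥N) ∨ ∃ m : ℕ, Odd m ∧ Nat.card ↥N = 2 * m) ∧
    ∃ (F : Type) (_ : Field F) (_ : Fintype F), 3 < Fintype.card F ∧
      (Nonempty (G ⧸ N ≃* Matrix.ProjectiveSpecialLinearGroup (Fin 2) F) ∨
        Nonempty (G ⧸ N ≃* Matrix.ProjGenLinGroup (Fin 2) F))

variable [Finite G] {H A : Subgroup G}

theorem DSet.concl_elementary (d : DSet H A) (he : ∀ x ∈ H, x * x = 1) : Concl G := by
  haveI : Fact (Nat.Prime 2) := ⟨Nat.prime_two⟩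
  have hCj : ∀ j ∈ H, orderOf j = 2 → centralizer ({j} : Set G) = H := fun j hj hj2 =>
    d.cent j hj hj2 fun k hk => comm_of_sq he hk hj
  obtain ⟨⟨j, hjH⟩, hj⟩ := exists_prime_orderOf_dvd_card' (G := H) 2
    (dvd_trans (by norm_num : 2 ∣ 4) d.four)
  rw [Subgroup.orderOf_mk] at hj
  obtain ⟨S, hHS⟩ := (isPGroup_of_sq he).exists_le_sylow
  have hne : (S : Subgroup G) ≠ ⊥ := fun e => ne_one hj (mem_bot.1 (e ▸ hHS hjH))
  obtain ⟨z, hz, hz1, hz2⟩ := PLocal.exists_central_of_order_p S.isPGroup' hne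
  have hzo := orderOf_of_sq (by rw [← pow_two]; exact hz2) hz1
  have hzH : z ∈ H := by
    rw [← hCj j hjH hj, mem_centralizer_singleton_iff]
    exact (mem_centralizer_iff.1 hz.2 j (hHS hjH)).symm
  have hSH : (S : Subgroup G) = H := by
    refine le_antisymm (fun x hx => ?_) hHS
    rw [← hCj z hzH hzo, mem_centralizer_singleton_iff]
    exact mem_centralizer_iff.1 hz.2 x hx
  have h4 : 4 ≤ Nat.card (S : Subgroup G) := by
    rw [hSH]; exact Nat.le_of_dvd Nat.card_pos d.four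
  have hnc : ¬ IsCyclic (S : Subgroup G) := fun hc => by
    obtain ⟨g, hg⟩ := hc.exists_generator
    have h1 : Nat.card (S : Subgroup G) = orderOf g := (orderOf_eq_card_of_forall_mem_zpowers hg).symm
    have h2 : orderOf g ∣ 2 := orderOf_dvd_of_pow_eq_one (Subtype.ext (by
      rw [pow_two]; exact he g (hSH ▸ g.2)))
    have := Nat.le_of_dvd (by norm_num) h2
    omega
  have hnn : ¬ (S : Subgroup G).Normal := fun hn => d.ns <| by
    haveI := hn
    refine solvable_of_odd_index _ (Group.isSolvable_of_comm fun a b => Subtype.ext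
      (comm_of_sq he (hSH ▸ a.2) (hSH ▸ b.2))) (Nat.odd_iff.2 (Nat.two_dvd_ne_zero.1 S.not_dvd_index))
  have hC : ∀ v : G, orderOf v = 2 → IsMulCommutative (centralizer ({v} : Set G)) ∧
      ∀ c ∈ centralizer ({v} : Set G), c ^ 2 = 1 := by
    intro v hv
    obtain ⟨Q, hQ⟩ := (IsPGroup.of_card (n := 1) (by rw [Nat.card_zpowers, hv, pow_one]) :
      IsPGroup 2 (zpowers v)).exists_le_sylow
    obtain ⟨g, hg⟩ := MulAction.exists_smul_eq G Q S
    have hvH : g * v * g⁻¹ ∈ H := by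
      rw [← hSH, ← hg, Sylow.coe_subgroup_smul]
      exact ⟨v, hQ (mem_zpowers v), rfl⟩
    have hcen := hCj _ hvH (by rw [orderOf_conj]; exact hv)
    have hmem : ∀ c ∈ centralizer ({v} : Set G), g * c * g⁻¹ ∈ H := fun c hc => by
      rw [← hcen]
      exact (map_mem_centralizer (MulAut.conj g)).2 hc
    have hsq : ∀ c ∈ centralizer ({v} : Set G), c * c = 1 := fun c hc => by
      have h1 := he _ (hmem c hc)
      rwa [show g * c * g⁻¹ * (g * c * g⁻¹) = g * (c * c) * g⁻¹ by group, conj_eq_one_iff] at h1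
    exact ⟨⟨⟨fun a b => Subtype.ext (comm_of_sq hsq a.2 b.2)⟩⟩, fun c hc => by rw [pow_two]; exact hsq c hc⟩
  obtain ⟨F, hF, hFt, hcard, ⟨e⟩⟩ := TwoFusion.ElemCent.equiv_psl ⟨hnc, hnn, hC⟩
  exact ⟨⊥, inferInstance, Or.inl (by rw [card_bot]; exact odd_one), F, hF, hFt, by omega,
    Or.inl ⟨(QuotientGroup.quotientBot).trans e⟩⟩

end Cfsg.Agent.DGroup
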