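import Cfsg.Agent.Lib.DGroup.Basic
import Cfsg.Agent.Lib.Coprime.Invariant
import Cfsg.Agent.Lib.Coprime.InvolutionEigen
import Cfsg.Agent.Lib.AbelianTwoFactor.Basic
import Cfsg.Agent.Lib.OddOrderTheorem.Basic

/-!
Four groups acting on subgroups of odd order in a `D`-group, and the cores of centralisers.

* `four hf`, `odd_invariant_trivial`, `sylow_unique`, `exists_sylow`
* `not_conj` : no non-trivial element of an invariant odd subgroup centralising `t` is conjugate in it to
  one centralising `j`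
* `exists_inverted` : an invariant odd subgroup not centralised by `t` meets the centraliser of another
  involution of the four group
* `mem_core` : the elements of odd order of `C(x)` lie in `O(C(x))`, `x ≠ 1` of odd order
-/

set_option autoImplicit false

namespace Cfsg.Agent.DGroup

open Subgroup Cfsg Involution

universe v

variable {G : Type v} [Group G]

/-- `t` and `j` are distinct commuting involutions. -/
structure Four (t j : G) : Prop where
  ht : orderOf t = 2
  hj : orderOf j = 2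
  comm : Commute j t
  ne : j ≠ t

namespace Four

variable {t j : G} (f : Four t j)
include f

theorem symm : Four j t := ⟨f.hj, f.ht, f.comm.symm, f.ne.symm⟩

theorem mul_right : Four t (t * j) where
  ht := f.ht
  hj := orderOf_of_sq (by
    rw [show t * j * (t * j) = t * (j * t) * j by group, f.comm.eq,
      show t * (t * j) * j = (t * t) * (j * j) by group, mul_self f.ht, mul_self f.hj, mul_one])
    (fun e => f.ne (by rw [eq_inv_of_mul_eq_one_right e, inv_eq f.ht]))
  comm := (Commute.refl t).mul_left f.comm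
  ne := fun e => ne_one f.hj (mul_eq_left.1 e)

/-- The four group. -/
def group : Subgroup G where
  carrier := {x | x = 1 ∨ x = t ∨ x = j ∨ x = t * j}
  one_mem' := Or.inl rfl
  mul_mem' := by
    have ht := mul_self f.ht
    have hj := mul_self f.hj
    have hm := mul_self f.mul_right.hj
    have hjt : j * t = t * j := f.comm.eq
    have h1 : t * (t * j) = j := by rw [← mul_assoc, ht, one_mul]
    have h2 : t * j * t = j := by rw [mul_assoc, hjt, h1]
    have h3 : j * (t * j) = t := by rw [← mul_assoc, hjt, mul_assoc, hj, mul_one]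
    have h4 : t * j * j = t := by rw [mul_assoc, hj, mul_one]
    rintro a b (rfl | rfl | rfl | rfl) (rfl | rfl | rfl | rfl)
    all_goals simp [ht, hj, hm, hjt, h1, h2, h3, h4]
  inv_mem' := by
    rintro a (rfl | rfl | rfl | rfl)
    · exact Or.inl inv_one
    · exact Or.inr (Or.inl (inv_eq f.ht))
    · exact Or.inr (Or.inr (Or.inl (inv_eq f.hj)))
    · exact Or.inr (Or.inr (Or.inr (inv_eq f.mul_right.hj)))

theorem t_mem : t ∈ f.group := Or.inr (Or.inl rfl)

theorem j_mem : j ∈ f.group := Or.inr (Or.inr (Or.inl rfl))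

theorem isPGroup : IsPGroup 2 f.group := by
  rintro ⟨x, rfl | rfl | rfl | rfl⟩
  · exact ⟨0, Subtype.ext (by simp)⟩
  · exact ⟨1, Subtype.ext (by simp [pow_two, mul_self f.ht])⟩
  · exact ⟨1, Subtype.ext (by simp [pow_two, mul_self f.hj])⟩
  · exact ⟨1, Subtype.ext (by simpa [pow_two] using mul_self f.mul_right.hj)⟩

theorem le_iff {K : Subgroup G} : f.group ≤ K ↔ t ∈ K ∧ j ∈ K := by
  refine ⟨fun h => ⟨h f.t_mem, h f.j_mem⟩, fun ⟨h1, h2⟩ x hx => ?_⟩
  rcases hx with rfl | rfl | rfl | rfl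
  · exact K.one_mem
  · exact h1
  · exact h2
  · exact K.mul_mem h1 h2

theorem coprime [Finite G] {K : Subgroup G} (hK : Odd (Nat.card K)) :
    (Nat.card f.group).Coprime (Nat.card K) := by
  haveI : Fact (Nat.Prime 2) := ⟨Nat.prime_two⟩
  obtain ⟨n, hn⟩ := IsPGroup.iff_card.1 f.isPGroup
  rw [hn]
  exact (Nat.coprime_two_left.2 hK).pow_left n

end Four

theorem odd_orderOf_of_mem [Finite G] {K : Subgroup G} (hK : Odd (Nat.card K)) {x : G} (hx : x ∈ K) :
    Odd (orderOf x) :=
  hK.of_dvd_nat (Subgroup.orderOf_dvd_natCard K hx)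

namespace DHyp

variable [Finite G] (h : DHyp G)
include h

theorem eq_one_of_group {t j : G} (f : Four t j) {x : G} (hx : x ∈ centralizer (f.group : Set G))
    (ho : Odd (orderOf x)) : x = 1 :=
  h.eq_one_of_four f.ht f.hj f.comm f.ne (mem_centralizer_iff.1 hx t f.t_mem).symm
    (mem_centralizer_iff.1 hx j f.j_mem).symm ho

/-- The invariant Sylow subgroup of an invariant odd subgroup is unique. -/
theorem sylow_unique {t j : G} (f : Four t j) {K : Subgroup G} (hK : Odd (Nat.card K))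
    (htK : t ∈ normalizer (K : Set G)) (hjK : j ∈ normalizer (K : Set G)) {p : ℕ} [Fact p.Prime]
    (P Q : Sylow p K) (htP : t ∈ normalizer ((P : Subgroup K).map K.subtype : Set G))
    (hjP : j ∈ normalizer ((P : Subgroup K).map K.subtype : Set G))
    (htQ : t ∈ normalizer ((Q : Subgroup K).map K.subtype : Set G))
    (hjQ : j ∈ normalizer ((Q : Subgroup K).map K.subtype : Set G)) : P = Q := by
  obtain ⟨c, hc, rfl⟩ := Coprime.invariant_sylow_conj (f.le_iff.2 ⟨htK, hjK⟩) (f.coprime hK)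
    (Or.inr (Cfsg.Agent.OddOrderTheorem.solvable hK)) P Q (f.le_iff.2 ⟨htP, hjP⟩)
    (f.le_iff.2 ⟨htQ, hjQ⟩)
  have h1 : (c : G) = 1 := h.eq_one_of_group f hc (odd_orderOf_of_mem hK c.2)
  rw [show c = 1 from Subtype.ext h1, one_smul]

/-- No non-trivial fixed element of `t` is conjugate in an invariant odd subgroup to one of `j`. -/
theorem not_conj {t j : G} (f : Four t j) {K : Subgroup G} (hK : Odd (Nat.card K))
    (htK : t ∈ normalizer (K : Set G)) {a x e : G} (ha : Commute a t) (hxj : Commute x j)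
    (he : e ∈ K) (hao : Odd (orderOf a)) (hex : e * a * e⁻¹ = x) : a = 1 := by
  have hxo : Odd (orderOf x) := by rw [← hex, orderOf_conj]; exact hao
  have hx := h.inverts f.hj f.ht f.comm.symm f.ne.symm hxj hxo
  set e₁ := t * e * t⁻¹ with he₁
  have he₁K : e₁ ∈ K := (mem_normalizer_iff.1 htK e).1 he
  have h1 : e₁ * a * e₁⁻¹ = x⁻¹ := by
    rw [← hx, ← hex, he₁,
      show t * e * t⁻¹ * a * (t * e * t⁻¹)⁻¹ = t * e * (t⁻¹ * a * t) * e⁻¹ * t⁻¹ by group,
      show t⁻¹ * a * t = a by rw [mul_assoc, ha.eq, inv_mul_cancel_left]]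
    group
  set s := e⁻¹ * e₁ with hs
  have hsa : s * a * s⁻¹ = a⁻¹ := by
    rw [hs, show e⁻¹ * e₁ * a * (e⁻¹ * e₁)⁻¹ = e⁻¹ * (e₁ * a * e₁⁻¹) * e by group, h1, ← hex]
    group
  have hso : Odd (orderOf s) := odd_orderOf_of_mem hK (K.mul_mem (K.inv_mem he) he₁K)
  obtain ⟨k, hk⟩ := hso
  have h2 : s ^ (2 * k + 1) * a * (s ^ (2 * k + 1))⁻¹ = a⁻¹ := by
    clear hk
    induction k with
    | zero => simpa using hsa
    | succ k ih =>
      rw [show 2 * (k + 1) + 1 = 1 + (1 + (2 * k + 1)) by omega, pow_add s 1, pow_add s 1, pow_one]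
      calc s * (s * s ^ (2 * k + 1)) * a * (s * (s * s ^ (2 * k + 1)))⁻¹
          = s * (s * (s ^ (2 * k + 1) * a * (s ^ (2 * k + 1))⁻¹) * s⁻¹) * s⁻¹ := by group
        _ = a⁻¹ := by
          rw [ih, show s * a⁻¹ * s⁻¹ = (s * a * s⁻¹)⁻¹ by group, hsa, inv_inv, hsa]
  rw [← hk, pow_orderOf_eq_one, one_mul, inv_one, mul_one] at h2
  have h3 : a * a = 1 := by nth_rw 2 [h2]; exact mul_inv_cancel a
  by_contra hne
  rw [orderOf_of_sq h3 hne] at hao
  exact absurd hao (by decide)

/-- An invariant odd subgroup not centralised by `t` meets `C(j)` or `C(t j)`. -/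
theorem exists_inverted {t j : G} (f : Four t j) {K : Subgroup G} (hK : Odd (Nat.card K))
    (htK : t ∈ normalizer (K : Set G)) (hjK : j ∈ normalizer (K : Set G))
    (hne : ∃ x ∈ K, ¬ Commute x t) :
    ∃ j' : G, Four t j' ∧ (j' = j ∨ j' = t * j) ∧ ∃ x ∈ K, x ≠ 1 ∧ Commute x j' := by
  by_contra hcon
  push Not at hcon
  have key : ∀ j', Four t j' → (j' = j ∨ j' = t * j) → j' ∈ normalizer (K : Set G) →
      ∀ x ∈ K, j' * x * j'⁻¹ = x⁻¹ := by
    intro j' f' hor hn x hx
    let φ : K →* K := (normalizerMonoidHom K ⟨j', hn⟩ : MulAut K).toMonoidHom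
    have hφ : ∀ y : K, ((φ y : K) : G) = j' * y * j'⁻¹ := fun y => rfl
    have := InvolutionEigen.inverts_of_fpf φ (fun y => Subtype.ext (by
        rw [hφ, hφ, show j' * (j' * (y : G) * j'⁻¹) * j'⁻¹ = (j' * j') * y * (j' * j')⁻¹ by group,
          mul_self f'.hj]
        group))
      (fun y hy => by
        by_contra hy1
        refine hcon j' f' hor y y.2 (fun e => hy1 (Subtype.ext e)) ?_
        have := congrArg Subtype.val hy
        rw [hφ] at this
        exact (mul_inv_eq_iff_eq_mul.1 this).symm) ⟨x, hx⟩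
    simpa [hφ] using congrArg Subtype.val this
  obtain ⟨x, hx, hxt⟩ := hne
  have h1 := key j f (Or.inl rfl) hjK x hx
  have h2 := key (t * j) f.mul_right (Or.inr rfl) (Subgroup.mul_mem _ htK hjK) x hx
  rw [show t * j * x * (t * j)⁻¹ = t * (j * x * j⁻¹) * t⁻¹ by group, h1] at h2
  refine hxt ?_
  have h3 : t * x * t⁻¹ = x := inv_injective (by rw [← h2]; group)
  exact (mul_inv_eq_iff_eq_mul.1 h3).symm

theorem cent_sylow_cyclic {x : G} (hx : x ≠ 1) (hxo : Odd (orderOf x)) {P : Subgroup G}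
    (hP : IsPGroup 2 P) (hPc : P ≤ centralizer ({x} : Set G)) : IsCyclic P := by
  haveI : Fact (Nat.Prime 2) := ⟨Nat.prime_two⟩
  rcases eq_or_ne P ⊥ with rfl | hne
  · exact isCyclic_of_subsingleton
  obtain ⟨z, hz, hz1, hz2⟩ := PLocal.exists_central_of_order_p hP hne
  have hzo := orderOf_of_sq (by rw [← sq]; exact hz2) hz1
  obtain ⟨A, u, hl⟩ := h.loc z hzo
  have hxz : Commute x z := (mem_centralizer_singleton_iff.1 (hPc hz.1)).symm
  have hle : P ≤ A := fun c hc => by
    have hcz : Commute c z := mem_centralizer_iff.1 hz.2 c hc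
    by_contra hA
    have hc2 := hl.sq_eq_one (mem_centralizer_singleton_iff.2 hcz) hA
    have hco := orderOf_of_sq hc2 (fun e => hA (e ▸ A.one_mem))
    exact hx (h.eq_one_of_four hzo hco hcz (fun e => hA (e ▸ hl.t_mem)) hxz
      (show Commute c x from mem_centralizer_singleton_iff.1 (hPc hc)).symm hxo)
  refine AbelianTwoFactor.isCyclic_of_unique_involution hP
    (fun a b => Subtype.ext (hl.comm a (hle a.2) b (hle b.2))) (v := ⟨z, hz.1⟩) fun a ha => ?_
  rcases eq_or_ne (a : G) 1 with h1 | h1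
  · exact Or.inl (Subtype.ext h1)
  · exact Or.inr (Subtype.ext (hl.uniq a (hle a.2) (orderOf_of_sq (congrArg Subtype.val ha) h1)))

omit h in
/-- `O(C(x))`. -/
def core (x : G) : Subgroup G :=
  (Cfsg.oddCore (centralizer ({x} : Set G))).map (centralizer ({x} : Set G)).subtype

omit h in
theorem core_le (x : G) : core x ≤ centralizer ({x} : Set G) := map_subtype_le _

omit h in
theorem odd_core (x : G) : Odd (Nat.card (core x)) := by
  rw [core, Cores.card_map_subtype]
  exact Nat.coprime_two_right.1 (Cores.coprime_card_pPrimeCore 2)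

theorem core_complement {x : G} (hx : x ≠ 1) (hxo : Odd (orderOf x)) :
    ∃ N : Subgroup (centralizer ({x} : Set G)), N.Normal ∧ Odd (Nat.card N) ∧
      ∃ Q : Sylow 2 (centralizer ({x} : Set G)), IsCyclic (Q : Subgroup (centralizer ({x} : Set G))) ∧
        N.IsComplement' (Q : Subgroup (centralizer ({x} : Set G))) := by
  haveI : Fact (Nat.Prime 2) := ⟨Nat.prime_two⟩
  set C := centralizer ({x} : Set G)
  have hcyc : ∀ P : Sylow 2 C, IsCyclic (P : Subgroup C) := fun P => by
    have := h.cent_sylow_cyclic hx hxo (P.isPGroup'.map C.subtype) (map_subtype_le _)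
    exact isCyclic_of_surjective _
      ((P : Subgroup C).equivMapOfInjective C.subtype C.subtype_injective).symm.surjective
  obtain ⟨P⟩ : Nonempty (Sylow 2 C) := inferInstance
  obtain ⟨Q, N, hN, hNQ⟩ := PairsCyclic.hasNormalPComplement_two P (hcyc P) rfl
  refine ⟨N, hN, ?_, Q, hcyc Q, hNQ⟩
  have := Q.not_dvd_index
  rw [hNQ.index_eq_card] at this
  exact Nat.odd_iff.2 (Nat.two_dvd_ne_zero.1 this)

theorem mem_core {x c : G} (hx : x ≠ 1) (hxo : Odd (orderOf x)) (hc : Commute c x)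
    (hco : Odd (orderOf c)) : c ∈ core x := by
  haveI : Fact (Nat.Prime 2) := ⟨Nat.prime_two⟩
  obtain ⟨N, hN, hNodd, Q, -, hNQ⟩ := h.core_complement hx hxo
  obtain ⟨n, hn⟩ := IsPGroup.iff_card.1 Q.isPGroup'
  haveI := hN
  have hidx : N.index = 2 ^ n := by rw [hNQ.symm.index_eq_card, hn]
  refine ⟨⟨c, mem_centralizer_singleton_iff.2 hc⟩, Cores.le_pPrimeCore hN
    (Nat.coprime_two_right.2 hNodd) ?_, rfl⟩
  rw [← QuotientGroup.eq_one_iff (N := N), ← orderOf_eq_one_iff]
  refine Nat.eq_one_of_dvd_coprimes (a := orderOf c) (b := 2 ^ n) ((Nat.coprime_two_right.2 hco).pow_right n)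
    ?_ ?_
  · have := orderOf_map_dvd (QuotientGroup.mk' N) (⟨c, mem_centralizer_singleton_iff.2 hc⟩ : centralizer ({x} : Set G))
    rwa [← Subgroup.orderOf_coe] at this
  · rw [← hidx, Subgroup.index_eq_card]
    exact orderOf_dvd_natCard _

theorem mem_core_iff {x c : G} (hx : x ≠ 1) (hxo : Odd (orderOf x)) :
    c ∈ core x ↔ Commute c x ∧ Odd (orderOf c) :=
  ⟨fun hc => ⟨mem_centralizer_singleton_iff.1 (core_le x hc), odd_orderOf_of_mem (odd_core x) hc⟩,
    fun hc => h.mem_core hx hxo hc.1 hc.2⟩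

/-- `C(x)/O(C(x))` is abelian. -/
theorem commutator_mem_core {x a b : G} (hx : x ≠ 1) (hxo : Odd (orderOf x)) (ha : Commute a x)
    (hb : Commute b x) : a * b * a⁻¹ * b⁻¹ ∈ core x := by
  obtain ⟨N, hN, hNodd, Q, hQc, hNQ⟩ := h.core_complement hx hxo
  haveI := hN
  haveI := hQc
  let a' : centralizer ({x} : Set G) := ⟨a, mem_centralizer_singleton_iff.2 ha⟩
  let b' : centralizer ({x} : Set G) := ⟨b, mem_centralizer_singleton_iff.2 hb⟩
  have key : ∀ g : centralizer ({x} : Set G), ∃ q : (Q : Subgroup (centralizer ({x} : Set G))),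
      QuotientGroup.mk' N g = QuotientGroup.mk' N (q : centralizer ({x} : Set G)) := by
    intro g
    obtain ⟨⟨⟨m, hm⟩, ⟨q, hq⟩⟩, e, -⟩ := hNQ.existsUnique g
    refine ⟨⟨q, hq⟩, ?_⟩
    rw [← e]
    show QuotientGroup.mk' N (m * q) = _
    rw [map_mul, show QuotientGroup.mk' N m = 1 from (QuotientGroup.eq_one_iff m).2 hm, one_mul]
  refine ⟨a' * b' * a'⁻¹ * b'⁻¹, Cores.le_pPrimeCore hN (Nat.coprime_two_right.2 hNodd) ?_, rfl⟩
  obtain ⟨qa, hqa⟩ := key a'
  obtain ⟨qb, hqb⟩ := key b'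
  obtain ⟨g, hg⟩ := IsCyclic.exists_generator (α := (Q : Subgroup (centralizer ({x} : Set G))))
  have hcomm : qa * qb = qb * qa := by
    obtain ⟨i, rfl⟩ := mem_zpowers_iff.1 (hg qa)
    obtain ⟨k, rfl⟩ := mem_zpowers_iff.1 (hg qb)
    rw [← zpow_add, ← zpow_add, add_comm]
  rw [← QuotientGroup.eq_one_iff (N := N)]
  show QuotientGroup.mk' N (a' * b' * a'⁻¹ * b'⁻¹) = 1
  rw [map_mul, map_mul, map_mul, map_inv, map_inv, hqa, hqb, ← map_inv, ← map_inv, ← map_mul, ← map_mul,
    ← map_mul]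
  refine (congrArg _ ?_).trans (map_one (QuotientGroup.mk' N))
  have h1 : ((qa : centralizer ({x} : Set G)) * qb) = qb * qa := congrArg Subtype.val hcomm
  rw [h1]
  group

omit h in
/-- Whatever maps `x` to itself or its inverse normalises `O(C(x))`. -/
theorem normalizes_core {x g : G} (hg : g * x * g⁻¹ = x ∨ g * x * g⁻¹ = x⁻¹) :
    g ∈ normalizer (core x : Set G) := by
  refine Cores.normalizer_le_normalizer_map _ (Coprime.mem_normalizer_of_forall fun c hc => ?_)
  rw [mem_centralizer_singleton_iff] at hc ⊢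
  rcases hg with e | e
  · have hg' : g⁻¹ * x * g = x := by
      conv_lhs => rw [← e]
      group
    calc g * c * g⁻¹ * x = g * (c * (g⁻¹ * x * g)) * g⁻¹ := by group
      _ = g * (x * c) * g⁻¹ := by rw [hg', hc]
      _ = g * x * g⁻¹ * (g * c * g⁻¹) := by group
      _ = x * (g * c * g⁻¹) := by rw [e]
  · have hg' : g⁻¹ * x * g = x⁻¹ := by
      calc g⁻¹ * x * g = g⁻¹ * (g * x * g⁻¹)⁻¹ * g := by rw [e, inv_inv]
        _ = x⁻¹ := by group
    have hc' : c * x⁻¹ = x⁻¹ * c := (Commute.inv_right hc).eq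
    calc g * c * g⁻¹ * x = g * (c * (g⁻¹ * x * g)) * g⁻¹ := by group
      _ = g * (x⁻¹ * c) * g⁻¹ := by rw [hg', hc']
      _ = (g * x * g⁻¹)⁻¹ * (g * c * g⁻¹) := by group
      _ = x * (g * c * g⁻¹) := by rw [e, inv_inv]

end DHyp

end Cfsg.Agent.DGroup
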