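import Cfsg.Agent.Lib.DGroup.Quotient
import Cfsg.Agent.Lib.AbelianTwoFactor.Basic

/-!
The case in which a Sylow 2-subgroup lies in the centraliser of `t`.

* `Split` : index two, one class of involutions inside
* `Loc.full_case` : `DHyp G` or a `Split`
* `Split.dhyp` : the subgroup of index two satisfies `DHyp`
-/

set_option autoImplicit false

namespace Cfsg.Agent.DGroup

open Subgroup Cfsg Involution

universe v

variable {G : Type v} [Group G] [Finite G]

/-- Index two, all involutions of the subgroup conjugate, with an outer involution centralising one. -/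
structure Split (N : Subgroup G) (z : G) (A : Subgroup G) (v w : G) : Prop where
  normal : N.Normal
  index : N.index = 2
  loc : Loc z A v
  v_not : v ∉ N
  z_mem : z ∈ N
  w_mem : w ∈ N
  hw : orderOf w = 2
  hwz : Commute w z
  hne : w ≠ z
  conj : ∀ x ∈ N, orderOf x = 2 → IsConj x z

theorem Split.dhyp {N : Subgroup G} {z : G} {A : Subgroup G} {v w : G} (s : Split N z A v w) :
    DHyp N := by
  have hl := s.loc.change s.hw s.hwz s.hne
  refine dhyp_of_loc (t := ⟨z, s.z_mem⟩) (A := A.subgroupOf N) (u := ⟨w, s.w_mem⟩) ?_ ?_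
  · exact {
      ht := by rw [Subgroup.orderOf_mk]; exact hl.ht
      le_cent := fun a ha => mem_centralizer_singleton_iff.2 (Subtype.ext
        (mem_centralizer_singleton_iff.1 (hl.le_cent (mem_subgroupOf.1 ha))))
      comm := fun a ha b hb => Subtype.ext (hl.comm _ (mem_subgroupOf.1 ha) _ (mem_subgroupOf.1 hb))
      t_mem := mem_subgroupOf.2 hl.t_mem
      uniq := fun a ha ho => Subtype.ext (hl.uniq _ (mem_subgroupOf.1 ha) (by rwa [Subgroup.orderOf_coe]))
      hu := by rw [Subgroup.orderOf_mk]; exact hl.hu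
      u_cent := mem_centralizer_singleton_iff.2 (Subtype.ext s.hwz.eq)
      u_not := fun h => hl.u_not (mem_subgroupOf.1 h)
      inv := fun a ha => Subtype.ext (hl.inv _ (mem_subgroupOf.1 ha))
      cover := fun c hc => by
        rcases hl.cover c (mem_centralizer_singleton_iff.2
          (congrArg Subtype.val (mem_centralizer_singleton_iff.1 hc))) with h | h
        · exact Or.inl (mem_subgroupOf.2 h)
        · exact Or.inr (mem_subgroupOf.2 h) }
  · have key : ∀ x : N, orderOf x = 2 → IsConj x ⟨z, s.z_mem⟩ := fun x hx => by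
      obtain ⟨g, hg⟩ := isConj_iff.1 (s.conj x x.2 (by rwa [Subgroup.orderOf_coe]))
      by_cases hgN : g ∈ N
      · exact isConj_iff.2 ⟨⟨g, hgN⟩, Subtype.ext hg⟩
      · have hvg : v * g ∈ N := (Subgroup.mul_mem_iff_of_index_two s.index).2 (iff_of_false s.v_not hgN)
        refine isConj_iff.2 ⟨⟨v * g, hvg⟩, Subtype.ext ?_⟩
        show v * g * x * (v * g)⁻¹ = z
        rw [show v * g * x * (v * g)⁻¹ = v * (g * x * g⁻¹) * v⁻¹ by group, hg,
          mem_centralizer_singleton_iff.1 s.loc.u_cent, mul_inv_cancel_right]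
    exact fun a b ha hb => (key a ha).trans (key b hb).symm

/-- With a Sylow 2-subgroup inside `C(t)`: `DHyp` or a split. -/
theorem Loc.full_case {t : G} {A : Subgroup G} {u : G} (hl : Loc t A u) (hns : ¬ Group.IsSolvable G)
    (S : Sylow 2 G) (htS : t ∈ S) (huS : u ∈ S) (hS : (S : Subgroup G) ≤ centralizer ({t} : Set G)) :
    DHyp G ∨ ∃ N z A' v w, Split (G := G) N z A' v w := by
  haveI : Fact (Nat.Prime 2) := ⟨Nat.prime_two⟩
  set T₀ : Subgroup G := (S : Subgroup G) ⊓ A with hT₀
  have hcov : ∀ x ∈ S, x ∈ T₀ ∨ x * u ∈ T₀ := fun x hx =>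
    (hl.cover x (hS hx)).imp (fun h => ⟨hx, h⟩) (fun h => ⟨mul_mem hx huS, h⟩)
  have hT₀p : IsPGroup 2 T₀ := S.isPGroup'.to_le inf_le_left
  haveI : IsCyclic T₀ := AbelianTwoFactor.isCyclic_of_unique_involution hT₀p
    (fun a b => Subtype.ext (hl.comm _ a.2.2 _ b.2.2)) (v := ⟨t, htS, hl.t_mem⟩) fun a ha =>
      (eq_or_ne a 1).imp_right fun h => Subtype.ext (hl.uniq _ a.2.2 (orderOf_of_sq
        (congrArg Subtype.val ha) fun e => h (Subtype.ext e)))
  obtain ⟨a, ha⟩ := (Subgroup.isCyclic_iff_exists_zpowers_eq_top T₀).1 inferInstance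
  have haT : a ∈ T₀ := ha ▸ mem_zpowers a
  obtain ⟨g, hgc, hgt⟩ := hl.not_isolated hns
  obtain ⟨c, hc, hcS⟩ := exists_conj_into S hS
    (IsPGroup.of_card (n := 1) (by rw [Nat.card_zpowers, orderOf_conj, hl.ht, pow_one]) :
      IsPGroup 2 (zpowers (g * t * g⁻¹)))
    (zpowers_le.2 (mem_centralizer_singleton_iff.2 hgc.eq.symm))
  set s := c * (g * t * g⁻¹) * c⁻¹ with hs
  have hsS : s ∈ S := hcS _ (mem_zpowers _)
  have hst : s ≠ t := fun e => hgt (by
    have h1 : c * (g * t * g⁻¹) * c⁻¹ = c * t * c⁻¹ := by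
      rw [← hs, e, mem_centralizer_singleton_iff.1 hc, mul_inv_cancel_right]
    simpa using h1)
  have hs2 : orderOf s = 2 := by rw [hs, orderOf_conj, orderOf_conj]; exact hl.ht
  have hts : IsConj t s := isConj_iff.2 ⟨c * g, by rw [hs]; group⟩
  obtain ⟨m, -, hm⟩ := (Nat.dvd_prime_pow Nat.prime_two).1 (show orderOf a ∣ 2 ^ (IsPGroup.iff_card.1 hT₀p).choose by
    rw [← (IsPGroup.iff_card.1 hT₀p).choose_spec]
    exact Subgroup.orderOf_dvd_natCard _ haT)
  rcases Nat.lt_or_ge m 2 with hm2 | hm2
  · -- a four group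
    left
    have hsq : a * a = 1 := by
      rw [← pow_two]
      exact orderOf_dvd_iff_pow_eq_one.1 (hm ▸ by interval_cases m <;> norm_num)
    have hT₀t : ∀ x ∈ T₀, x = 1 ∨ x = t := fun x hx => by
      obtain ⟨i, rfl⟩ := mem_zpowers_iff.1 (ha.symm ▸ hx : x ∈ zpowers a)
      refine (eq_or_ne (a ^ i) 1).imp_right fun h => hl.uniq _ hx.2 (orderOf_of_sq ?_ h)
      rw [← zpow_add, ← two_mul, zpow_mul, zpow_two, hsq, one_zpow]
    have f : Four t u := ⟨hl.ht, hl.hu, mem_centralizer_singleton_iff.1 hl.u_cent,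
      fun e => hl.u_not (e ▸ hl.t_mem)⟩
    have hle : (S : Subgroup G) ≤ f.group := fun x hx => by
      rcases hcov x hx with h | h <;> rcases hT₀t _ h with e | e
      · exact e ▸ f.group.one_mem
      · exact e ▸ f.t_mem
      · rw [eq_inv_of_mul_eq_one_left e, inv_eq hl.hu]; exact f.j_mem
      · rw [show x = x * u * u by rw [mul_assoc, mul_self hl.hu, mul_one], e]
        exact Or.inr (Or.inr (Or.inr rfl))
    have hall : ∀ v ∈ S, orderOf v = 2 → IsConj t v := by
      obtain ⟨n, hn⟩ := isConj_iff.1 hts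
      rcases hle hsS with e | e | e | e
      · exact absurd e (ne_one hs2)
      · exact absurd e hst
      · exact four_sylow_conj f S htS huS hle (hn.trans e)
      · refine four_sylow_conj f.mul_right S htS (mul_mem htS huS) (fun x hx => ?_) (hn.trans e)
        exact (f.le_iff.2 ⟨f.mul_right.t_mem, by
          have := f.mul_right.group.mul_mem f.mul_right.t_mem f.mul_right.j_mem
          rwa [← mul_assoc, mul_self hl.ht, one_mul] at this⟩) (hle hx)
    refine dhyp_of_loc hl fun x y hx hy => ?_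
    obtain ⟨x', hx', hx2, hxx⟩ := exists_conj_mem_sylow S hx
    obtain ⟨y', hy', hy2, hyy⟩ := exists_conj_mem_sylow S hy
    exact hxx.trans (((hall x' hx' hx2).symm.trans (hall y' hy' hy2)).trans hyy.symm)
  · -- dihedral
    obtain ⟨k, rfl⟩ : ∃ k, m = k + 2 := ⟨m - 2, by omega⟩
    have D : DihSylow S k a u := ⟨haT.1, huS, hm, hl.hu, hl.inv a haT.2,
      fun h => hl.u_not ((ha ▸ h : u ∈ T₀).2), fun x hx => by rw [ha]; exact hcov x hx⟩
    have hta : a ^ 2 ^ (k + 1) = t :=
      hl.uniq _ (pow_mem haT.2 _) D.mid_order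
    obtain ⟨N, hNn, hNi⟩ | hall : (∃ N : Subgroup G, N.Normal ∧ N.index = 2) ∨
        IsConj u t ∧ IsConj (a * u) t := by
      by_cases h1 : IsConj u t
      · by_cases h2 : IsConj (a * u) t
        · exact Or.inr ⟨h1, h2⟩
        · exact Or.inl (D.exists_index_two hns D.mul_b_order hl.ht h2)
      · exact Or.inl (D.exists_index_two hns hl.hu hl.ht h1)
    swap
    · left
      refine dhyp_of_loc hl fun x y hx hy => ?_
      have key : ∀ x, orderOf x = 2 → IsConj x t := fun x hx => by
        rcases D.classes hx with h | h | h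
        · exact hta ▸ h
        · exact h.trans hall.1
        · exact h.trans hall.2
      exact (key x hx).trans (key y hy).symm
    right
    haveI := hNn
    have htN : t ∈ N := by
      rw [← hta, pow_succ, pow_mul, pow_two]
      exact Subgroup.mul_self_mem_of_index_two hNi _
    have hconjN : ∀ x, IsConj x t → x ∈ N := fun x hx => by
      obtain ⟨n, hn⟩ := isConj_iff.1 hx.symm
      exact hn ▸ hNn.conj_mem t htN n
    have hone : IsConj u t ∨ IsConj (a * u) t := by
      have hsa : s ∉ zpowers a := fun h => hst (hta ▸ D.eq_mid h hs2)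
      obtain ⟨j, -, h | h⟩ := D.outer_cases hsS hsa
      · exact Or.inl (isConj_iff.2 ⟨j, h⟩ |>.symm.trans hts.symm)
      · exact Or.inr (isConj_iff.2 ⟨j, h⟩ |>.symm.trans hts.symm)
    have hnotle : ¬ (S : Subgroup G) ≤ N := fun h => S.not_dvd_index (by
      have h1 := Subgroup.index_dvd_of_le h
      rwa [hNi] at h1)
    have hau : u ∈ N → a * u ∈ N → False := fun h1 h2 => hnotle fun x hx => by
      have haN : zpowers a ≤ N := zpowers_le.2 (by simpa using N.mul_mem h2 (N.inv_mem h1))
      rcases D.cover x hx with h | h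
      · exact haN h
      · simpa using N.mul_mem (haN h) (N.inv_mem h1)
    have huc : Commute u t := mem_centralizer_singleton_iff.1 hl.u_cent
    have hauc : Commute (a * u) t :=
      Commute.mul_left (show Commute a t from mem_centralizer_singleton_iff.1 (hl.le_cent haT.2)) huc
    have haut : a * u ≠ t := fun e => hl.u_not (by
      rw [show u = a⁻¹ * t by rw [← e]; group]; exact A.mul_mem (A.inv_mem haT.2) hl.t_mem)
    have hut : u ≠ t := fun e => hl.u_not (e ▸ hl.t_mem)
    rcases hone with h1 | h1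
    · have h2 : a * u ∉ N := hau (hconjN u h1)
      refine ⟨N, t, A, a * u, u, hNn, hNi, hl.change D.mul_b_order hauc haut, h2, htN, hconjN u h1,
        hl.hu, huc, hut, fun x hxN hx => ?_⟩
      rcases D.classes hx with h | h | h
      · exact hta ▸ h
      · exact h.trans h1
      · obtain ⟨n, hn⟩ := isConj_iff.1 h
        exact absurd (hn ▸ hNn.conj_mem x hxN n) h2
    · have h2 : u ∉ N := fun h => hau h (hconjN _ h1)
      refine ⟨N, t, A, u, a * u, hNn, hNi, hl, h2, htN, hconjN _ h1,
        D.mul_b_order, hauc, haut, fun x hxN hx => ?_⟩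
      rcases D.classes hx with h | h | h
      · exact hta ▸ h
      · obtain ⟨n, hn⟩ := isConj_iff.1 h
        exact absurd (hn ▸ hNn.conj_mem x hxN n) h2
      · exact h.trans h1

end Cfsg.Agent.DGroup
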