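import Cfsg.Agent.Lib.DGroup.Fused
import Cfsg.Agent.Lib.Bender.InvolutionZJ
import Cfsg.Agent.Lib.Bender.CoreInCore
import Cfsg.Agent.Lib.Bender.RankOneHalf
import Cfsg.Agent.Lib.Signalizer.SSFT.Main
import Cfsg.Agent.Lib.Signalizer.Constrained
import Cfsg.Agent.Lib.HallHigman.PSolvable

/-!
In a simple `D`-group `C(x) ≤ C(t)` for every `x ≠ 1` of odd order commuting with the involution `t`.

* `DHyp.ti` : the theorem
-/

set_option autoImplicit false

namespace Cfsg.Agent.DGroup

open Subgroup Cfsg Involution DHyp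

universe v

variable {G : Type v} [Group G] [Finite G]

omit [Finite G] in
/-- An injective endomorphism moves `O_{p'}` along. -/
theorem map_pPrimeCore_map (p : ℕ) (H : Subgroup G) (f : G →* G) (hf : Function.Injective f) :
    ((pPrimeCore p H).map H.subtype).map f = (pPrimeCore p (H.map f)).map (H.map f).subtype := by
  rw [← Cores.pPrimeCore_map_mulEquiv (H.equivMapOfInjective f hf) p, Subgroup.map_map, Subgroup.map_map]
  rfl

namespace Best

variable {h : DHyp G} {p : ℕ} [Fact p.Prime] {hp : Odd p} {t j z : G} {S : Subgroup G}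
  (B : Best h p hp t j z S)
include B

theorem exists_embedded [IsSimpleGroup G] : ∃ M : Subgroup G, IsStronglyEmbedded M ∧
    ∃ X : Subgroup G, X ≠ ⊥ ∧ X ≤ M ∧ Odd (Nat.card X) ∧ (X.subgroupOf M).Normal := by
  haveI : Fact (Nat.Prime 2) := ⟨Nat.prime_two⟩
  have hp2 : p ≠ 2 := fun e => by subst e; exact absurd hp (by decide)
  obtain ⟨T, htT, hTt, hTN, ⟨u, huT, fu⟩, hfus⟩ := B.fused
  set W := centerThompsonOf p S with hWdef
  set N := normalizer (W : Set G) with hNdef
  -- the elementary abelian subgroup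
  let A₀ : Subgroup G :=
    { carrier := {w | w ∈ W ∧ w ^ p = 1}
      one_mem' := ⟨one_mem _, one_pow _⟩
      mul_mem' := fun ha hb => ⟨W.mul_mem ha.1 hb.1, by
        rw [Commute.mul_pow (W_comm ha.1 hb.1), ha.2, hb.2, one_mul]⟩
      inv_mem' := fun ha => ⟨W.inv_mem ha.1, by rw [inv_pow, ha.2, inv_one]⟩ }
  have hA₀e : IsElementaryAbelian p A₀ :=
    ⟨⟨⟨fun a b => Subtype.ext (W_comm a.2.1 b.2.1)⟩⟩, fun a ha => ha.2⟩
  have hzA : z ∈ A₀ := ⟨B.z_W, B.z_pow⟩
  have hA₀o : ∀ a ∈ A₀, Odd (orderOf a) := fun a ha =>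
    odd_of_pow_eq_one hp (k := 1) (by rw [pow_one]; exact ha.2)
  have hNA₀ : N ≤ normalizer (A₀ : Set G) := fun g hg => Coprime.mem_normalizer_of_forall fun a ha =>
    ⟨(Subgroup.mem_normalizer_iff.1 hg a).1 ha.1, by rw [conj_pow, ha.2, mul_one, mul_inv_cancel]⟩
  have hcard : p ^ 3 ≤ Nat.card A₀ := by
    have htu := fu.comm
    have ftu := fu.mul_right
    obtain ⟨n1, hn1, e1⟩ := hfus u huT fu.hj
    obtain ⟨n2, hn2, e2⟩ := hfus (t * u) (mul_mem htT huT) ftu.hj
    have hconj : ∀ (n : G), n ∈ N → ∀ (v : G), n * t * n⁻¹ = v →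
        n * z * n⁻¹ ∈ A₀ ∧ n * z * n⁻¹ ≠ 1 ∧ Commute (n * z * n⁻¹) v := fun n hn v hv => by
      refine ⟨(Subgroup.mem_normalizer_iff.1 (hNA₀ hn) z).1 hzA,
        fun e => B.z_ne (conj_eq_one_iff.1 e), ?_⟩
      have := B.z_t.map (MulAut.conj n).toMonoidHom
      rwa [show (MulAut.conj n).toMonoidHom t = v from hv] at this
    obtain ⟨ha, ha1, hau⟩ := hconj n1 hn1 u e1
    obtain ⟨hb, hb1, hbu⟩ := hconj n2 hn2 _ e2
    generalize n1 * z * n1⁻¹ = a at ha ha1 hau
    generalize n2 * z * n2⁻¹ = b at hb hb1 hbu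
    have hsub : ∀ x ∈ A₀, x ≠ 1 → Nat.card (zpowers x) = p := fun x hx hx1 => by
      rw [Nat.card_zpowers]
      exact orderOf_eq_prime hx.2 hx1
    let F : zpowers z × zpowers a × zpowers b → A₀ := fun q =>
      ⟨(q.1 : G) * q.2.1 * q.2.2, mul_mem (mul_mem (zpowers_le.2 hzA q.1.2) (zpowers_le.2 ha q.2.1.2))
        (zpowers_le.2 hb q.2.2.2)⟩
    have hF : Function.Injective F := by
      rintro ⟨x₁, y₁, w₁⟩ ⟨x₂, y₂, w₂⟩ e
      have e' : (x₁ : G) * y₁ * w₁ = x₂ * y₂ * w₂ := congrArg Subtype.val e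
      have hxA := zpowers_le.2 hzA
      have hyA := zpowers_le.2 ha
      have hwA := zpowers_le.2 hb
      have c := fun (r s : G) (hr : r ∈ A₀) (hs : s ∈ A₀) => W_comm hr.1 hs.1
      set X := ((x₂ : G))⁻¹ * x₁ with hX
      set Y := ((y₂ : G))⁻¹ * y₁ with hY
      set Z := ((w₂ : G))⁻¹ * w₁ with hZ
      have hXm : X ∈ zpowers z := mul_mem (inv_mem x₂.2) x₁.2
      have hYm : Y ∈ zpowers a := mul_mem (inv_mem y₂.2) y₁.2
      have hZm : Z ∈ zpowers b := mul_mem (inv_mem w₂.2) w₁.2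
      have hprod : X * Y * Z = 1 := by
        rw [← mul_right_inj ((x₂ : G) * y₂ * w₂), mul_one]
        conv_rhs => rw [← e']
        have hw2 : (w₂ : G) ∈ A₀ := hwA w₂.2
        have hy2 : (y₂ : G) ∈ A₀ := hyA y₂.2
        calc (x₂ : G) * y₂ * w₂ * (X * Y * Z) = x₂ * (y₂ * (w₂ * X)) * Y * Z := by group
          _ = x₂ * (y₂ * X) * (w₂ * Y) * Z := by rw [c _ _ hw2 (hxA hXm)]; group
          _ = x₂ * X * (y₂ * Y) * (w₂ * Z) := by
            rw [c _ _ hy2 (hxA hXm), c _ _ hw2 (hyA hYm)]; group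
          _ = x₁ * y₁ * w₁ := by
            rw [hX, hY, hZ, mul_inv_cancel_left, mul_inv_cancel_left, mul_inv_cancel_left]
      have hcom : ∀ {x v : G} {g : G}, g ∈ zpowers x → Commute x v → Commute g v := fun hg hxv => by
        obtain ⟨i, rfl⟩ := mem_zpowers_iff.1 hg
        exact hxv.zpow_left i
      have hXo := hA₀o X (hxA hXm)
      have hYo := hA₀o Y (hyA hYm)
      have hZo := hA₀o Z (hwA hZm)
      have hXt := hcom hXm B.z_t
      have hYu := hcom hYm hau
      have hZtu := hcom hZm hbu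
      have tX : t * X * t⁻¹ = X := by rw [← hXt.eq, mul_inv_cancel_right]
      have tY : t * Y * t⁻¹ = Y⁻¹ := h.inverts fu.hj B.f.ht fu.comm.symm fu.ne.symm hYu hYo
      have tZ : t * Z * t⁻¹ = Z⁻¹ :=
        h.inverts ftu.hj B.f.ht ftu.comm.symm ftu.ne.symm hZtu hZo
      have hX1 : X = 1 := by
        have e3 : X * Y⁻¹ * Z⁻¹ = 1 := by
          have e4 := congrArg (fun g => t * g * t⁻¹) hprod
          simp only [mul_one, mul_inv_cancel] at e4
          rwa [show t * (X * Y * Z) * t⁻¹ = (t * X * t⁻¹) * (t * Y * t⁻¹) * (t * Z * t⁻¹) by group,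
            tX, tY, tZ] at e4
        have e5 : X * X = 1 := by
          calc X * X = (X * (Y * Z)) * (X * (Z * Y)⁻¹) := by
                rw [c _ _ (hwA hZm) (hyA hYm)]
                calc X * X = X * X * ((Y * Z) * (Y * Z)⁻¹) := by rw [mul_inv_cancel, mul_one]
                  _ = X * (X * (Y * Z)) * (Y * Z)⁻¹ := by group
                  _ = X * ((Y * Z) * X) * (Y * Z)⁻¹ := by
                    rw [c X (Y * Z) (hxA hXm) (A₀.mul_mem (hyA hYm) (hwA hZm))]
                  _ = X * (Y * Z) * (X * (Y * Z)⁻¹) := by group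
            _ = 1 := by
                rw [← mul_assoc X Y Z, hprod, one_mul, mul_inv_rev, ← mul_assoc, e3]
        by_contra hne
        rw [orderOf_of_sq e5 hne] at hXo
        exact absurd hXo (by decide)
      rw [hX1, one_mul] at hprod
      have hY1 : Y = 1 := by
        have hZY : Z = Y⁻¹ := eq_inv_of_mul_eq_one_right hprod
        rw [hZY] at hZtu
        exact h.eq_one_of_four fu.hj B.f.ht fu.comm.symm fu.ne.symm hYu (by
          have h1 := (Commute.inv_left_iff.1 hZtu).mul_right hYu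
          rwa [mul_assoc, mul_self fu.hj, mul_one] at h1) hYo
      rw [hY1, one_mul] at hprod
      simp only [hX, hY, hZ, inv_mul_eq_one] at hX1 hY1 hprod
      rw [Prod.mk.injEq, Prod.mk.injEq]
      exact ⟨Subtype.ext hX1.symm, Subtype.ext hY1.symm, Subtype.ext hprod.symm⟩
    have := Nat.card_le_card_of_injective F hF
    rwa [Nat.card_prod, Nat.card_prod, hsub z hzA B.z_ne, hsub a ha ha1, hsub b hb hb1,
      show p * (p * p) = p ^ 3 by ring] at this
  -- the signalizer functor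
  let θ : G → Subgroup G := fun a => (pPrimeCore p (core a)).map (core a).subtype
  have hθconj : ∀ a ∈ A₀, a ≠ 1 → ∀ g : G,
      (θ a).map (MulAut.conj g).toMonoidHom = θ (g * a * g⁻¹) := fun a ha ha1 g => by
    show ((pPrimeCore p (core a)).map (core a).subtype).map (MulAut.conj g).toMonoidHom = _
    rw [map_pPrimeCore_map p (core a) _ (MulAut.conj g).injective, h.core_conj g ha1 (hA₀o a ha)]
  have hθle : ∀ a, θ a ≤ core a := fun a => map_subtype_le _
  have hθfix : ∀ a ∈ A₀, a ≠ 1 → ∀ g : G, Commute g a → ∀ x ∈ θ a, g * x * g⁻¹ ∈ θ a :=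
    fun a ha ha1 g hg x hx => by
    have h1 := hθconj a ha ha1 g
    rw [hg.eq, mul_inv_cancel_right] at h1
    rw [← h1]
    exact ⟨x, hx, rfl⟩
  have hθ : IsSolvableSignalizerFunctor p A₀ θ := by
    refine ⟨⟨fun a _ _ => (hθle a).trans (core_le a), fun a _ _ => ?_,
      fun a ha ha1 b hb => hθfix a ha ha1 b (W_comm hb.1 ha.1), ?_⟩, fun a _ _ => ?_⟩
    · show ¬ p ∣ Nat.card ↥((pPrimeCore p (core a)).map (core a).subtype)
      rw [Cores.card_map_subtype]; exact Cores.not_dvd_card_pPrimeCore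
    · intro a ha ha1 b hb hb1
      set Y := θ a ⊓ centralizer ({b} : Set G) with hY
      set K := core b with hKdef
      have hYK : Y ≤ K := fun y hy => h.mem_core hb1 (hA₀o b hb) (mem_centralizer_singleton_iff.1 hy.2)
        (odd_orderOf_of_mem (odd_core a) (hθle a hy.1))
      haveI : Group.IsSolvable K := OddOrderTheorem.solvable (odd_core b)
      have haK : a ∈ K := h.mem_core hb1 (hA₀o b hb) (W_comm ha.1 hb.1) (hA₀o a ha)
      have hao : orderOf (⟨a, haK⟩ : K) = p := by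
        rw [← Subgroup.orderOf_coe]; exact orderOf_eq_prime ha.2 ha1
      have h1 : Y.subgroupOf K ≤ pPrimeCore p K :=
        Signalizer.le_pPrimeCore_of_centralizer_le_normalizer HallHigman.isPConstrained_of_isSolvable
          (P := zpowers (⟨a, haK⟩ : K))
          (IsPGroup.of_card (n := 1) (by rw [Nat.card_zpowers, hao, pow_one]))
          (by
            refine ((Fact.out : p.Prime).coprime_iff_not_dvd.2 fun hd => ?_).symm
            refine Cores.not_dvd_card_pPrimeCore (p := p) (G := core a) ?_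
            rw [Cores.card_subgroupOf hYK] at hd
            rw [← Cores.card_map_subtype]
            exact hd.trans (card_dvd_of_le inf_le_left))
          (zpowers_le.2 (mem_centralizer_iff.2 fun y hy => Subtype.ext
            (mem_centralizer_singleton_iff.1 (core_le a (hθle a hy.1)))))
          (fun g hg => by
            have hga : Commute (g : G) a :=
              (congrArg Subtype.val (mem_centralizer_iff.1 hg _ (mem_zpowers _))).symm
            have hgb : Commute (g : G) b := mem_centralizer_singleton_iff.1 (core_le b g.2)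
            refine Coprime.mem_normalizer_of_forall fun y hy => ⟨hθfix a ha ha1 g hga y hy.1, ?_⟩
            exact mem_centralizer_singleton_iff.2 ((hgb.mul_left
              (mem_centralizer_singleton_iff.1 hy.2)).mul_left hgb.inv_left))
      intro y hy
      exact ⟨⟨y, hYK hy⟩, h1 (show (⟨y, hYK hy⟩ : K) ∈ Y.subgroupOf K from hy), rfl⟩
    · haveI := OddOrderTheorem.solvable (odd_core a)
      exact Coprime.isSolvable_of_le (hθle a) this
  obtain ⟨hLsol, hLp, hLC⟩ := Signalizer.solvable_signalizer_functor hA₀e hcard hθ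
  set L := ⨆ a : {a : G // a ∈ A₀ ∧ a ≠ 1}, θ a with hLdef
  have hzL : θ z ≤ L := le_iSup (fun a : {a : G // a ∈ A₀ ∧ a ≠ 1} => θ a) ⟨z, hzA, B.z_ne⟩
  have hNL : N ≤ normalizer (L : Set G) := fun g hg => Coprime.mem_normalizer_of_forall fun x hx => by
    have hle : L.map (MulAut.conj g).toMonoidHom ≤ L := by
      rw [hLdef, Subgroup.map_iSup]
      refine iSup_le fun a => ?_
      rw [hθconj a.1 a.2.1 a.2.2 g]
      exact le_iSup (fun b : {a : G // a ∈ A₀ ∧ a ≠ 1} => θ b)
        ⟨g * a.1 * g⁻¹, (Subgroup.mem_normalizer_iff.1 (hNA₀ hg) a.1).1 a.2.1,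
          fun e => a.2.2 (conj_eq_one_iff.1 e)⟩
    exact hle ⟨x, hx, rfl⟩
  -- `O(C(z))` is covered
  have hcore : ∀ M : Subgroup G, θ z ≤ M → N ≤ M → core z ≤ M := by
    intro M hθM hNM g hg
    haveI : Group.IsSolvable (core z) := OddOrderTheorem.solvable (odd_core z)
    obtain ⟨P, hP⟩ := B.exists_sylow
    obtain ⟨a, ha, n, hn, hgan⟩ := Bender.mul_centerThompson_of_solvable hp2 (K := core z)
      (fun x k hx => by
        have h1 : orderOf x = 1 := Nat.eq_one_of_dvd_coprimes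
          ((Nat.coprime_two_left.2 (odd_core z)).pow_left k) (orderOf_dvd_of_pow_eq_one hx)
          (orderOf_dvd_natCard x)
        rw [orderOf_eq_one_iff.1 h1, one_mul]) P ⟨g, hg⟩
    have hg' : g = (a : G) * n := congrArg Subtype.val hgan
    rw [hg']
    refine M.mul_mem (hθM ⟨a, ha, rfl⟩) (hNM ?_)
    have hW' : (centerThompsonOf p (P : Subgroup (core z))).map (core z).subtype = W := by
      rw [PLocal.map_centerThompsonOf _ (core z).subtype_injective.injOn, hP]
    rw [hNdef, ← hW']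
    refine Coprime.mem_normalizer_of_forall ?_
    rintro _ ⟨w, hw, rfl⟩
    exact ⟨_, (Subgroup.mem_normalizer_iff.1 hn w).1 hw, rfl⟩
  have hWodd : Odd (Nat.card W) := B.W_odd
  have hWne : W ≠ ⊥ := fun e => B.z_ne (mem_bot.1 (e ▸ B.z_W))
  have hnotop : ∀ X : Subgroup G, X ≠ ⊥ → X ≠ ⊤ → normalizer (X : Set G) ≠ ⊤ := fun X h1 h2 e =>
    ((normalizer_eq_top_iff.1 e).eq_bot_or_eq_top).elim h1 h2
  obtain ⟨M, hM, hNM, hzM, hX⟩ : ∃ M : Subgroup G, M ≠ ⊤ ∧ N ≤ M ∧ core z ≤ M ∧
      ((∀ v ∈ M, orderOf v = 2 → ∃ m ∈ M, m * t * m⁻¹ = v) →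
        ∃ X : Subgroup G, X ≠ ⊥ ∧ X ≤ M ∧ Odd (Nat.card X) ∧ (X.subgroupOf M).Normal) := by
    by_cases hL : L = ⊥
    · refine ⟨N, hnotop W hWne fun e => ?_, le_rfl, hcore N ((hzL.trans hL.le).trans bot_le) le_rfl,
        fun _ => ⟨W, hWne, le_normalizer, hWodd, normal_in_normalizer⟩⟩
      have h1 := odd_orderOf_of_mem hWodd (show t ∈ W from e ▸ mem_top _)
      rw [B.f.ht] at h1
      exact absurd h1 (by decide)
    · have hz2 : z * z ∉ L := fun hm => by
        haveI := (Fact.out : p.Prime)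
        have h1 : orderOf (z * z) ∣ p := orderOf_dvd_of_pow_eq_one (by
          rw [(Commute.refl z).mul_pow, B.z_pow, one_mul])
        rcases (Nat.dvd_prime Fact.out).1 h1 with h2 | h2
        · have h3 := orderOf_eq_one_iff.1 h2
          have h4 := B.z_odd
          rw [orderOf_of_sq h3 B.z_ne] at h4
          exact absurd h4 (by decide)
        · exact hLp (h2 ▸ Subgroup.orderOf_dvd_natCard L hm)
      have hLtop : L ≠ ⊤ := fun e => hz2 (e ▸ mem_top _)
      refine ⟨normalizer (L : Set G), hnotop L hL hLtop, hNL, hcore _ (hzL.trans le_normalizer) hNL,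
        fun hall => ⟨L, hL, le_normalizer, ?_, normal_in_normalizer⟩⟩
      by_contra hev
      obtain ⟨⟨v, hvL⟩, hv⟩ := exists_prime_orderOf_dvd_card' 2
        (even_iff_two_dvd.1 (Nat.not_odd_iff_even.1 hev))
      rw [Subgroup.orderOf_mk] at hv
      obtain ⟨m, hm, hmv⟩ := hall v (le_normalizer hvL) hv
      have htL : t ∈ L := by
        rw [← hmv] at hvL
        exact (Subgroup.mem_normalizer_iff.1 hm t).2 hvL
      obtain ⟨m', hm', hmu⟩ := hall u (hNL (hTN huT)) fu.hj
      have huL : u ∈ L := hmu ▸ (Subgroup.mem_normalizer_iff.1 hm' t).1 htL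
      have hzN : z ∈ normalizer (L : Set G) := hNL (le_normalizer B.z_W)
      have h1 : u * z * u⁻¹ = z⁻¹ := h.inverts B.f.ht fu.hj fu.comm fu.ne B.z_t B.z_odd
      have h1' : u * z⁻¹ * u⁻¹ = z := by
        rw [show u * z⁻¹ * u⁻¹ = (u * z * u⁻¹)⁻¹ by group, h1, inv_inv]
      have h2 : z * u * z⁻¹ * u⁻¹ ∈ L :=
        L.mul_mem ((Subgroup.mem_normalizer_iff.1 hzN u).1 huL) (L.inv_mem huL)
      rw [show z * u * z⁻¹ * u⁻¹ = z * (u * z⁻¹ * u⁻¹) by group, h1'] at h2
      exact hz2 h2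
  have hTM : (T : Subgroup G) ≤ M := hTN.trans hNM
  have hinvol : ∀ v ∈ M, orderOf v = 2 → ∃ m ∈ M, m * t * m⁻¹ = v := by
    intro v hv hv2
    obtain ⟨c, hc, hcx⟩ := exists_conj_into T hTM
      (IsPGroup.of_card (n := 1) (by rw [Nat.card_zpowers, hv2, pow_one]) : IsPGroup 2 (zpowers v))
      (zpowers_le.2 hv)
    obtain ⟨n, hn, hnv⟩ := hfus (c * v * c⁻¹) (hcx v (mem_zpowers v)) (by rw [orderOf_conj]; exact hv2)
    exact ⟨c⁻¹ * n, M.mul_mem (M.inv_mem hc) (hNM hn), by
      rw [show c⁻¹ * n * t * (c⁻¹ * n)⁻¹ = c⁻¹ * (n * t * n⁻¹) * c by group, hnv]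
      group⟩
  -- `C(t) ≤ M`
  have hCM : centralizer ({t} : Set G) ≤ M := by
    obtain ⟨A, a, hl⟩ := h.loc t B.f.ht
    have hzA' := h.mem_of_odd hl (mem_centralizer_singleton_iff.2 B.z_t) B.z_odd
    have hAM : A ≤ M := Signalizer.le_of_sylow_le fun r hr x hx n hn => by
      rcases hr.eq_two_or_odd' with rfl | hrodd
      · obtain ⟨i, -, hi⟩ := (Nat.dvd_prime_pow Nat.prime_two).1 (orderOf_dvd_of_pow_eq_one hn)
        obtain ⟨c, hc, hcx⟩ := exists_conj_into T hTt
          (IsPGroup.of_card (n := i) (by rw [Nat.card_zpowers, hi]) : IsPGroup 2 (zpowers x))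
          (zpowers_le.2 (hl.le_cent hx))
        by_cases hcA : c ∈ A
        · have := hcx x (mem_zpowers x)
          rw [hl.comm c hcA x hx, mul_inv_cancel_right] at this
          exact hTM this
        · have := hcx x (mem_zpowers x)
          rw [hl.inverts_of_not_mem hc hcA hx] at this
          exact M.inv_mem_iff.1 (hTM this)
      · refine hzM (h.mem_core B.z_ne B.z_odd (hl.comm x hx z hzA') (odd_of_pow_eq_one hrodd hn))
    intro c hc
    by_cases hcA : c ∈ A
    · exact hAM hcA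
    have huA : u ∉ A := fun hu => fu.ne (hl.uniq u hu fu.hj)
    have hcu : c * u⁻¹ ∈ A := by
      rw [show c * u⁻¹ = c * a * (u * a)⁻¹ by group]
      exact A.mul_mem ((hl.cover c hc).resolve_left hcA)
        (A.inv_mem ((hl.cover u (hTt huT)).resolve_left huA))
    have := M.mul_mem (hAM hcu) (hTM huT)
    rwa [inv_mul_cancel_right] at this
  refine ⟨M, ⟨hM, ?_, fun g hg => ?_⟩, hX hinvol⟩
  · exact even_iff_two_dvd.2 (B.f.ht ▸ Subgroup.orderOf_dvd_natCard M (hTM htT))
  · by_contra hev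
    obtain ⟨⟨v, hv'⟩, hv⟩ := exists_prime_orderOf_dvd_card' 2
      (even_iff_two_dvd.1 (Nat.not_odd_iff_even.1 hev))
    rw [Subgroup.orderOf_mk] at hv
    obtain ⟨hvM, w, hw, hwv⟩ := hv' 
    change g * w * g⁻¹ = v at hwv
    have hw2 : orderOf w = 2 := by rw [← hwv, orderOf_conj] at hv; exact hv
    obtain ⟨m, hm, hmv⟩ := hinvol v hvM hv
    obtain ⟨m', hm', hmw⟩ := hinvol w hw hw2
    have hc : m⁻¹ * g * m' ∈ centralizer ({t} : Set G) := by
      rw [mem_centralizer_singleton_iff]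
      calc m⁻¹ * g * m' * t = m⁻¹ * (g * (m' * t * m'⁻¹) * g⁻¹) * g * m' := by group
        _ = m⁻¹ * (m * t * m⁻¹) * g * m' := by rw [hmw, hwv, hmv]
        _ = t * (m⁻¹ * g * m') := by group
    refine hg ?_
    have := M.mul_mem (M.mul_mem hm (hCM hc)) (M.inv_mem hm')
    rwa [show m * (m⁻¹ * g * m') * m'⁻¹ = g by group] at this

theorem false_of_simple [IsSimpleGroup G] : False := by
  obtain ⟨M, hM, X, hXne, hXM, hXo, hXn⟩ := B.exists_embedded
  have h1 : X.subgroupOf M ≤ oddCore M := Cores.le_pPrimeCore hXn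
    (Nat.coprime_two_right.2 (by rw [Cores.card_subgroupOf hXM]; exact hXo))
  have h2 := (Subgroup.map_mono (f := M.subtype) h1).trans (Bender.oddCore_le Bender.rankOneHalf hM)
  rw [Subgroup.subgroupOf_map_subtype, inf_eq_left.2 hXM] at h2
  rcases (inferInstance : (oddCore G).Normal).eq_bot_or_eq_top with e | e
  · exact hXne (le_bot_iff.1 (h2.trans e.le))
  · have h3 : Odd (Nat.card (oddCore G)) := Nat.coprime_two_right.1 (Cores.coprime_card_pPrimeCore 2)
    have h4 := odd_orderOf_of_mem h3 (show t ∈ oddCore G from e ▸ mem_top _)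
    rw [B.f.ht] at h4
    exact absurd h4 (by decide)

end Best

/-- **The key theorem.** -/
theorem DHyp.ti [IsSimpleGroup G] (h : DHyp G) {t x : G} (ht : orderOf t = 2) (hx : x ≠ 1)
    (hxo : Odd (orderOf x)) (hxt : Commute x t) :
    centralizer ({x} : Set G) ≤ centralizer ({t} : Set G) := by
  by_contra hnot
  obtain ⟨p, hpp, hp, j, P, f, hP, htP, hjP, hlt⟩ := h.exists_fail ht hx hxo hxt hnot
  haveI := Fact.mk hpp
  obtain ⟨t', j', z, S, B⟩ := h.exists_best hp f hP htP hjP hlt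
  exact B.false_of_simple

end Cfsg.Agent.DGroup
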