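import Cfsg.Agent.Lib.DGroup.FullCase
import Cfsg.Agent.Lib.PGroup.MaximalClass
import Cfsg.Agent.Lib.TwoGroupRecog.Basic
import Cfsg.Agent.Lib.ZStar.Unique
import Cfsg.Agent.Lib.ZStar.Apply

/-!
The case in which no Sylow 2-subgroup centralises `t`.

* `Klein` : `R` a Sylow 2-subgroup, `z` central in it, `C_R(t) = ⟨t, z⟩`
* `SDSylow`
* `Klein.shape` : `R` is dihedral or semidihedral
-/

set_option autoImplicit false

namespace Cfsg.Agent.DGroup

open Subgroup Cfsg Involution

universe v

variable {G : Type v} [Group G] [Finite G]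

/-- `R` has a central involution `z`, and no Sylow 2-subgroup centralises `t`. -/
structure Klein (R : Sylow 2 G) (t z : G) (A : Subgroup G) : Prop where
  loc : Loc t A z
  t_mem : t ∈ R
  z_mem : z ∈ R
  central : ∀ x ∈ R, x * z = z * x
  no_sylow : ∀ S : Sylow 2 G, ¬ (S : Subgroup G) ≤ centralizer ({t} : Set G)

/-- `R = ⟨a⟩⟨t⟩` semidihedral, `orderOf a = 2 ^ (k + 3)`. -/
structure SDSylow (R : Sylow 2 G) (k : ℕ) (a t : G) : Prop where
  a_mem : a ∈ R
  ord : orderOf a = 2 ^ (k + 3)
  conj : t * a * t⁻¹ = a ^ (2 ^ (k + 2) - 1)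
  t_not : t ∉ zpowers a
  cover : ∀ x ∈ R, x ∈ zpowers a ∨ x * t ∈ zpowers a

theorem Four.card_group {t j : G} (f : Four t j) : Nat.card f.group = 4 := by
  have h1 : (f.group : Set G) = {1, t, j, t * j} := by
    ext x; exact ⟨fun h => h, fun h => h⟩
  show Nat.card (f.group : Set G) = 4
  rw [h1, Nat.card_coe_set_eq, Set.ncard_insert_of_notMem, Set.ncard_insert_of_notMem,
    Set.ncard_insert_of_notMem, Set.ncard_singleton]
  · simp only [Set.mem_singleton_iff]
    exact fun e => ne_one f.ht (by simpa using e)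
  · simp only [Set.mem_insert_iff, Set.mem_singleton_iff, not_or]
    exact ⟨f.ne.symm, fun e => ne_one f.hj (by simpa using e.symm)⟩
  · simp only [Set.mem_insert_iff, Set.mem_singleton_iff, not_or]
    exact ⟨(ne_one f.ht).symm, (ne_one f.hj).symm, (ne_one f.mul_right.hj).symm⟩

namespace Klein

variable {R : Sylow 2 G} {t z : G} {A : Subgroup G} (K : Klein R t z A)
include K

omit [Finite G] in
theorem comm_tz : Commute z t := mem_centralizer_singleton_iff.1 K.loc.u_cent

omit [Finite G] in
theorem z_ne : z ≠ t := fun e => K.loc.u_not (e ▸ K.loc.t_mem)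

omit [Finite G] in
theorem four : Four t z := ⟨K.loc.ht, K.loc.hu, K.comm_tz, K.z_ne⟩

omit [Finite G] in
theorem four_le : (K.four).group ≤ (R : Subgroup G) := K.four.le_iff.2 ⟨K.t_mem, K.z_mem⟩

omit [Finite G] in
theorem cent_four {x : G} (hx : Commute x t) (hxz : Commute x z) : x ∈ K.four.group := by
  have key : ∀ y ∈ A, Commute y z → y = 1 ∨ y = t := fun y hy hyz => by
    refine (eq_or_ne y 1).imp_right fun h => K.loc.uniq y hy (orderOf_of_sq ?_ h)
    have h1 := K.loc.inv y hy
    rw [← hyz.eq, mul_inv_cancel_right] at h1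
    nth_rw 2 [h1]
    exact mul_inv_cancel y
  rcases K.loc.cover x (mem_centralizer_singleton_iff.2 hx) with h | h
  · rcases key x h hxz with e | e
    · exact Or.inl e
    · exact Or.inr (Or.inl e)
  · rcases key _ h (hxz.mul_left (Commute.refl z)) with e | e
    · rw [eq_inv_of_mul_eq_one_left e, inv_eq K.loc.hu]; exact K.four.j_mem
    · rw [show x = x * z * z by rw [mul_assoc, mul_self K.loc.hu, mul_one], e]
      exact Or.inr (Or.inr (Or.inr rfl))

omit [Finite G] in
theorem cent_R {x : G} (hx : x ∈ R) (hxt : Commute x t) : x ∈ K.four.group :=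
  K.cent_four hxt (K.central x hx)

omit [Finite G] in
theorem cent_R_sq {x : G} (hx : x ∈ R) (hxt : Commute x t) : x * x = 1 := by
  rcases K.cent_R hx hxt with rfl | rfl | rfl | rfl
  · exact one_mul 1
  · exact mul_self K.loc.ht
  · exact mul_self K.loc.hu
  · exact mul_self K.four.mul_right.hj

/-- `t` is not conjugate to `z`. -/
theorem not_conj : ¬ IsConj t z := by
  intro h
  obtain ⟨g, hg⟩ := isConj_iff.1 h
  refine K.no_sylow (g⁻¹ • R) fun x hx => ?_
  rw [Sylow.coe_subgroup_smul] at hx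
  obtain ⟨y, hy, rfl⟩ := hx
  rw [mem_centralizer_singleton_iff]
  show g⁻¹ * y * g⁻¹⁻¹ * t = t * (g⁻¹ * y * g⁻¹⁻¹)
  rw [show t = g⁻¹ * z * g by rw [← hg]; group, inv_inv,
    show g⁻¹ * y * g * (g⁻¹ * z * g) = g⁻¹ * (y * z) * g by group, K.central y hy]
  group

theorem eight_le {n : ℕ} (hn : Nat.card (R : Subgroup G) = 2 ^ n) : 3 ≤ n := by
  by_contra hlt
  have h1 : (K.four).group = (R : Subgroup G) := Subgroup.eq_of_le_of_card_ge K.four_le (by
    rw [hn, K.four.card_group]
    calc 2 ^ n ≤ 2 ^ 2 := Nat.pow_le_pow_right (by norm_num) (by omega)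
      _ = 4 := by norm_num)
  refine K.no_sylow R ?_
  rw [← h1]
  exact K.four.le_iff.2 ⟨mem_centralizer_singleton_iff.2 rfl, K.loc.u_cent⟩

/-- `R` is dihedral or semidihedral. -/
theorem shape : (∃ k a, DihSylow R k a t) ∨ ∃ k a, SDSylow R k a t := by
  haveI : Fact (Nat.Prime 2) := ⟨Nat.prime_two⟩
  obtain ⟨n, hn⟩ := IsPGroup.iff_card.1 R.isPGroup'
  have hn3 := K.eight_le hn
  set t' : (R : Subgroup G) := ⟨t, K.t_mem⟩ with ht'
  set B : Subgroup (R : Subgroup G) := K.four.group.subgroupOf R with hB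
  have hBc : Nat.card B = 2 ^ 2 := by rw [hB, Cores.card_subgroupOf K.four_le, K.four.card_group]; norm_num
  have hC : centralizer (B : Set (R : Subgroup G)) = B := by
    refine le_antisymm (fun g hg => mem_subgroupOf.2 (K.cent_R g.2 ?_)) fun g hg => mem_centralizer_iff.2 ?_
    · exact (congrArg Subtype.val (mem_centralizer_iff.1 hg t' (mem_subgroupOf.2 K.four.t_mem))).symm
    · intro x hx
      have hc : ∀ a ∈ K.four.group, Commute a t ∧ Commute a z := by
        rintro a (rfl | rfl | rfl | rfl)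
        · exact ⟨Commute.one_left _, Commute.one_left _⟩
        · exact ⟨Commute.refl _, K.comm_tz.symm⟩
        · exact ⟨K.comm_tz, Commute.refl _⟩
        · exact ⟨(Commute.refl t).mul_left K.comm_tz, K.comm_tz.symm.mul_left (Commute.refl z)⟩
      refine Subtype.ext ?_
      obtain ⟨c1, c2⟩ := hc _ (mem_subgroupOf.1 hg)
      rcases mem_subgroupOf.1 hx with e | e | e | e <;> rw [Subgroup.coe_mul, Subgroup.coe_mul, e]
      · simp
      · exact c1.eq.symm
      · exact c2.eq.symm
      · exact (c1.mul_right c2).eq.symm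
  have hcl := PGroup.maximal_class_of_selfCentralizing n (R : Subgroup G) hn B hBc hC
  have hlcs := PGroup.card_lcs_of_maximal_class hn3 hn hcl (i := 1) le_rfl (by omega)
  rw [top_lowerCentralSeries_one] at hlcs
  have hidx : (_root_.commutator (R : Subgroup G)).index = 4 := by
    have h := (_root_.commutator (R : Subgroup G)).card_mul_index
    rw [hlcs, hn, show 2 ^ n = 2 ^ (n - 1 - 1) * 4 by
      rw [show (4 : ℕ) = 2 ^ 2 from rfl, ← pow_add]; congr 1; omega] at h
    exact Nat.eq_of_mul_eq_mul_left (by positivity) h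
  have h4 : Nat.card (R : Subgroup G) ≠ 4 := by
    have := Nat.pow_le_pow_right (show 0 < 2 by norm_num) hn3
    rw [hn]; omega
  have htsq : ∀ x : (R : Subgroup G), x * t' = t' * x → x * x = 1 := fun x hx =>
    Subtype.ext (K.cent_R_sq x.2 (congrArg Subtype.val hx))
  have ht2 : orderOf t' = 2 := by rw [ht', Subgroup.orderOf_mk]; exact K.loc.ht
  rcases TwoGroupRecog.classify_of_index_commutator R.isPGroup' hidx h4 with
    ⟨k, ⟨e⟩⟩ | ⟨k, hk, a, b, ha, hb, hab⟩ | ⟨k, ⟨e⟩⟩
  · left
    haveI : NeZero (2 ^ (k + 2)) := ⟨by positivity⟩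
    set a := e.symm (DihedralGroup.r 1) with ha
    have hao : orderOf a = 2 ^ (k + 2) := by
      rw [ha, MulEquiv.orderOf_eq, DihedralGroup.orderOf_r_one]
    obtain ⟨i, hi⟩ : ∃ i, e t' = DihedralGroup.sr i := by
      cases h : e t' with
      | sr i => exact ⟨i, rfl⟩
      | r i =>
        exfalso
        have h1 : a * a = 1 := htsq a (e.injective (by
          rw [map_mul, map_mul, ha, e.apply_symm_apply, h, DihedralGroup.r_mul_r, DihedralGroup.r_mul_r]
          exact congrArg DihedralGroup.r (add_comm _ _)))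
        have h2 := Nat.le_of_dvd (by norm_num) (hao ▸ orderOf_dvd_of_pow_eq_one (x := a) (n := 2)
          (by rw [pow_two, h1]))
        have h3 := Nat.pow_le_pow_right (show 0 < 2 by norm_num) (show 2 ≤ k + 2 by omega)
        omega
    have hmem : ∀ j : ZMod (2 ^ (k + 2)), (e.symm (DihedralGroup.r j) : G) ∈ zpowers (a : G) := fun j => by
      rw [show DihedralGroup.r j = (DihedralGroup.r 1 : DihedralGroup (2 ^ (k + 2))) ^ j.val by
        rw [DihedralGroup.r_one_pow, ZMod.natCast_zmod_val], map_pow, ← ha, SubgroupClass.coe_pow]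
      exact Subgroup.pow_mem _ (mem_zpowers _) _
    refine ⟨k, a, a.2, K.t_mem, by rw [Subgroup.orderOf_coe]; exact hao, K.loc.ht, ?_, ?_, ?_⟩
    · have h1 : t' * a * t'⁻¹ = a⁻¹ := e.injective (by
        rw [map_mul, map_mul, map_inv, map_inv, ha, e.apply_symm_apply, hi, DihedralGroup.inv_sr,
          DihedralGroup.inv_r, DihedralGroup.sr_mul_r, DihedralGroup.sr_mul_sr]
        simp)
      exact congrArg Subtype.val h1
    · intro h
      obtain ⟨l, hl⟩ := mem_zpowers_iff.1 h
      have h1 : a ^ l = t' := Subtype.ext (by rw [SubgroupClass.coe_zpow]; exact hl)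
      have h2 := congrArg e h1
      rw [map_zpow, ha, e.apply_symm_apply, hi, DihedralGroup.r_one_zpow] at h2
      exact absurd h2 (by simp)
    · intro x hx
      cases h : e ⟨x, hx⟩ with
      | r j =>
        left
        have := hmem j
        rwa [← h, e.symm_apply_apply] at this
      | sr j =>
        right
        have := hmem (i - j)
        rwa [show DihedralGroup.r (i - j) = e (⟨x, hx⟩ * t') by
          rw [map_mul, h, hi, DihedralGroup.sr_mul_sr], e.symm_apply_apply] at this
  · right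
    have hta : t' ∉ zpowers a := by
      intro h
      obtain ⟨l, hl⟩ := mem_zpowers_iff.1 h
      have h1 : a * a = 1 := htsq a (by rw [← hl]; exact (Commute.refl a).zpow_right l)
      have h2 := Nat.le_of_dvd (by norm_num) (ha ▸ orderOf_dvd_of_pow_eq_one (x := a) (n := 2)
        (by rw [pow_two, h1]))
      have h3 := Nat.pow_le_pow_right (show 0 < 2 by norm_num) (show 2 ≤ k + 3 by omega)
      omega
    have hidx2 : (zpowers a).index = 2 := by
      have h := (zpowers a).card_mul_index
      rw [Nat.card_zpowers, ha, hk, pow_succ 2 (k + 3)] at h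
      exact Nat.eq_of_mul_eq_mul_left (by positivity) h
    have hb' : b ∉ zpowers a := by
      intro h
      obtain ⟨l, hl⟩ := mem_zpowers_iff.1 h
      have h1 : b * a * b⁻¹ = a := by
        rw [← hl, ((Commute.refl a).zpow_left l).eq, mul_inv_cancel_right]
      have h2 := hab.symm.trans h1
      have hle := Nat.pow_le_pow_right (show 0 < 2 by norm_num) (show 2 ≤ k + 2 by omega)
      have h3 : a ^ (2 ^ (k + 2) - 2) = 1 := by
        rw [show 2 ^ (k + 2) - 1 = (2 ^ (k + 2) - 2) + 1 by omega, pow_succ] at h2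
        exact mul_eq_right.1 h2
      have h4 := Nat.le_of_dvd (by omega) (ha ▸ orderOf_dvd_of_pow_eq_one h3)
      rw [pow_succ 2 (k + 2)] at h4
      omega
    have htb : t' * b ∈ zpowers a := (Subgroup.mul_mem_iff_of_index_two hidx2).2 (iff_of_false hta hb')
    obtain ⟨l, hl⟩ := mem_zpowers_iff.1 htb
    have htt : t' = a ^ l * b := by
      rw [hl, mul_assoc, show b * b = 1 from mul_self hb, mul_one]
    have hconj : t' * a * t'⁻¹ = a ^ (2 ^ (k + 2) - 1) := by
      rw [htt, show a ^ l * b * a * (a ^ l * b)⁻¹ = a ^ l * (b * a * b⁻¹) * (a ^ l)⁻¹ by group, hab]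
      group
    refine ⟨k, a, a.2, by rw [Subgroup.orderOf_coe]; exact ha, ?_, ?_, ?_⟩
    · exact congrArg Subtype.val hconj
    · intro h
      obtain ⟨m, hm⟩ := mem_zpowers_iff.1 h
      exact hta (mem_zpowers_iff.2 ⟨m, Subtype.ext (by rw [SubgroupClass.coe_zpow]; exact hm)⟩)
    · intro x hx
      have coe : ∀ y : (R : Subgroup G), y ∈ zpowers a → (y : G) ∈ zpowers (a : G) := fun y hy => by
        obtain ⟨m, rfl⟩ := mem_zpowers_iff.1 hy
        exact mem_zpowers_iff.2 ⟨m, (SubgroupClass.coe_zpow a m).symm⟩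
      by_cases hxa : (⟨x, hx⟩ : (R : Subgroup G)) ∈ zpowers a
      · exact Or.inl (coe _ hxa)
      · exact Or.inr (coe _ ((Subgroup.mul_mem_iff_of_index_two hidx2).2 (iff_of_false hxa hta)))
  · exfalso
    haveI : NeZero (2 ^ (k + 1)) := ⟨by positivity⟩
    have huniq : ∀ q : QuaternionGroup (2 ^ (k + 1)), orderOf q = 2 →
        q ∈ zpowers (QuaternionGroup.a 1 : QuaternionGroup (2 ^ (k + 1))) := by
      rintro (i | i) hq
      · refine ⟨(i.val : ℤ), ?_⟩
        show (QuaternionGroup.a 1 : QuaternionGroup (2 ^ (k + 1))) ^ (i.val : ℤ) = _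
        rw [zpow_natCast, QuaternionGroup.a_one_pow, ZMod.natCast_zmod_val]
      · rw [QuaternionGroup.orderOf_xa] at hq; norm_num at hq
    have hz2 : orderOf (⟨z, K.z_mem⟩ : (R : Subgroup G)) = 2 := by rw [Subgroup.orderOf_mk]; exact K.loc.hu
    have h1 := (MulEquiv.orderOf_eq e _).trans ht2
    have h2 := (MulEquiv.orderOf_eq e _).trans hz2
    exact K.z_ne (congrArg Subtype.val (e.injective (KleinSimple.eq_of_orderOf_two
      (isOfFinOrder_of_finite _) (huniq _ h2) (huniq _ h1) h2 h1)))

end Klein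

end Cfsg.Agent.DGroup
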