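import Cfsg.Agent.Lib.DGroup.Klein
import Cfsg.Agent.Lib.Bender.CoreInCore
import Cfsg.Agent.Lib.Bender.RankOneHalf
import Cfsg.Agent.Lib.ZStar.Glauberman
import Cfsg.Agent.S0514

/-!
The dihedral case: the centraliser of the central involution also has the required shape.

* `exists_complement` : the odd complement of `C(z)`
* `Klein.dihedral_case`
-/

set_option autoImplicit false

namespace Cfsg.Agent.DGroup

open Subgroup Cfsg Involution

universe v

variable {G : Type v} [Group G] [Finite G]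

/-- An involution without fixed points on an odd subgroup it normalises inverts it. -/
theorem inverts_of_no_fixed {t : G} (ht : orderOf t = 2) {Y : Subgroup G}
    (hn : ∀ y ∈ Y, t * y * t⁻¹ ∈ Y) (hfix : ∀ y ∈ Y, Commute y t → y = 1) {y : G} (hy : y ∈ Y) :
    t * y * t⁻¹ = y⁻¹ := by
  let f : Y →* Y :=
    { toFun := fun x => ⟨t * x * t⁻¹, hn x x.2⟩
      map_one' := Subtype.ext (by show t * (1 : G) * t⁻¹ = 1; group)
      map_mul' := fun x x' => Subtype.ext (by
        show t * ((x : G) * x') * t⁻¹ = t * x * t⁻¹ * (t * x' * t⁻¹); group) }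
  have h2 : ∀ x : Y, f (f x) = x := fun x => Subtype.ext (by
    show t * (t * x * t⁻¹) * t⁻¹ = x
    rw [show t * (t * (x : G) * t⁻¹) * t⁻¹ = t * t * x * (t * t)⁻¹ by group, mul_self ht]
    group)
  have h1 := congrArg Subtype.val (InvolutionEigen.inverts_of_fpf f h2 (fun x hx =>
    Subtype.ext (hfix x x.2 (show Commute (x : G) t from
      (mul_inv_eq_iff_eq_mul.1 (congrArg Subtype.val hx)).symm))) ⟨y, hy⟩)
  exact h1

/-- With a dihedral Sylow subgroup `R` inside it, `C(z)` has an odd complement to `R`. -/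
theorem exists_complement {R : Sylow 2 G} {n : ℕ} (hn : 2 ≤ n)
    (hd : Nonempty ((R : Subgroup G) ≃* DihedralGroup n)) {z : G} (hz : orderOf z = 2)
    (hR : (R : Subgroup G) ≤ centralizer ({z} : Set G)) :
    ∃ Y : Subgroup G, Y ≤ centralizer ({z} : Set G) ∧ centralizer ({z} : Set G) ≤ normalizer (Y : Set G) ∧
      Odd (Nat.card Y) ∧ (∀ x ∈ centralizer ({z} : Set G), Odd (orderOf x) → x ∈ Y) ∧
      centralizer ({z} : Set G) ≤ Y ⊔ (R : Subgroup G) ∧
      Group.IsSolvable (centralizer ({z} : Set G)) := by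
  haveI : Fact (Nat.Prime 2) := ⟨Nat.prime_two⟩
  obtain ⟨N, hN, hNo, k, hk⟩ := S0514.result R n hn hd z hz
  haveI := hN
  have hc : Nat.card (N.map (centralizer ({z} : Set G)).subtype) = Nat.card N := Cores.card_map_subtype _ N
  refine ⟨N.map (centralizer ({z} : Set G)).subtype, map_subtype_le _, fun g hg => Coprime.mem_normalizer_of_forall ?_,
    by rw [hc]; exact hNo, fun x hx ho => ?_, ?_, ?_⟩
  · rintro _ ⟨y, hy, rfl⟩
    exact ⟨_, hN.conj_mem y hy ⟨g, hg⟩, rfl⟩
  · have h1 : (QuotientGroup.mk' N ⟨x, hx⟩) ^ 2 ^ k = 1 := by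
      rw [← hk, Subgroup.index_eq_card]; exact pow_card_eq_one'
    have h2 : orderOf (QuotientGroup.mk' N ⟨x, hx⟩) ∣ orderOf x := by
      have := orderOf_map_dvd (QuotientGroup.mk' N) (⟨x, hx⟩ : centralizer ({z} : Set G))
      rwa [Subgroup.orderOf_mk] at this
    have h3 : orderOf (QuotientGroup.mk' N ⟨x, hx⟩) = 1 := Nat.eq_one_of_dvd_coprimes
      ((Nat.coprime_two_left.2 ho).pow_left k) (orderOf_dvd_of_pow_eq_one h1) h2
    exact ⟨⟨x, hx⟩, (QuotientGroup.eq_one_iff _).1 (orderOf_eq_one_iff.1 h3), rfl⟩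
  · set J := N.map (centralizer ({z} : Set G)).subtype ⊔ (R : Subgroup G)
    have hJC : J ≤ centralizer ({z} : Set G) := sup_le (map_subtype_le _) hR
    obtain ⟨r, hr⟩ := IsPGroup.iff_card.1 R.isPGroup'
    have hkr : k ≤ r := by
      have h1 : 2 ^ k ∣ Nat.card G := ((Dvd.intro_left _ rfl : 2 ^ k ∣ Nat.card N * 2 ^ k).trans
        (by rw [← hk, N.card_mul_index])).trans (centralizer ({z} : Set G)).card_subgroup_dvd_card
      have h2 := R.card_eq_multiplicity
      rw [hr] at h2
      rw [Nat.pow_right_injective le_rfl h2]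
      exact (Nat.prime_two.pow_dvd_iff_le_factorization Nat.card_pos.ne').1 h1
    have hdvd : Nat.card (centralizer ({z} : Set G)) ∣ Nat.card J := by
      rw [← N.card_mul_index, hk, ← hc]
      refine Nat.Coprime.mul_dvd_of_dvd_of_dvd ?_ (Subgroup.card_dvd_of_le le_sup_left)
        ((pow_dvd_pow 2 hkr).trans (hr ▸ Subgroup.card_dvd_of_le (le_sup_right : _ ≤ J)))
      rw [hc]
      exact ((Nat.coprime_two_left.2 hNo).pow_left k).symm
    rw [Subgroup.eq_of_le_of_card_ge hJC (Nat.le_of_dvd Nat.card_pos hdvd)]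
  · refine (Group.isSolvable_iff_subgroup_quotient N).2 ⟨OddOrderTheorem.solvable hNo, ?_⟩
    haveI : Group.IsNilpotent ((centralizer ({z} : Set G)) ⧸ N) := (IsPGroup.of_card (p := 2) (n := k)
      (by rw [← Subgroup.index_eq_card, hk])).isNilpotent
    infer_instance

theorem Klein.dihedral_case {R : Sylow 2 G} {t z : G} {A : Subgroup G} (K : Klein R t z A)
    (hns : ¬ Group.IsSolvable G) (hO : Cfsg.pPrimeCore 2 G = ⊥) {k : ℕ} {a : G}
    (D : DihSylow R k a t) : DHyp G ∨ ∃ N z' A' v w, Split (G := G) N z' A' v w := by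
  haveI : Fact (Nat.Prime 2) := ⟨Nat.prime_two⟩
  have hz2 := K.loc.hu
  have ht2 := K.loc.ht
  have hRz : (R : Subgroup G) ≤ centralizer ({z} : Set G) := fun x hx =>
    mem_centralizer_singleton_iff.2 (K.central x hx)
  have hza : z = a ^ 2 ^ (k + 1) := by
    refine D.eq_mid (by_contra fun hout => ?_) hz2
    obtain ⟨i, hi⟩ := D.exists_outer K.z_mem hout
    have h1 : Commute a z := K.central a D.a_mem
    exact absurd h1 (by
      intro h
      have h3 : Commute a t := by
        rw [show t = (a ^ i)⁻¹ * z by rw [hi]; group]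
        exact ((Commute.refl a).zpow_right i).inv_right.mul_right h
      have h4 := D.inv
      rw [← h3.eq, mul_inv_cancel_right] at h4
      have h5 := orderOf_dvd_of_pow_eq_one (x := a) (n := 2) (by rw [pow_two]; nth_rw 2 [h4]; exact mul_inv_cancel a)
      have h6 := Nat.le_of_dvd (by norm_num) (D.ord ▸ h5)
      have h7 := Nat.pow_le_pow_right (show 0 < 2 by norm_num) (show 2 ≤ k + 2 by omega)
      omega)
  obtain ⟨Y, hYC, hCY, hYo, hYmem, hCJ, hsolv⟩ := exists_complement (n := 2 ^ (k + 2))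
    (by have := Nat.pow_le_pow_right (show 0 < 2 by norm_num) (show 1 ≤ k + 2 by omega); simpa using this)
    D.nonempty_equiv hz2 hRz
  have hYn : ∀ x ∈ R, ∀ y ∈ Y, x * y * x⁻¹ ∈ Y := fun x hx y hy =>
    (Subgroup.mem_normalizer_iff.1 (hCY (hRz hx)) y).1 hy
  have hfix : ∀ y ∈ Y, Commute y t → y = 1 := fun y hy hyt => by
    have h1 := K.cent_four hyt (mem_centralizer_singleton_iff.1 (hYC hy))
    have h2 := odd_orderOf_of_mem hYo hy
    rcases h1 with e | e | e | e
    · exact e
    · rw [e, ht2] at h2; exact absurd h2 (by decide)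
    · rw [e, hz2] at h2; exact absurd h2 (by decide)
    · rw [e, K.four.mul_right.hj] at h2; exact absurd h2 (by decide)
  have htY : ∀ y ∈ Y, t * y * t⁻¹ = y⁻¹ := fun y hy =>
    inverts_of_no_fixed ht2 (hYn t K.t_mem) hfix hy
  have hYcomm : ∀ x ∈ Y, ∀ y ∈ Y, x * y = y * x := fun x hx y hy => by
    have h1 := htY _ (Y.mul_mem hx hy)
    rw [show t * (x * y) * t⁻¹ = t * x * t⁻¹ * (t * y * t⁻¹) by group, htY x hx, htY y hy, mul_inv_rev] at h1
    calc x * y = (y⁻¹ * x⁻¹)⁻¹ := by group
      _ = (x⁻¹ * y⁻¹)⁻¹ := by rw [h1]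
      _ = y * x := by group
  have hss : orderOf (a * t) = 2 := D.mul_b_order
  have hsR : a * t ∈ R := mul_mem D.a_mem K.t_mem
  have hsz : Commute (a * t) z := K.central _ hsR
  have hout : a * t ∉ zpowers a := fun h => D.b_not (by
    simpa using mul_mem (inv_mem (mem_zpowers a)) h)
  have hzs : IsConj (a * t) z := by
    by_contra hne
    refine hns (solvable_of_isolated (z := z) (ZStar.isolated_of_sylow R hz2 K.z_mem fun g hg => ?_) ?_)
    · have h2 : orderOf (g * z * g⁻¹) = 2 := by rw [orderOf_conj]; exact hz2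
      by_cases hga : g * z * g⁻¹ ∈ zpowers a
      · rw [D.eq_mid hga h2, hza]
      · exfalso
        obtain ⟨j, -, h | h⟩ := D.outer_cases hg hga
        · exact K.not_conj (isConj_iff.2 ⟨j * g, by rw [← h]; group⟩).symm
        · exact hne (isConj_iff.2 ⟨j * g, by rw [← h]; group⟩).symm
    · exact hsolv
  obtain ⟨N, hNn, hNi⟩ := D.exists_index_two hns ht2 hz2 K.not_conj
  haveI := hNn
  have hzN : z ∈ N := by
    rw [hza, pow_succ, pow_mul, pow_two]
    exact Subgroup.mul_self_mem_of_index_two hNi _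
  have hsN : a * t ∈ N := by
    obtain ⟨n, hn⟩ := isConj_iff.1 hzs.symm
    exact hn ▸ hNn.conj_mem z hzN n
  have htN : t ∉ N := fun h => R.not_dvd_index (by
    have haN : zpowers a ≤ N := zpowers_le.2 (by simpa using N.mul_mem hsN (N.inv_mem h))
    have h1 : (R : Subgroup G) ≤ N := fun x hx => by
      rcases D.cover x hx with h2 | h2
      · exact haN h2
      · simpa using N.mul_mem (haN h2) (N.inv_mem h)
    have h2 := Subgroup.index_dvd_of_le h1
    rwa [hNi] at h2)
  -- the fixed points of `a t` on `Y`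
  set P : Subgroup G := Y ⊓ centralizer ({a * t} : Set G) with hP
  have hPmem : ∀ {x}, x ∈ P ↔ x ∈ Y ∧ Commute x (a * t) := fun {x} => by
    rw [hP, Subgroup.mem_inf, mem_centralizer_singleton_iff]; rfl
  have haP : ∀ y ∈ P, a * y * a⁻¹ = y⁻¹ := fun y hy => by
    obtain ⟨h1, h2⟩ := hPmem.1 hy
    calc a * y * a⁻¹ = a * t * (t⁻¹ * y * t) * (a * t)⁻¹ := by group
      _ = a * t * y⁻¹ * (a * t)⁻¹ := by
        have h3 := htY y h1
        rw [inv_eq ht2] at h3 ⊢
        rw [h3]
      _ = y⁻¹ := by rw [h2.inv_left.symm.eq, mul_inv_cancel_right]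
  have hPY : P ≤ Y := inf_le_left
  set M' := normalizer (P : Set G) with hM'
  have hCM : centralizer ({z} : Set G) ≤ M' := by
    refine hCJ.trans (sup_le (fun y hy => Coprime.mem_normalizer_of_forall fun x hx => by
      rw [hYcomm y hy x (hPY hx), mul_inv_cancel_right]; exact hx) fun x hx => ?_)
    have haM : zpowers a ≤ M' := zpowers_le.2 (Coprime.mem_normalizer_of_forall fun y hy => by
      rw [haP y hy]; exact P.inv_mem hy)
    rcases D.cover x hx with h | h
    · exact haM h
    · have htM : t ∈ M' := Coprime.mem_normalizer_of_forall fun y hy => by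
        rw [htY y (hPY hy)]; exact P.inv_mem hy
      simpa using M'.mul_mem (haM h) (M'.inv_mem htM)
  -- `z` and `a t` are conjugate in `N(P)`
  obtain ⟨g, hgM, hg⟩ : ∃ g ∈ M', g * (a * t) * g⁻¹ = z := by
    obtain ⟨g, hg⟩ := isConj_iff.1 hzs.symm
    have hs2 : orderOf (g⁻¹ * z * g) = 2 := by
      have := orderOf_conj g⁻¹ z
      rw [inv_inv] at this
      rw [this]; exact hz2
    have hc2 : Commute (g⁻¹ * z * g) z := by
      have := (hsz.symm.map (MulAut.conj g⁻¹).toMonoidHom).eq
      simp only [MulEquiv.coe_toMonoidHom, MulAut.conj_apply, inv_inv] at this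
      have e : g⁻¹ * (a * t) * g = z := by rw [← hg]; group
      rw [e] at this
      exact this
    obtain ⟨c, hc, hcR⟩ := exists_conj_into R hRz
      (IsPGroup.of_card (n := 1) (by rw [Nat.card_zpowers, hs2, pow_one]) : IsPGroup 2 (zpowers (g⁻¹ * z * g)))
      (zpowers_le.2 (mem_centralizer_singleton_iff.2 hc2.eq))
    have hy : c * (g⁻¹ * z * g) * c⁻¹ ∈ R := hcR _ (mem_zpowers _)
    have hya : c * (g⁻¹ * z * g) * c⁻¹ ∉ zpowers a := fun h => by
      have h1 := D.eq_mid h (by rw [orderOf_conj]; exact hs2)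
      rw [← hza] at h1
      have h2 : g⁻¹ * z * g = z := by
        calc g⁻¹ * z * g = c⁻¹ * (c * (g⁻¹ * z * g) * c⁻¹) * c := by group
          _ = c⁻¹ * z * c := by rw [h1]
          _ = z := by rw [mul_assoc, ← mem_centralizer_singleton_iff.1 hc, inv_mul_cancel_left]
      exact hout (by
        rw [show a * t = z from hg.symm.trans (by nth_rw 1 [← h2]; group), hza]
        exact pow_mem (mem_zpowers a) _)
    obtain ⟨j, hj, h | h⟩ := D.outer_cases hy hya
    · exact absurd (isConj_iff.2 ⟨j * c * g⁻¹, by rw [← h]; group⟩).symm K.not_conj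
    set d := j * c with hd
    have hdz : Commute d z := by
      have h1 : Commute j z := by
        obtain ⟨i, rfl⟩ := mem_zpowers_iff.1 hj
        exact (show Commute a z from K.central a D.a_mem).zpow_left i
      exact h1.mul_left (mem_centralizer_singleton_iff.1 hc)
    set g' := g * d⁻¹ with hg'
    have e1 : g' * z * g'⁻¹ = a * t := by
      rw [hg', show g * d⁻¹ * z * (g * d⁻¹)⁻¹ = g * (d⁻¹ * (z * d)) * g⁻¹ by group, ← hdz.eq,
        inv_mul_cancel_left, hg]
    have e2 : g'⁻¹ * z * g' = a * t := by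
      rw [hg', ← h, hd]; group
    refine ⟨g', ?_, by rw [← e2]; group⟩
    have h3 : g'⁻¹ ∈ M' := Coprime.mem_normalizer_of_forall fun x hx => by
      obtain ⟨hxY, hxs⟩ := hPmem.1 hx
      rw [inv_inv]
      refine hPmem.2 ⟨hYmem _ (mem_centralizer_singleton_iff.2 ?_) ?_, ?_⟩
      · have := (hxs.map (MulAut.conj g'⁻¹).toMonoidHom).eq
        simp only [MulEquiv.coe_toMonoidHom, MulAut.conj_apply, inv_inv] at this
        rwa [show g'⁻¹ * (a * t) * g' = z by rw [← e1]; group] at this
      · have := orderOf_conj g'⁻¹ x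
        rw [inv_inv] at this
        rw [this]
        exact odd_orderOf_of_mem hYo hxY
      · have := ((show Commute x z from mem_centralizer_singleton_iff.1 (hYC hxY)).map
          (MulAut.conj g'⁻¹).toMonoidHom).eq
        simp only [MulEquiv.coe_toMonoidHom, MulAut.conj_apply, inv_inv] at this
        rwa [e2] at this
    simpa using M'.inv_mem h3
  have hkey : ∀ x ∈ N, x ∈ M' → orderOf x = 2 → ∃ m ∈ N, m ∈ M' ∧ m * x * m⁻¹ = z := by
    intro x hxN hxM hx
    obtain ⟨c, hc, hcR⟩ := exists_conj_into R (hRz.trans hCM)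
      (IsPGroup.of_card (n := 1) (by rw [Nat.card_zpowers, hx, pow_one]) : IsPGroup 2 (zpowers x))
      (zpowers_le.2 hxM)
    have hy : c * x * c⁻¹ ∈ R := hcR _ (mem_zpowers _)
    obtain ⟨m, hm, hmx⟩ : ∃ m ∈ M', m * x * m⁻¹ = z := by
      by_cases hya : c * x * c⁻¹ ∈ zpowers a
      · exact ⟨c, hc, by rw [D.eq_mid hya (by rw [orderOf_conj]; exact hx), hza]⟩
      obtain ⟨j, hj, h | h⟩ := D.outer_cases hy hya
      · exact absurd (h ▸ hNn.conj_mem _ (hNn.conj_mem x hxN c) j) htN
      · refine ⟨g * j * c, M'.mul_mem (M'.mul_mem hgM ?_) hc, ?_⟩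
        · obtain ⟨i, rfl⟩ := mem_zpowers_iff.1 hj
          exact M'.zpow_mem (hCM (hRz D.a_mem)) i
        · rw [show g * j * c * x * (g * j * c)⁻¹ = g * (j * (c * x * c⁻¹) * j⁻¹) * g⁻¹ by group, h, hg]
    by_cases hmN : m ∈ N
    · exact ⟨m, hmN, hm, hmx⟩
    · refine ⟨t * m, (Subgroup.mul_mem_iff_of_index_two hNi).2 (iff_of_false htN hmN),
        M'.mul_mem (hCM (hRz K.t_mem)) hm, ?_⟩
      rw [show t * m * x * (t * m)⁻¹ = t * (m * x * m⁻¹) * t⁻¹ by group, hmx, K.comm_tz.symm.eq,
        mul_inv_cancel_right]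
  -- `P = 1`
  have hPN : P ≤ N := fun x hx => by
    obtain ⟨l, hl⟩ := odd_orderOf_of_mem hYo (hPY hx)
    rw [show x = x ^ (l + 1) * x ^ (l + 1) by
      rw [← pow_add, show l + 1 + (l + 1) = orderOf x + 1 by omega, pow_succ, pow_orderOf_eq_one, one_mul]]
    exact Subgroup.mul_self_mem_of_index_two hNi _
  have hON : Cfsg.pPrimeCore 2 N = ⊥ := (Subgroup.map_eq_bot_iff_of_injective _ N.subtype_injective).1 (by
    rw [Cores.pPrimeCore_map_subtype, hO, bot_inf_eq])
  set P₀ := P.subgroupOf N with hP₀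
  have hP₀o : Odd (Nat.card P₀) := by
    rw [hP₀, Cores.card_subgroupOf hPN]
    exact hYo.of_dvd_nat (Subgroup.card_dvd_of_le hPY)
  set M : Subgroup N := M'.subgroupOf N with hM
  have hP₀M : P₀ ≤ M := fun x hx => mem_subgroupOf.2 (Subgroup.le_normalizer (mem_subgroupOf.1 hx))
  have hPM : (P₀.subgroupOf M).Normal := ⟨fun x hx m => mem_subgroupOf.2 (mem_subgroupOf.2
    ((Subgroup.mem_normalizer_iff.1 (mem_subgroupOf.1 m.2) _).1 (mem_subgroupOf.1 (mem_subgroupOf.1 hx))))⟩
  have hbot : P₀ = ⊥ := by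
    by_cases htop : M = ⊤
    · have hn : P₀.Normal := ⟨fun x hx g => mem_subgroupOf.2 ((Subgroup.mem_normalizer_iff.1
        (mem_subgroupOf.1 (show g ∈ M by rw [htop]; trivial)) _).1 (mem_subgroupOf.1 hx))⟩
      exact le_bot_iff.1 (hON ▸ Cores.le_pPrimeCore hn (Nat.coprime_two_right.2 hP₀o))
    · have hse : Cfsg.IsStronglyEmbedded M := by
        refine ⟨htop, ?_, fun g hg => ?_⟩
        · rw [even_iff_two_dvd]
          have hzM : (⟨z, hzN⟩ : N) ∈ M := mem_subgroupOf.2 (hCM (hRz K.z_mem))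
          have := Subgroup.orderOf_dvd_natCard M hzM
          rwa [Subgroup.orderOf_mk, hz2] at this
        · by_contra hev
          rw [Nat.not_odd_iff_even, even_iff_two_dvd] at hev
          obtain ⟨⟨x, hx⟩, hxo⟩ := exists_prime_orderOf_dvd_card' 2 hev
          rw [Subgroup.orderOf_mk] at hxo
          obtain ⟨hxM, y, hyM, hyx⟩ := hx
          have hxo' : orderOf (x : G) = 2 := by rw [Subgroup.orderOf_coe]; exact hxo
          have hyx' : (g : G) * y * (g : G)⁻¹ = x := congrArg Subtype.val hyx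
          have hyo : orderOf (y : G) = 2 := by rw [← hyx', orderOf_conj] at hxo'; exact hxo'
          obtain ⟨m, hmN, hmM, hm⟩ := hkey x x.2 (mem_subgroupOf.1 hxM) hxo'
          obtain ⟨m', hm'N, hm'M, hm'⟩ := hkey y y.2 (mem_subgroupOf.1 hyM) hyo
          have hmid : m * g * m'⁻¹ ∈ centralizer ({z} : Set G) := by
            rw [mem_centralizer_singleton_iff]
            calc m * g * m'⁻¹ * z = m * (g * y * (g : G)⁻¹) * m⁻¹ * (m * g * m'⁻¹) := by
                  rw [← hm']; group
              _ = z * (m * g * m'⁻¹) := by rw [hyx', hm]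
          refine hg (mem_subgroupOf.2 ?_)
          rw [show (g : G) = m⁻¹ * (m * g * m'⁻¹) * m' by group]
          exact M'.mul_mem (M'.mul_mem (M'.inv_mem hmM) (hCM hmid)) hm'M
      have h1 := Bender.oddCore_le Bender.rankOneHalf hse
      have h2 : P₀.subgroupOf M ≤ Cfsg.oddCore M := Cores.le_pPrimeCore hPM (Nat.coprime_two_right.2
        (by rw [Cores.card_subgroupOf hP₀M]; exact hP₀o))
      refine le_bot_iff.1 (le_trans ?_ (h1.trans (le_of_eq hON)))
      intro x hx
      exact ⟨⟨x, hP₀M hx⟩, h2 (mem_subgroupOf.2 hx), rfl⟩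
  have hP1 : ∀ x ∈ P, x = 1 := fun x hx => by
    have h1 : (⟨x, hPN hx⟩ : N) ∈ P₀ := mem_subgroupOf.2 hx
    rw [hbot, Subgroup.mem_bot] at h1
    exact congrArg Subtype.val h1
  -- `a` centralises `Y`
  have haY : ∀ y ∈ Y, a * y * a⁻¹ = y := fun y hy => by
    have h1 := inverts_of_no_fixed hss (hYn _ hsR) (fun x hx hc => hP1 x (hPmem.2 ⟨hx, hc⟩)) (Y.inv_mem hy)
    rw [inv_inv, ← htY y hy] at h1
    rw [show a * t * (t * y * t⁻¹) * (a * t)⁻¹ = a * (t * t) * y * (t * t)⁻¹ * a⁻¹ by group,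
      mul_self ht2, inv_one, mul_one, mul_one] at h1
    exact h1
  -- the shape of `C(z)`
  let φ : Y × zpowers a →* G := MonoidHom.noncommCoprod Y.subtype (zpowers a).subtype fun y x => by
    obtain ⟨i, hi⟩ := mem_zpowers_iff.1 x.2
    show Commute (y : G) (x : G)
    rw [← hi]
    exact (show Commute a (y : G) from mul_inv_eq_iff_eq_mul.1 (haY y y.2)).symm.zpow_right i
  set B := φ.range with hB
  have hYB : Y ≤ B := fun y hy => ⟨(⟨y, hy⟩, 1), by simp [φ]⟩
  have haB : zpowers a ≤ B := fun x hx => ⟨(1, ⟨x, hx⟩), by simp [φ]⟩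
  have hBmem : ∀ {b}, b ∈ B → ∃ y ∈ Y, ∃ x ∈ zpowers a, b = y * x := fun {b} hb => by
    obtain ⟨⟨⟨y, hy⟩, ⟨x, hx⟩⟩, rfl⟩ := hb
    exact ⟨y, hy, x, hx, by simp [φ]⟩
  have hBinv : ∀ b ∈ B, t * b * t⁻¹ = b⁻¹ := fun b hb => by
    obtain ⟨y, hy, x, hx, rfl⟩ := hBmem hb
    obtain ⟨i, rfl⟩ := mem_zpowers_iff.1 hx
    have hc : Commute y (a ^ i) := (show Commute a y from mul_inv_eq_iff_eq_mul.1 (haY y hy)).symm.zpow_right i
    rw [show t * (y * a ^ i) * t⁻¹ = t * y * t⁻¹ * (t * a ^ i * t⁻¹) by group, htY y hy, D.inv_zpow,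
      mul_inv_rev]
    exact (hc.inv_left.inv_right).eq
  have hBcomm : ∀ b ∈ B, ∀ c ∈ B, b * c = c * b := fun b hb c hc => by
    have h1 := hBinv _ (B.mul_mem hb hc)
    rw [show t * (b * c) * t⁻¹ = t * b * t⁻¹ * (t * c * t⁻¹) by group, hBinv b hb, hBinv c hc,
      mul_inv_rev] at h1
    calc b * c = (c⁻¹ * b⁻¹)⁻¹ := by group
      _ = (b⁻¹ * c⁻¹)⁻¹ := by rw [h1]
      _ = c * b := by group
  have hYR : ∀ y ∈ Y, y ∈ R → y = 1 := fun y hy hyR => orderOf_eq_one_iff.1 (by
    obtain ⟨l, hl⟩ := IsPGroup.iff_orderOf.1 R.isPGroup' ⟨y, hyR⟩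
    rw [Subgroup.orderOf_mk] at hl
    have h1 := odd_orderOf_of_mem hYo hy
    rw [hl] at h1 ⊢
    rcases Nat.eq_zero_or_pos l with rfl | hlp
    · rfl
    · exact absurd h1 (Nat.not_odd_iff_even.2 (Nat.even_pow.2 ⟨even_two, hlp.ne'⟩)))
  have haR : zpowers a ≤ (R : Subgroup G) := zpowers_le.2 D.a_mem
  have hloc : Loc z B t := {
    ht := hz2
    le_cent := by
      intro b hb
      obtain ⟨y, hy, x, hx, rfl⟩ := hBmem hb
      exact mul_mem (hYC hy) (hRz (haR hx))
    comm := hBcomm
    t_mem := haB (hza ▸ pow_mem (mem_zpowers a) _)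
    uniq := fun b hb ho => by
      obtain ⟨y, hy, x, hx, rfl⟩ := hBmem hb
      have hc := hBcomm y (hYB hy) x (haB hx)
      have h1 : y * x * (y * x) = y * y * (x * x) := by
        rw [show y * x * (y * x) = y * (x * y) * x by group, ← hc]; group
      have h2 := mul_self ho
      rw [h1] at h2
      have h3 : y * y = 1 := hYR _ (Y.mul_mem hy hy) (by
        rw [eq_inv_of_mul_eq_one_left h2]; exact inv_mem (mul_mem (haR hx) (haR hx)))
      have h4 : y = 1 := by
        by_contra hy1
        have h5 := odd_orderOf_of_mem hYo hy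
        rw [orderOf_of_sq h3 hy1] at h5
        exact absurd h5 (by decide)
      subst h4
      rw [one_mul] at ho ⊢
      rw [D.eq_mid hx ho, hza]
    hu := ht2
    u_cent := hRz K.t_mem
    u_not := fun h => by
      obtain ⟨y, hy, x, hx, e⟩ := hBmem h
      have h1 : y = 1 := hYR y hy (by
        rw [show y = t * x⁻¹ by rw [e]; group]; exact mul_mem K.t_mem (inv_mem (haR hx)))
      exact D.b_not (by rw [e, h1, one_mul]; exact hx)
    inv := hBinv
    cover := by
      let L : Subgroup G :=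
        { carrier := {x | x ∈ B ∨ x * t ∈ B}
          one_mem' := Or.inl B.one_mem
          mul_mem' := by
            rintro x y (hx | hx) (hy | hy)
            · exact Or.inl (B.mul_mem hx hy)
            · exact Or.inr (by rw [mul_assoc]; exact B.mul_mem hx hy)
            · refine Or.inr ?_
              rw [show x * y * t = x * t * (t⁻¹ * y * t) by group]
              refine B.mul_mem hx ?_
              rw [inv_eq ht2]
              have := hBinv y hy
              rw [inv_eq ht2] at this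
              rw [this]; exact B.inv_mem hy
            · refine Or.inl ?_
              rw [show x * y = x * t * (t⁻¹ * (y * t) * t) * (t * t)⁻¹ by group, mul_self ht2, inv_one, mul_one]
              refine B.mul_mem hx ?_
              have := hBinv _ hy
              rw [inv_eq ht2] at this ⊢
              rw [this]; exact B.inv_mem hy
          inv_mem' := by
            rintro x (hx | hx)
            · exact Or.inl (B.inv_mem hx)
            · refine Or.inr ?_
              have h1 := hBinv _ (B.inv_mem hx)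
              rw [show x⁻¹ * t = t * (x * t)⁻¹ * t⁻¹ * (t * t) by group]
              rw [h1, mul_self ht2, mul_one, inv_inv]
              exact hx }
      intro c hc
      have hle : Y ⊔ (R : Subgroup G) ≤ L := sup_le (fun y hy => Or.inl (hYB hy))
        (fun x hx => (D.cover x hx).imp (fun h => haB h) (fun h => haB h))
      exact hle (hCJ hc) }
  exact hloc.full_case hns R K.z_mem K.t_mem hRz

end Cfsg.Agent.DGroup
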