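import Cfsg.Agent.Lib.DGroup.Elementary
import Cfsg.Agent.Lib.DGroup.Fused
import Mathlib.GroupTheory.SchurZassenhaus

/-!
The case `A` not elementary, with two involutions.

* `RankTwo d` : the hypotheses; `fuse` : conjugates in `H` of involutions of `A` lie in `A`
* `frame` : a Sylow 2-subgroup inside `H` and an odd group covering `N(H)/H`, centralising some `w ∈ H \ A`
* `false_of_four` : `A` has no element of order four
* `DSet.concl_rankTwo`
-/

set_option autoImplicit false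

namespace Cfsg.Agent.DGroup

open Subgroup Cfsg Involution

universe v

variable {G : Type v} [Group G]

/-- `A` is not elementary and has two involutions. -/
structure RankTwo (H A : Subgroup G) : Prop where
  d : DSet H A
  big : ∃ a ∈ A, a * a ≠ 1
  cover : ∀ u ∈ H, u ∉ A → ∀ c ∈ H, c ∈ A ∨ c * u ∈ A
  two : ∃ e₁ ∈ A, ∃ e₂ ∈ A, orderOf e₁ = 2 ∧ orderOf e₂ = 2 ∧ e₁ ≠ e₂

/-- An odd `n` inverted by `t`: `n t` is conjugate to `t`. -/
theorem exists_conj_mul [Finite G] {t n : G} {D : Subgroup G} (hD : Odd (Nat.card D)) (hn : n ∈ D)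
    (ht : orderOf t = 2) (hnt : n * t * (n * t) = 1) : ∃ f ∈ D, f * t * f⁻¹ = n * t := by
  obtain ⟨k, hk⟩ := odd_orderOf_of_mem hD hn
  have htn : t * n * t⁻¹ = n⁻¹ := by
    rw [inv_eq ht]
    exact (inv_eq_of_mul_eq_one_right (by rw [← mul_assoc, ← mul_assoc]; simpa [mul_assoc] using hnt)).symm
  refine ⟨n ^ (k + 1), D.pow_mem hn _, ?_⟩
  have h1 := inverts_pow htn (k + 1)
  calc n ^ (k + 1) * t * (n ^ (k + 1))⁻¹ = n ^ (k + 1) * (t * (n ^ (k + 1))⁻¹ * t⁻¹) * t := by group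
    _ = n ^ (k + 1) * n ^ (k + 1) * t := by
      rw [← h1, show t * (t * n ^ (k + 1) * t⁻¹) * t⁻¹ = (t * t) * n ^ (k + 1) * (t * t)⁻¹ by group, mul_self ht]
      group
    _ = n * t := by
      rw [← pow_add, show k + 1 + (k + 1) = (2 * k + 1) + 1 by omega, ← hk, pow_succ, pow_orderOf_eq_one, one_mul]

namespace RankTwo

variable [Finite G] {H A : Subgroup G} (r : RankTwo H A)
include r

theorem mul_mem_A {c c' : G} (hc : c ∈ H) (hcA : c ∉ A) (hc' : c' ∈ H) (hc'A : c' ∉ A) : c * c' ∈ A :=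
  (r.cover c' hc' hc'A c hc).resolve_left hcA

theorem commute_sq {c a : G} (hc : c ∈ H) (ha : a ∈ A) (ha2 : a * a = 1) : Commute c a := by
  by_cases hcA : c ∈ A
  · exact r.d.comm hcA ha
  · exact mul_inv_eq_iff_eq_mul.1 ((r.d.inv hc hcA ha).trans (inv_eq_of_mul_eq_one_right ha2))

theorem cent {e : G} (he : e ∈ A) (he2 : orderOf e = 2) : centralizer ({e} : Set G) = H :=
  r.d.cent e (r.d.lt.le he) he2 fun _ hc => r.commute_sq hc he (mul_self he2)

theorem norm_A {g : G} (hg : g ∈ normalizer (H : Set G)) {a : G} (ha : a ∈ A) : g * a * g⁻¹ ∈ A := by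
  have key : ∀ b ∈ A, b * b ≠ 1 → g * b * g⁻¹ ∈ A := fun b hb hb2 => by
    by_contra hA
    refine hb2 ?_
    have h1 := r.d.sq _ ((Subgroup.mem_normalizer_iff.1 hg b).1 (r.d.lt.le hb)) hA
    rwa [show g * b * g⁻¹ * (g * b * g⁻¹) = g * (b * b) * g⁻¹ by group, conj_eq_one_iff] at h1
  by_cases ha2 : a * a = 1
  · obtain ⟨b, hb, hb2⟩ := r.big
    have h1 : a * b * (a * b) ≠ 1 := by
      rwa [show a * b * (a * b) = a * (b * a) * b by group, r.d.comm hb ha,
        show a * (a * b) * b = (a * a) * (b * b) by group, ha2, one_mul]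
    have := A.mul_mem (key _ (A.mul_mem ha hb) h1) (A.inv_mem (key b hb hb2))
    rwa [show g * (a * b) * g⁻¹ * (g * b * g⁻¹)⁻¹ = g * a * g⁻¹ by group] at this
  · exact key a ha ha2

/-- Conjugates in `H` of involutions of `A` lie in `A`. -/
theorem fuse {e g : G} (he : e ∈ A) (he2 : orderOf e = 2) (hH : g * e * g⁻¹ ∈ H) : g * e * g⁻¹ ∈ A := by
  by_contra hvA
  set v := g * e * g⁻¹ with hv
  have hmem : ∀ f ∈ A, f * f = 1 → g⁻¹ * f * g ∈ H := fun f hf hf2 => by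
    have h1 : Commute v f := r.commute_sq hH hf hf2
    rw [← r.cent he he2, mem_centralizer_singleton_iff]
    have h2 := (h1.symm.map (MulAut.conj g⁻¹).toMonoidHom).eq
    simpa [hv, mul_assoc] using h2
  have key : ∀ f ∈ A, orderOf f = 2 → g⁻¹ * f * g ∈ A → False := by
    intro f hf hf2 hfA
    have ho : orderOf (g⁻¹ * f * g) = 2 := by
      have := orderOf_conj g⁻¹ f
      rw [inv_inv] at this
      rw [this]; exact hf2
    have hgH : g ∈ normalizer (H : Set G) := Coprime.mem_normalizer_of_forall fun x hx => by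
      rw [← r.cent hf hf2]
      rw [← r.cent hfA ho] at hx
      have h1 := (map_mem_centralizer (MulAut.conj g)).2 hx
      simpa [mul_assoc] using h1
    exact hvA (r.norm_A hgH he)
  obtain ⟨e₁, h₁, e₂, h₂, o₁, o₂, hne⟩ := r.two
  have hc : Commute e₁ e₂ := r.d.comm h₁ h₂
  by_cases hA1 : g⁻¹ * e₁ * g ∈ A
  · exact key e₁ h₁ o₁ hA1
  by_cases hA2 : g⁻¹ * e₂ * g ∈ A
  · exact key e₂ h₂ o₂ hA2
  refine key (e₁ * e₂) (A.mul_mem h₁ h₂) (orderOf_of_sq ?_ fun e => hne ?_) ?_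
  · rw [show e₁ * e₂ * (e₁ * e₂) = e₁ * (e₂ * e₁) * e₂ by group, ← hc.eq,
      show e₁ * (e₁ * e₂) * e₂ = (e₁ * e₁) * (e₂ * e₂) by group, mul_self o₁, mul_self o₂, one_mul]
  · rw [eq_inv_of_mul_eq_one_left e, inv_eq o₂]
  · have := r.mul_mem_A (hmem _ h₁ (mul_self o₁)) hA1 (hmem _ h₂ (mul_self o₂)) hA2
    rwa [show g⁻¹ * e₁ * g * (g⁻¹ * e₂ * g) = g⁻¹ * (e₁ * e₂) * g by group] at this

theorem mem_normalizer {e g : G} (he : e ∈ A) (he2 : orderOf e = 2) (hH : g * e * g⁻¹ ∈ H) :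
    g ∈ normalizer (H : Set G) := by
  refine Coprime.mem_normalizer_of_forall fun x hx => ?_
  rw [← r.cent (r.fuse he he2 hH) (by rw [orderOf_conj]; exact he2)]
  rw [← r.cent he he2] at hx
  exact (map_mem_centralizer (MulAut.conj g)).2 hx

/-- A Sylow 2-subgroup of `G` inside `H`. -/
theorem exists_sylow : ∃ S : Sylow 2 G, (S : Subgroup G) ≤ H := by
  haveI : Fact (Nat.Prime 2) := ⟨Nat.prime_two⟩
  obtain ⟨e₁, h₁, -, -, o₁, -, -⟩ := r.two
  obtain ⟨P⟩ : Nonempty (Sylow 2 H) := inferInstance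
  set S₀ := (P : Subgroup H).map H.subtype with hS₀
  have hS₀p : IsPGroup 2 S₀ := P.isPGroup'.map _
  have hS₀H : S₀ ≤ H := map_subtype_le _
  have hmax : ∀ X : Subgroup G, IsPGroup 2 X → X ≤ H → S₀ ≤ X → X = S₀ := fun X hX hXH hle => by
    have h1 := P.is_maximal' (hX.of_equiv (Subgroup.subgroupOfEquivOfLe hXH).symm)
      (fun x hx => hle ⟨x, hx, rfl⟩)
    have h2 := congrArg (Subgroup.map H.subtype) h1
    rwa [Subgroup.subgroupOf_map_subtype, inf_eq_left.2 hXH] at h2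
  have hEs : ∀ e ∈ A, e * e = 1 → e ∈ S₀ := fun e he he2 => by
    have hp : IsPGroup 2 (zpowers e) := fun ⟨x, hx⟩ => ⟨1, Subtype.ext (by
      obtain ⟨i, rfl⟩ := mem_zpowers_iff.1 hx
      simp only [pow_one, SubgroupClass.coe_pow, OneMemClass.coe_one]
      rw [← zpow_natCast, ← zpow_mul, mul_comm, zpow_mul, zpow_natCast, pow_two, he2, one_zpow])⟩
    have hn : zpowers e ≤ normalizer (S₀ : Set G) := zpowers_le.2 (Coprime.mem_normalizer_of_forall
      fun x hx => by rwa [← (r.commute_sq (hS₀H hx) he he2).eq, mul_inv_cancel_right])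
    rw [← hmax _ (hp.to_sup_of_normal_right' hS₀p hn) (sup_le (zpowers_le.2 (r.d.lt.le he)) hS₀H)
      le_sup_right]
    exact mem_sup_left (mem_zpowers e)
  obtain ⟨R, hR⟩ := hS₀p.exists_le_sylow
  refine ⟨R, ?_⟩
  suffices h : (R : Subgroup G) = S₀ by rw [h]; exact hS₀H
  refine ((lt_or_eq_of_le hR).resolve_left fun hlt => ?_).symm
  haveI : Group.IsNilpotent (R : Subgroup G) := R.isPGroup'.isNilpotent
  have hne : S₀.subgroupOf (R : Subgroup G) < ⊤ :=
    lt_top_iff_ne_top.2 fun e => hlt.ne (le_antisymm hR (subgroupOf_eq_top.1 e))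
  obtain ⟨⟨x, hxR⟩, hx, hxS⟩ :=
    SetLike.exists_of_lt (Group.normalizerCondition_of_isNilpotent (S₀.subgroupOf (R : Subgroup G)) hne)
  have hxS₀ : ∀ y ∈ S₀, x * y * x⁻¹ ∈ S₀ := fun y hy => (Subgroup.mem_normalizer_iff.1 hx ⟨y, hR hy⟩).1 hy
  -- the involutions of `A`
  let E : Subgroup G :=
    { carrier := {e | e ∈ A ∧ e * e = 1}
      one_mem' := ⟨one_mem _, one_mul 1⟩
      mul_mem' := fun {a b} ha hb => ⟨A.mul_mem ha.1 hb.1, by
        rw [show a * b * (a * b) = a * (b * a) * b by group, r.d.comm hb.1 ha.1,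
          show a * (a * b) * b = (a * a) * (b * b) by group, ha.2, hb.2, one_mul]⟩
      inv_mem' := fun {a} ha => ⟨A.inv_mem ha.1, by rw [← mul_inv_rev, ha.2, inv_one]⟩ }
  have hER : E ≤ (R : Subgroup G) := fun e he => hR (hEs e he.1 he.2)
  have hxE : ∀ e ∈ E, x * e * x⁻¹ ∈ E := fun e he => by
    rcases eq_or_ne e 1 with rfl | he1
    · simp [one_mem]
    · exact ⟨r.fuse he.1 (orderOf_of_sq he.2 he1) (hS₀H (hxS₀ e (hEs e he.1 he.2))), by
        rw [show x * e * x⁻¹ * (x * e * x⁻¹) = x * (e * e) * x⁻¹ by group, he.2, mul_one, mul_inv_cancel]⟩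
  set X := E ⊔ zpowers x with hX
  have hXR : X ≤ (R : Subgroup G) := sup_le hER (zpowers_le.2 hxR)
  haveI : (E.subgroupOf X).Normal := normal_subgroupOf_of_le_normalizer
    (sup_le le_normalizer (zpowers_le.2 (Coprime.mem_normalizer_of_forall hxE)))
  haveI : Group.IsNilpotent X := (R.isPGroup'.to_le hXR).isNilpotent
  have hEne : E.subgroupOf X ≠ ⊥ := fun e => ne_one o₁ (congrArg Subtype.val
    ((Subgroup.eq_bot_iff_forall _).1 e ⟨e₁, mem_sup_left ⟨h₁, mul_self o₁⟩⟩ ⟨h₁, mul_self o₁⟩))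
  obtain ⟨⟨⟨e, heX⟩, he⟩, hne1⟩ :=
    Subgroup.ne_bot_iff_exists_ne_one.1 (Cores.inf_center_ne_bot (E.subgroupOf X) hEne)
  have he1 : e ≠ 1 := fun e' => hne1 (Subtype.ext (Subtype.ext e'))
  have hxe : x * e = e * x :=
    congrArg Subtype.val (Subgroup.mem_center_iff.1 he.2 ⟨x, mem_sup_right (mem_zpowers x)⟩)
  have hxH : x ∈ H := by
    rw [← r.cent he.1.1 (orderOf_of_sq he.1.2 he1), mem_centralizer_singleton_iff]
    exact hxe
  have := hmax (S₀ ⊔ zpowers x) (R.isPGroup'.to_le (sup_le hR (zpowers_le.2 hxR)))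
    (sup_le hS₀H (zpowers_le.2 hxH)) le_sup_left
  exact hxS (show x ∈ S₀ from this ▸ mem_sup_right (mem_zpowers x))

/-- An odd group covering `N(H)/H` and centralising an involution of `S` outside `A`. -/
theorem frame (S : Sylow 2 G) (hS : (S : Subgroup G) ≤ H) :
    ∃ (Q : Subgroup G) (w : G), Odd (Nat.card Q) ∧ Q ≤ normalizer (H : Set G) ∧
      (∀ m ∈ normalizer (H : Set G), ∃ c ∈ H, ∃ q ∈ Q, m = c * q) ∧
      (∀ m ∈ normalizer (H : Set G) ⊓ normalizer ((S : Subgroup G) : Set G),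
        ∃ s ∈ (S : Subgroup G), ∃ q ∈ Q, m = s * q) ∧
      w ∈ (S : Subgroup G) ∧ w ∉ A ∧ ∀ q ∈ Q, Commute q w := by
  haveI : Fact (Nat.Prime 2) := ⟨Nat.prime_two⟩
  set Ns := normalizer (H : Set G) ⊓ normalizer ((S : Subgroup G) : Set G) with hNs
  have hSN : (S : Subgroup G) ≤ Ns := le_inf (hS.trans le_normalizer) le_normalizer
  haveI : ((S : Subgroup G).subgroupOf Ns).Normal := normal_subgroupOf_of_le_normalizer inf_le_right
  have hcop : (Nat.card ((S : Subgroup G).subgroupOf Ns)).Coprime ((S : Subgroup G).subgroupOf Ns).index := by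
    rw [← Sylow.coe_subtype (h := hSN)]
    exact Sylow.card_coprime_index _
  obtain ⟨Q₀, hQ₀⟩ := exists_right_complement'_of_coprime hcop
  set Q := Q₀.map Ns.subtype with hQdef
  have hQodd : Odd (Nat.card Q) := by
    rw [hQdef, Cores.card_map_subtype, ← hQ₀.symm.index_eq_card, ← Sylow.coe_subtype (h := hSN)]
    exact Nat.odd_iff.2 (Nat.two_dvd_ne_zero.1 (Sylow.not_dvd_index _))
  have hQN : Q ≤ Ns := map_subtype_le _
  have hdec : ∀ m ∈ Ns, ∃ s ∈ (S : Subgroup G), ∃ q ∈ Q, m = s * q := fun m hm => by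
    obtain ⟨⟨⟨a, ha⟩, ⟨b, hb⟩⟩, e, -⟩ := hQ₀.existsUnique ⟨m, hm⟩
    exact ⟨a, ha, b, ⟨b, hb, rfl⟩, congrArg Subtype.val e.symm⟩
  have hcov : ∀ m ∈ normalizer (H : Set G), ∃ c ∈ H, ∃ q ∈ Q, m = c * q := fun m hm => by
    obtain ⟨c, hc, hcx⟩ := exists_conj_into S hS ((S.isPGroup').map (MulAut.conj m).toMonoidHom) (by
      rintro _ ⟨y, hy, rfl⟩
      exact (Subgroup.mem_normalizer_iff.1 hm y).1 (hS hy))
    obtain ⟨s, hs, q, hq, e⟩ := hdec (c * m) ⟨Subgroup.mul_mem _ (le_normalizer hc) hm,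
      Coprime.mem_normalizer_of_forall fun y hy => by
        rw [show c * m * y * (c * m)⁻¹ = c * (m * y * m⁻¹) * c⁻¹ by group]
        exact hcx _ ⟨y, hy, rfl⟩⟩
    exact ⟨c⁻¹ * s, H.mul_mem (H.inv_mem hc) (hS hs), q, hq, by rw [mul_assoc, ← e, inv_mul_cancel_left]⟩
  obtain ⟨u, hu, huA⟩ := r.d.exists_outer
  have hu2 := r.d.orderOf_outer hu huA
  obtain ⟨c, hc, hcx⟩ := exists_conj_into S hS
    (IsPGroup.of_card (n := 1) (by rw [Nat.card_zpowers, hu2, pow_one]) : IsPGroup 2 (zpowers u))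
    (zpowers_le.2 hu)
  set v := c * u * c⁻¹ with hv
  have hvS : v ∈ (S : Subgroup G) := hcx u (mem_zpowers u)
  have hvA : v ∉ A := fun hA => huA (by
    have := r.norm_A (le_normalizer (H.inv_mem hc)) hA
    rwa [hv, show c⁻¹ * (c * u * c⁻¹) * c⁻¹⁻¹ = u by group] at this)
  set T := (S : Subgroup G) ⊓ A with hT
  have hQS : Q ≤ normalizer ((S : Subgroup G) : Set G) := hQN.trans inf_le_right
  have hQH : Q ≤ normalizer (H : Set G) := hQN.trans inf_le_left
  have hcopS : (Nat.card Q).Coprime (Nat.card (S : Subgroup G)) := by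
    obtain ⟨n, hn⟩ := IsPGroup.iff_card.1 S.isPGroup'
    rw [hn]
    exact (Nat.coprime_two_right.2 hQodd).pow_right n
  obtain ⟨w, hw, hwv⟩ := Coprime.exists_mem_centralizer_of_coset hQS hcopS
    (Or.inl (OddOrderTheorem.solvable hQodd)) (N := T) inf_le_left
    (fun q hq => Coprime.mem_normalizer_of_forall fun y hy =>
      ⟨(Subgroup.mem_normalizer_iff.1 (hQS hq) y).1 hy.1, r.norm_A (hQH hq) hy.2⟩)
    hvS (fun q hq => by
      refine ⟨Subgroup.mul_mem _ ((Subgroup.mem_normalizer_iff.1 (hQS hq) v).1 hvS) (Subgroup.inv_mem _ hvS), ?_⟩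
      rw [inv_eq_of_mul_eq_one_right (r.d.sq v (hS hvS) hvA)]
      refine r.mul_mem_A ((Subgroup.mem_normalizer_iff.1 (hQH hq) v).1 (hS hvS)) (fun hA => hvA ?_)
        (hS hvS) hvA
      have := r.norm_A (Subgroup.inv_mem _ (hQH hq)) hA
      rwa [show q⁻¹ * (q * v * q⁻¹) * q⁻¹⁻¹ = v by group] at this)
  refine ⟨Q, w, hQodd, hQH, hcov, hdec, hw.1, fun hA => hvA ?_, fun q hq => mem_centralizer_iff.1 hw.2 q hq⟩
  have := A.mul_mem (A.inv_mem hwv.2) hA
  rwa [show (w * v⁻¹)⁻¹ * w = v by group] at this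

/-- A fixed point free centraliser in `N(H)` outside `A` is small. -/
theorem centralizer_outer {y : G} (hy : y ∈ H) (hyA : y ∉ A)
    (hgood : ∀ m ∈ normalizer (H : Set G), Commute m y → m ∈ H) :
    centralizer ({y} : Set G) ≤ H ∧ ∀ c ∈ centralizer ({y} : Set G), c * c = 1 := by
  haveI : Fact (Nat.Prime 2) := ⟨Nat.prime_two⟩
  set X := centralizer ({y} : Set G) with hX
  set P := X ⊓ H with hP
  have hsq : ∀ c ∈ P, c * c = 1 := fun c hc => by
    by_cases hcA : c ∈ A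
    · have h1 := r.d.inv hy hyA hcA
      rw [← (mem_centralizer_singleton_iff.1 hc.1), mul_inv_cancel_right] at h1
      nth_rw 2 [h1]
      exact mul_inv_cancel c
    · exact r.d.sq c hc.2 hcA
  obtain ⟨e₁, h₁, e₂, h₂, o₁, o₂, hne⟩ := r.two
  have hE : ∀ e ∈ A, e * e = 1 → e ∈ P := fun e he he2 =>
    ⟨mem_centralizer_singleton_iff.2 (r.commute_sq hy he he2).eq.symm, r.d.lt.le he⟩
  have hnorm : ∀ x ∈ X, (∀ c ∈ P, x * c * x⁻¹ ∈ P) → x ∈ P := fun x hx hn =>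
    ⟨hx, hgood x (r.mem_normalizer h₁ o₁ (hn e₁ (hE e₁ h₁ (mul_self o₁))).2)
      (mem_centralizer_singleton_iff.1 hx)⟩
  set P' := P.subgroupOf X with hP'
  have hP'p : IsPGroup 2 P' := (isPGroup_of_sq hsq).of_equiv (Subgroup.subgroupOfEquivOfLe inf_le_left).symm
  obtain ⟨R, hR⟩ := hP'p.exists_le_sylow
  have hRP : (R : Subgroup X) = P' := by
    refine ((lt_or_eq_of_le hR).resolve_left fun hlt => ?_).symm
    haveI : Group.IsNilpotent (R : Subgroup X) := R.isPGroup'.isNilpotent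
    have hne : P'.subgroupOf (R : Subgroup X) < ⊤ :=
      lt_top_iff_ne_top.2 fun e => hlt.ne (le_antisymm hR (subgroupOf_eq_top.1 e))
    obtain ⟨⟨x, hxR⟩, hx, hxP⟩ :=
      SetLike.exists_of_lt (Group.normalizerCondition_of_isNilpotent (P'.subgroupOf (R : Subgroup X)) hne)
    exact hxP (hnorm x x.2 fun c hc =>
      (Subgroup.mem_normalizer_iff.1 hx ⟨⟨c, hc.1⟩, hR (show (⟨c, hc.1⟩ : X) ∈ P' from hc)⟩).1
        (show (⟨c, hc.1⟩ : X) ∈ P' from hc))
  have hNC : normalizer ((R : Subgroup X) : Set X) ≤ centralizer ((R : Subgroup X) : Set X) := fun x hx => by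
    rw [hRP] at hx ⊢
    have hxP : (x : G) ∈ P := hnorm x x.2 fun c hc =>
      (Subgroup.mem_normalizer_iff.1 hx ⟨c, hc.1⟩).1 hc
    exact mem_centralizer_iff.2 fun c hc => Subtype.ext (comm_of_sq hsq hc hxP)
  have hcompl := MonoidHom.ker_transferSylow_isComplement' R hNC
  set K := (MonoidHom.transferSylow R hNC).ker with hK
  have hKo : Odd (Nat.card K) := by
    rw [← hcompl.index_eq_card]
    exact Nat.odd_iff.2 (Nat.two_dvd_ne_zero.1 R.not_dvd_index)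
  have hinv : ∀ e ∈ A, orderOf e = 2 → ∀ k : K, ∀ eX : e ∈ X,
      (⟨e, eX⟩ : X) * k * (⟨e, eX⟩ : X)⁻¹ = ((k : X))⁻¹ := by
    intro e he he2 k eX
    set ε : X := ⟨e, eX⟩
    let φ : K →* K := (MulAut.conjNormal ε : MulAut K).toMonoidHom
    have hφ : ∀ x : K, ((φ x : K) : X) = ε * x * ε⁻¹ := fun x => MulAut.conjNormal_apply ε x
    have hε : ε * ε = 1 := Subtype.ext (mul_self he2)
    have := InvolutionEigen.inverts_of_fpf φ (fun x => Subtype.ext (by
        rw [hφ, hφ, show ε * (ε * (x : X) * ε⁻¹) * ε⁻¹ = (ε * ε) * x * (ε * ε)⁻¹ by group, hε]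
        group))
      (fun x hx => by
        have h1 := congrArg Subtype.val hx
        rw [hφ] at h1
        have h2 : ((x : X) : G) * e = e * ((x : X) : G) :=
          congrArg Subtype.val (mul_inv_eq_iff_eq_mul.1 h1).symm
        have h3 : ((x : X) : G) ∈ centralizer ({e} : Set G) := mem_centralizer_singleton_iff.2 h2
        rw [r.cent he he2] at h3
        have hxP : ((x : X) : G) ∈ P := ⟨(x : X).2, h3⟩
        have hxo : Odd (orderOf ((x : X) : G)) := by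
          rw [Subgroup.orderOf_coe]; exact odd_orderOf_of_mem hKo x.2
        refine Subtype.ext (Subtype.ext ?_)
        by_contra hne
        rw [orderOf_of_sq (hsq _ hxP) hne] at hxo
        exact absurd hxo (by decide)) k
    simpa [hφ] using congrArg Subtype.val this
  have hKbot : ∀ k : K, (k : X) = 1 := fun k => by
    have hmX : ∀ e ∈ A, e * e = 1 → e ∈ X := fun e he he2 => (hE e he he2).1
    have o₃ : orderOf (e₁ * e₂) = 2 := orderOf_of_sq (by
      rw [show e₁ * e₂ * (e₁ * e₂) = e₁ * (e₂ * e₁) * e₂ by group, r.d.comm h₂ h₁,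
        show e₁ * (e₁ * e₂) * e₂ = (e₁ * e₁) * (e₂ * e₂) by group, mul_self o₁, mul_self o₂, one_mul])
      fun e => hne (by rw [eq_inv_of_mul_eq_one_left e, inv_eq o₂])
    have i₁ := hinv e₁ h₁ o₁ k (hmX _ h₁ (mul_self o₁))
    have i₂ := hinv e₂ h₂ o₂ k (hmX _ h₂ (mul_self o₂))
    have i₃ := hinv (e₁ * e₂) (A.mul_mem h₁ h₂) o₃ k (hmX _ (A.mul_mem h₁ h₂) (mul_self o₃))
    rw [show (⟨e₁ * e₂, hmX _ (A.mul_mem h₁ h₂) (mul_self o₃)⟩ : X) =
      ⟨e₁, hmX _ h₁ (mul_self o₁)⟩ * ⟨e₂, hmX _ h₂ (mul_self o₂)⟩ from rfl] at i₃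
    set a : X := ⟨e₁, hmX _ h₁ (mul_self o₁)⟩
    set b : X := ⟨e₂, hmX _ h₂ (mul_self o₂)⟩
    rw [show a * b * (k : X) * (a * b)⁻¹ = a * (b * k * b⁻¹) * a⁻¹ by group, i₂,
      show a * (k : X)⁻¹ * a⁻¹ = (a * k * a⁻¹)⁻¹ by group, i₁, inv_inv] at i₃
    have hko : Odd (orderOf (k : X)) := odd_orderOf_of_mem hKo k.2
    by_contra hne
    rw [orderOf_of_sq (by nth_rw 2 [i₃]; exact mul_inv_cancel _) hne] at hko
    exact absurd hko (by decide)
  have hXP : X ≤ P := fun x hx => by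
    obtain ⟨⟨⟨k, hk⟩, ⟨q, hq⟩⟩, e, -⟩ := hcompl.existsUnique ⟨x, hx⟩
    have h1 : q = (⟨x, hx⟩ : X) := by
      rw [← e]
      show q = k * q
      have hk1 : k = 1 := hKbot ⟨k, hk⟩
      rw [hk1, one_mul]
    rw [hRP] at hq
    rw [h1] at hq
    exact hq
  exact ⟨fun x hx => (hXP hx).2, fun x hx => hsq x (hXP hx)⟩

/-- A point fixed by a non-trivial element of `N(H)/H` lies in `w A²`. -/
theorem mul_w_mem_sq (S : Sylow 2 G) (hS : (S : Subgroup G) ≤ H) {Q : Subgroup G} {w : G}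
    (hQH : Q ≤ normalizer (H : Set G)) (hcov : ∀ m ∈ normalizer (H : Set G), ∃ c ∈ H, ∃ q ∈ Q, m = c * q)
    (hwS : w ∈ (S : Subgroup G)) (hwA : w ∉ A) (hQw : ∀ q ∈ Q, Commute q w) {y m : G} (hy : y ∈ H)
    (hyA : y ∉ A) (hm : m ∈ normalizer (H : Set G)) (hmH : m ∉ H) (hmy : Commute m y) :
    ∃ b ∈ A, y * w = b * b := by
  have hwH : w ∈ H := hS hwS
  have hww : w * w = 1 := r.d.sq w hwH hwA
  have hwi : w⁻¹ = w := inv_eq_of_mul_eq_one_right hww
  have hwinv : ∀ a ∈ A, w * a = a⁻¹ * w := fun a ha => by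
    have := r.d.inv hwH hwA ha
    exact mul_inv_eq_iff_eq_mul.1 this
  obtain ⟨c, hc, q, hq, rfl⟩ := hcov m hm
  have hqH : q ∉ H := fun hqH => hmH (H.mul_mem hc hqH)
  set a := y * w with hadef
  have haA : a ∈ A := r.mul_mem_A hy hyA hwH hwA
  set a' := q * a * q⁻¹ with ha'def
  have ha'A : a' ∈ A := r.norm_A (hQH hq) haA
  have hya : y = a * w := by rw [hadef, mul_assoc, hww, mul_one]
  have hqy : q * y * q⁻¹ = a' * w := by
    rw [hya, ha'def, show q * (a * w) * q⁻¹ = q * a * q⁻¹ * (q * w * q⁻¹) by group, (hQw q hq).eq,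
      mul_inv_cancel_right]
  have hcy : c * (a' * w) * c⁻¹ = a * w := by
    rw [← hqy, show c * (q * y * q⁻¹) * c⁻¹ = c * q * y * (c * q)⁻¹ by group, hmy.eq, mul_inv_cancel_right, hya]
  -- `a' ≡ a` modulo squares
  obtain ⟨b₀, hb₀, hb₀e⟩ : ∃ b ∈ A, a' = a * (b * b) := by
    by_cases hcA : c ∈ A
    · refine ⟨c⁻¹, A.inv_mem hcA, ?_⟩
      rw [show c * (a' * w) * c⁻¹ = c * a' * (w * c⁻¹) by group, hwinv _ (A.inv_mem hcA), inv_inv,
        ← mul_assoc] at hcy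
      have h1 : c * a' * c = a := mul_right_cancel hcy
      rw [← h1, r.d.comm hcA ha'A]
      group
    · obtain hc' := r.mul_mem_A hc hcA hwH hwA
      set c₀ := c * w with hc₀
      refine ⟨c₀ * a⁻¹, A.mul_mem hc' (A.inv_mem haA), ?_⟩
      have hce : c = c₀ * w := by rw [hc₀, mul_assoc, hww, mul_one]
      rw [hce, show c₀ * w * (a' * w) * (c₀ * w)⁻¹ = c₀ * (w * a') * (w * w⁻¹) * c₀⁻¹ by group,
        mul_inv_cancel, mul_one, hwinv _ ha'A,
        show c₀ * (a'⁻¹ * w) * c₀⁻¹ = c₀ * a'⁻¹ * (w * c₀⁻¹) by group, hwinv _ (A.inv_mem hc'), inv_inv,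
        ← mul_assoc] at hcy
      have h1 : c₀ * a'⁻¹ * c₀ = a := mul_right_cancel hcy
      have h2 : a' = c₀ * a⁻¹ * c₀ := by rw [← h1]; group
      rw [h2, show a * (c₀ * a⁻¹ * (c₀ * a⁻¹)) = a * (c₀ * a⁻¹ * c₀) * a⁻¹ by group,
        r.d.comm haA (A.mul_mem (A.mul_mem hc' (A.inv_mem haA)) hc'), mul_inv_cancel_right]
  -- pass to the 2-part
  obtain ⟨i, k, hk, hik⟩ := Nat.exists_eq_pow_mul_and_not_dvd (orderOf_pos a).ne' 2 (by norm_num)
  obtain ⟨k', rfl⟩ : Odd k := Nat.odd_iff.2 (Nat.two_dvd_ne_zero.1 hk)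
  have hT : ∀ x ∈ A, ∀ j : ℕ, x ^ 2 ^ j = 1 → x ∈ (S : Subgroup G) := by
    intro x hx j hj
    haveI : Fact (Nat.Prime 2) := ⟨Nat.prime_two⟩
    obtain ⟨l, -, hl⟩ := (Nat.dvd_prime_pow Nat.prime_two).1 (orderOf_dvd_of_pow_eq_one hj)
    obtain ⟨g, hg, hgx⟩ := exists_conj_into S hS
      (IsPGroup.of_card (n := l) (by rw [Nat.card_zpowers, hl]) : IsPGroup 2 (zpowers x))
      (zpowers_le.2 (r.d.lt.le hx))
    have h1 := hgx x (mem_zpowers x)
    by_cases hgA : g ∈ A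
    · rwa [r.d.comm hgA hx, mul_inv_cancel_right] at h1
    · rw [r.d.inv hg hgA hx] at h1
      exact (S : Subgroup G).inv_mem_iff.1 h1
  set T := (S : Subgroup G) ⊓ A with hTdef
  set τ := a ^ (2 * k' + 1) with hτ
  have hτT : τ ∈ T := ⟨hT τ (A.pow_mem haA _) i (by
    rw [hτ, ← pow_mul, mul_comm, ← hik, pow_orderOf_eq_one]), A.pow_mem haA _⟩
  have hτa : τ = a * (a ^ k' * a ^ k') := by rw [hτ, ← pow_add, ← pow_succ']; congr 1; omega
  set ψ : G → G := fun x => q * x * q⁻¹ * x⁻¹ with hψ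
  have hψτ : ∃ b ∈ A, ψ τ = b * b := by
    refine ⟨b₀ * (q * a ^ k' * q⁻¹) * (a ^ k')⁻¹, A.mul_mem (A.mul_mem hb₀ (r.norm_A (hQH hq)
      (A.pow_mem haA _))) (A.inv_mem (A.pow_mem haA _)), ?_⟩
    have c₁ := fun {x z : G} (hx : x ∈ A) (hz : z ∈ A) => r.d.comm hx hz
    set p := a ^ k' with hp
    set p' := q * p * q⁻¹ with hp'
    have hpA : p ∈ A := A.pow_mem haA _
    have hp'A : p' ∈ A := r.norm_A (hQH hq) hpA
    letI : CommGroup A :=
      { (inferInstance : Group A) with mul_comm := fun x z => Subtype.ext (c₁ x.2 z.2) }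
    have e1 : ψ τ = a' * (p' * p') * (a * (p * p))⁻¹ := by
      simp only [hψ, hτa, ha'def, hp']; group
    rw [e1, hb₀e]
    have key : (⟨a, haA⟩ : A) * (⟨b₀, hb₀⟩ * ⟨b₀, hb₀⟩) * (⟨p', hp'A⟩ * ⟨p', hp'A⟩) *
        ((⟨a, haA⟩ : A) * (⟨p, hpA⟩ * ⟨p, hpA⟩))⁻¹ =
        (⟨b₀, hb₀⟩ * ⟨p', hp'A⟩ * (⟨p, hpA⟩ : A)⁻¹) * (⟨b₀, hb₀⟩ * ⟨p', hp'A⟩ * (⟨p, hpA⟩ : A)⁻¹) := by
      apply Additive.ofMul.injective
      simp only [ofMul_mul, ofMul_inv]
      abel
    exact congrArg Subtype.val key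
  have hqT : ∀ x ∈ T, q * x * q⁻¹ * x⁻¹ ∈ T := fun x hx => by
    have h1 : q * x * q⁻¹ ∈ A := r.norm_A (hQH hq) hx.2
    obtain ⟨j, hj⟩ := S.isPGroup' ⟨x, hx.1⟩
    have hj' : x ^ 2 ^ j = 1 := congrArg Subtype.val hj
    exact T.mul_mem ⟨hT _ h1 j (by rw [conj_pow, hj', mul_one, mul_inv_cancel]), h1⟩ (T.inv_mem hx)
  let Φ : T →* T :=
    { toFun := fun x => ⟨ψ x, hqT x x.2⟩
      map_one' := Subtype.ext (by simp [hψ])
      map_mul' := fun x z => Subtype.ext (by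
        have h1 : q * (x : G) * q⁻¹ ∈ A := r.norm_A (hQH hq) x.2.2
        have h2 : q * (z : G) * q⁻¹ ∈ A := r.norm_A (hQH hq) z.2.2
        simp only [hψ]
        show q * ((x : G) * z) * q⁻¹ * ((x : G) * z)⁻¹ = q * x * q⁻¹ * (x : G)⁻¹ * (q * z * q⁻¹ * (z : G)⁻¹)
        rw [show q * ((x : G) * z) * q⁻¹ * ((x : G) * z)⁻¹ = q * x * q⁻¹ * ((q * z * q⁻¹ * (z : G)⁻¹) * (x : G)⁻¹)
          by group, r.d.comm (A.mul_mem h2 (A.inv_mem z.2.2)) (A.inv_mem x.2.2)]
        group) }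
  have hinj : Function.Injective Φ := (injective_iff_map_eq_one Φ).2 fun x hx => by
    by_contra hx1
    have hqx : q * (x : G) * q⁻¹ * (x : G)⁻¹ = 1 := congrArg Subtype.val hx
    rw [mul_inv_eq_one, mul_inv_eq_iff_eq_mul] at hqx
    obtain ⟨j, hj⟩ := IsPGroup.iff_orderOf.1 S.isPGroup' ⟨x, x.2.1⟩
    rw [Subgroup.orderOf_mk] at hj
    rcases j with _ | j
    · exact hx1 (Subtype.ext (orderOf_eq_one_iff.1 (by rw [hj, pow_zero])))
    have he2 : orderOf ((x : G) ^ 2 ^ j) = 2 := by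
      refine orderOf_of_sq (by rw [← pow_add, ← two_mul, ← pow_succ', ← hj, pow_orderOf_eq_one]) fun e => ?_
      have := orderOf_dvd_of_pow_eq_one e
      rw [hj] at this
      exact absurd ((Nat.pow_dvd_pow_iff_le_right (by norm_num)).1 this) (by omega)
    refine hqH ?_
    rw [← r.cent (A.pow_mem x.2.2 _) he2, mem_centralizer_singleton_iff]
    exact Commute.pow_right hqx _
  obtain ⟨b, hbA, hb⟩ := hψτ
  -- a square root inside `T`
  obtain ⟨i', k₂, hk₂, hik₂⟩ := Nat.exists_eq_pow_mul_and_not_dvd (orderOf_pos b).ne' 2 (by norm_num)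
  have hbT : b ^ k₂ ∈ T := ⟨hT _ (A.pow_mem hbA _) i' (by rw [← pow_mul, mul_comm, ← hik₂, pow_orderOf_eq_one]),
    A.pow_mem hbA _⟩
  have hψT : ψ τ ∈ T := hqT τ hτT
  obtain ⟨l, hl⟩ : ∃ l : ℕ, (ψ τ ^ k₂) ^ l = ψ τ := by
    obtain ⟨j, hj⟩ := IsPGroup.iff_orderOf.1 S.isPGroup' ⟨ψ τ, hψT.1⟩
    rw [Subgroup.orderOf_mk] at hj
    refine (exists_pow_eq_self_of_coprime ?_)
    rw [hj]
    exact (Nat.prime_two.coprime_iff_not_dvd.2 hk₂).symm.pow_right j
  set rb : T := ⟨(b ^ k₂) ^ l, T.pow_mem hbT l⟩ with hrb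
  obtain ⟨r₀, hr₀⟩ := (Finite.injective_iff_surjective.1 hinj) rb
  have h1 : Φ (r₀ * r₀) = Φ ⟨τ, hτT⟩ := by
    rw [map_mul, hr₀]
    refine Subtype.ext ?_
    show (b ^ k₂) ^ l * (b ^ k₂) ^ l = ψ τ
    rw [← (Commute.refl _).mul_pow, ← (Commute.refl b).mul_pow, ← hb, hl]
  have h2 : τ = (r₀ : G) * r₀ := (congrArg Subtype.val (hinj h1)).symm
  refine ⟨(r₀ : G) * (a ^ k')⁻¹, A.mul_mem r₀.2.2 (A.inv_mem (A.pow_mem haA _)), ?_⟩
  have h3 : a = τ * (a ^ k' * a ^ k')⁻¹ := by rw [hτa, mul_inv_cancel_right]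
  conv_lhs => rw [h3]
  rw [h2, show (r₀ : G) * (a ^ k')⁻¹ * ((r₀ : G) * (a ^ k')⁻¹) =
    (r₀ : G) * ((a ^ k')⁻¹ * r₀) * (a ^ k')⁻¹ by group, r.d.comm (A.inv_mem (A.pow_mem haA _)) r₀.2.2]
  group

theorem false_of_four (S : Sylow 2 G) (hS : (S : Subgroup G) ≤ H) {r₁ : G} (hr₁ : r₁ ∈ A)
    (hr₁4 : orderOf r₁ = 4) : False := by
  obtain ⟨Q, w, hQo, hQH, hcov, -, hwS, hwA, hQw⟩ := r.frame S hS
  have hwH : w ∈ H := hS hwS
  have hww : w * w = 1 := r.d.sq w hwH hwA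
  -- an element outside `E A²`
  obtain ⟨a₀, ha₀, hout⟩ : ∃ a₀ ∈ A, ∀ e ∈ A, e * e = 1 → ∀ b ∈ A, a₀ ≠ e * (b * b) := by
    by_contra hcon
    push Not at hcon
    letI : CommGroup A :=
      { (inferInstance : Group A) with mul_comm := fun x z => Subtype.ext (r.d.comm x.2 z.2) }
    set f : A →* A := powMonoidHom 2
    let Ψ : f.ker × f.range → A := fun x => (x.1 : A) * x.2
    have hsurj : Function.Surjective Ψ := fun x => by
      obtain ⟨e, he, he2, b, hb, hxe⟩ := hcon x x.2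
      exact ⟨(⟨⟨e, he⟩, MonoidHom.mem_ker.2 (Subtype.ext (by
          show (⟨e, he⟩ : A).1 ^ 2 = 1
          rw [pow_two]; exact he2))⟩,
        ⟨⟨b, hb⟩ ^ 2, ⟨⟨b, hb⟩, rfl⟩⟩), Subtype.ext (by
          show e * ((⟨b, hb⟩ : A) ^ 2 : A).1 = x
          rw [hxe]; simp [pow_two])⟩
    have hcard : Nat.card (f.ker × f.range) = Nat.card A := by
      rw [Nat.card_prod, ← Subgroup.index_ker, Subgroup.card_mul_index]
    have hinj : Function.Injective Ψ := ((Nat.bijective_iff_surjective_and_card Ψ).2 ⟨hsurj, hcard⟩).1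
    set ε : A := ⟨r₁ * r₁, A.mul_mem hr₁ hr₁⟩ with hε
    have h4 : r₁ ^ 4 = 1 := hr₁4 ▸ pow_orderOf_eq_one r₁
    have hεk : ε ∈ f.ker := MonoidHom.mem_ker.2 (Subtype.ext (by
      show (r₁ * r₁) ^ 2 = 1
      rw [← pow_two, ← pow_mul]; exact h4))
    have hεr : ε ∈ f.range := ⟨⟨r₁, hr₁⟩, Subtype.ext (by
      show r₁ ^ 2 = r₁ * r₁
      exact pow_two r₁)⟩
    have he := @hinj (⟨ε, hεk⟩, 1) (1, ⟨ε, hεr⟩) (by simp [Ψ])
    have h1 : ε = 1 := congrArg Subtype.val (congrArg Prod.fst he)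
    have h2 : r₁ * r₁ = 1 := congrArg Subtype.val h1
    have := orderOf_dvd_of_pow_eq_one (show r₁ ^ 2 = 1 by rw [pow_two]; exact h2)
    rw [hr₁4] at this
    exact absurd (Nat.le_of_dvd (by norm_num) this) (by norm_num)
  set y := a₀ * w with hydef
  have hyH : y ∈ H := H.mul_mem (r.d.lt.le ha₀) hwH
  have hyA : y ∉ A := fun h => hwA (by
    have := A.mul_mem (A.inv_mem ha₀) h
    rwa [inv_mul_cancel_left] at this)
  have hgood : ∀ e ∈ A, e * e = 1 →
      centralizer ({y * e} : Set G) ≤ H ∧ ∀ c ∈ centralizer ({y * e} : Set G), c * c = 1 := by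
    intro e he he2
    have hyeH : y * e ∈ H := H.mul_mem hyH (r.d.lt.le he)
    have hyeA : y * e ∉ A := fun h => hyA (by
      have := A.mul_mem h (A.inv_mem he)
      rwa [mul_inv_cancel_right] at this)
    refine r.centralizer_outer hyeH hyeA fun m hm hmy => by_contra fun hmH => ?_
    obtain ⟨b, hb, hbe⟩ := r.mul_w_mem_sq S hS hQH hcov hwS hwA hQw hyeH hyeA hm hmH hmy
    refine hout e he he2 b hb ?_
    rw [hydef, show a₀ * w * e * w = a₀ * (w * e * w) by group] at hbe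
    have hwe : w * e * w = e := by
      rw [(r.commute_sq hwH he he2).eq, mul_assoc, hww, mul_one]
    rw [hwe] at hbe
    rw [← hbe, ← mul_assoc, r.d.comm he ha₀, mul_assoc, he2, mul_one]
  obtain ⟨hyC, hysq⟩ := show centralizer ({y} : Set G) ≤ H ∧ ∀ c ∈ centralizer ({y} : Set G), c * c = 1 by
    simpa using hgood 1 A.one_mem (one_mul 1)
  obtain ⟨e, he, -, -, he2, -, -⟩ := r.two
  have hy2 : orderOf y = 2 := r.d.orderOf_outer hyH hyA
  have hconj : ∀ g : G, g * e * g⁻¹ ∈ A := by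
    intro g
    refine r.fuse he he2 ?_
    set x := g * e * g⁻¹ with hx
    have hx2 : orderOf x = 2 := by rw [hx, orderOf_conj]; exact he2
    rcases Nat.even_or_odd (orderOf (x * y)) with hev | hodd
    · have hdata := half_pow_commute hx2 hy2 hev
      obtain ⟨hi2, hix, hiy⟩ := hdata
      set i := (x * y) ^ (orderOf (x * y) / 2)
      have hiC : i ∈ centralizer ({y} : Set G) := mem_centralizer_singleton_iff.2 hiy.eq
      by_cases hiA : i ∈ A
      · rw [← r.cent hiA hi2, mem_centralizer_singleton_iff]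
        exact hix.eq.symm
      · have he'A : y * i ∈ A := r.mul_mem_A hyH hyA (hyC hiC) hiA
        have he'2 : y * i * (y * i) = 1 := hysq _ (mul_mem (mem_centralizer_singleton_iff.2 rfl) hiC)
        refine (hgood _ he'A he'2).1 ?_
        rw [← mul_assoc, mul_self hy2, one_mul, mem_centralizer_singleton_iff]
        exact hix.eq.symm
    · exfalso
      obtain ⟨c, hc⟩ := isConj_iff.1 (isConj_of_odd hx2 hy2 hodd)
      refine hyA ?_
      rw [← hc, hx, show c * (g * e * g⁻¹) * c⁻¹ = (c * g) * e * (c * g)⁻¹ by group]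
      refine r.fuse he he2 ?_
      rw [show (c * g) * e * (c * g)⁻¹ = c * (g * e * g⁻¹) * c⁻¹ by group, ← hx, hc]
      exact hyH
  haveI hn : H.Normal := Subgroup.normalizer_eq_top_iff.1 (eq_top_iff.2 fun g _ =>
    r.mem_normalizer he he2 (r.d.lt.le (hconj g)))
  haveI : Fact (Nat.Prime 2) := ⟨Nat.prime_two⟩
  refine r.d.ns (solvable_of_odd_index H r.d.solvable ?_)
  refine Nat.odd_iff.2 (Nat.two_dvd_ne_zero.1 fun h2 => S.not_dvd_index ?_)
  exact h2.trans (Subgroup.index_dvd_of_le hS)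

theorem concl : Concl G := by
  haveI : Fact (Nat.Prime 2) := ⟨Nat.prime_two⟩
  obtain ⟨S, hS⟩ := r.exists_sylow
  have hT : ∀ x ∈ (S : Subgroup G), x ∈ A → x * x = 1 := by
    intro x hx hxA
    by_contra hne
    obtain ⟨j, hj⟩ := IsPGroup.iff_orderOf.1 S.isPGroup' ⟨x, hx⟩
    rw [Subgroup.orderOf_mk] at hj
    match j, hj with
    | 0, hj =>
      have h1 : x = 1 := orderOf_eq_one_iff.1 (by rw [hj, pow_zero])
      exact hne (by rw [h1, one_mul])
    | 1, hj => exact hne (by rw [← pow_two, show (2 : ℕ) = orderOf x by rw [hj, pow_one], pow_orderOf_eq_one])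
    | j + 2, hj =>
      refine r.false_of_four S hS (A.pow_mem hxA (2 ^ j)) ?_
      rw [orderOf_pow' x (by positivity), hj, Nat.gcd_eq_right (pow_dvd_pow 2 (by omega)),
        Nat.pow_div (by omega) (by norm_num), show j + 2 - j = 2 by omega]
  have hsq : ∀ x ∈ (S : Subgroup G), x * x = 1 := fun x hx => by
    by_cases hxA : x ∈ A
    · exact hT x hx hxA
    · exact r.d.sq x (hS hx) hxA
  obtain ⟨Q, w, hQo, hQH, hcov, hdec, hwS, hwA, hQw⟩ := r.frame S hS
  have hwH := hS hwS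
  have hw2 : orderOf w = 2 := r.d.orderOf_outer hwH hwA
  obtain ⟨e₁, h₁, e₂, h₂, o₁, o₂, hne⟩ := r.two
  have heS : ∀ e ∈ A, orderOf e = 2 → e ∈ (S : Subgroup G) := fun e he he2 => by
    obtain ⟨c, hc, hcx⟩ := exists_conj_into S hS
      (IsPGroup.of_card (n := 1) (by rw [Nat.card_zpowers, he2, pow_one]) : IsPGroup 2 (zpowers e))
      (zpowers_le.2 (r.d.lt.le he))
    have h1 := hcx e (mem_zpowers e)
    rwa [(r.commute_sq hc he (mul_self he2)).eq, mul_inv_cancel_right] at h1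
  -- `w` is isolated
  have hiso : IsIsolatedInvolution w := by
    refine ZStar.isolated_of_sylow S hw2 hwS fun g hg => ?_
    set M := centralizer ({g * w * g⁻¹} : Set G)
    have hSM : (S : Subgroup G) ≤ M := fun x hx => mem_centralizer_singleton_iff.2 (comm_of_sq hsq hx hg)
    have hgSM : (S : Subgroup G).map (MulAut.conj g).toMonoidHom ≤ M := by
      rintro _ ⟨x, hx, rfl⟩
      exact (map_mem_centralizer (MulAut.conj g)).2 (mem_centralizer_singleton_iff.2 (comm_of_sq hsq hx hwS))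
    obtain ⟨c, hc, hcx⟩ := exists_conj_into S hSM (S.isPGroup'.map _) hgSM
    have hn : ∀ x ∈ (S : Subgroup G), (c * g) * x * (c * g)⁻¹ ∈ (S : Subgroup G) := fun x hx => by
      rw [show c * g * x * (c * g)⁻¹ = c * (g * x * g⁻¹) * c⁻¹ by group]
      exact hcx _ ⟨x, hx, rfl⟩
    obtain ⟨s, hs, q, hq, he⟩ := hdec (c * g) ⟨r.mem_normalizer h₁ o₁ (hS (hn e₁ (heS e₁ h₁ o₁))),
      Coprime.mem_normalizer_of_forall hn⟩
    have h1 : c * (g * w * g⁻¹) * c⁻¹ = g * w * g⁻¹ := by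
      rw [mem_centralizer_singleton_iff.1 hc, mul_inv_cancel_right]
    rw [← h1, show c * (g * w * g⁻¹) * c⁻¹ = (c * g) * w * (c * g)⁻¹ by group, he,
      show s * q * w * (s * q)⁻¹ = s * (q * w * q⁻¹) * s⁻¹ by group, (hQw q hq).eq, mul_inv_cancel_right,
      comm_of_sq hsq hs hwS, mul_inv_cancel_right]
  obtain ⟨N₀, hN₀, hN₀o, hN₀c⟩ := Transfer.exists_odd_normal_of_isolated hiso
  haveI := hN₀
  set N := N₀ ⊔ zpowers w with hNdef
  have hwN : w ∈ N := mem_sup_right (mem_zpowers w)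
  haveI hN : N.Normal := by
    refine Subgroup.normalizer_eq_top_iff.1 (eq_top_iff.2 fun g _ => ?_)
    have hwg : g * w * g⁻¹ ∈ N := by
      rw [show g * w * g⁻¹ = (w * g * w⁻¹ * g⁻¹)⁻¹ * w by group]
      exact N.mul_mem (mem_sup_left (N₀.inv_mem (hN₀c g))) hwN
    refine Coprime.mem_normalizer_of_forall fun x hx => ?_
    obtain ⟨n, hn, v, hv, rfl⟩ := mem_sup_of_normal_left.1 hx
    obtain ⟨i, rfl⟩ := mem_zpowers_iff.1 hv
    rw [show g * (n * w ^ i) * g⁻¹ = (g * n * g⁻¹) * (g * w ^ i * g⁻¹) by group, ← conj_zpow]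
    exact N.mul_mem (mem_sup_left (hN₀.conj_mem n hn g)) (N.zpow_mem hwg i)
  have hcases : ∀ x ∈ N, x ∈ N₀ ∨ ∃ n ∈ N₀, x = n * w := by
    intro x hx
    obtain ⟨n, hn, v, hv, rfl⟩ := mem_sup_of_normal_left.1 hx
    obtain ⟨i, rfl⟩ := mem_zpowers_iff.1 hv
    rcases Int.even_or_odd i with ⟨k, rfl⟩ | ⟨k, rfl⟩
    · left
      rw [← two_mul, zpow_mul, show w ^ (2 : ℤ) = 1 by rw [zpow_two]; exact mul_self hw2, one_zpow, mul_one]
      exact hn
    · right
      exact ⟨n, hn, by rw [zpow_add, zpow_mul, show w ^ (2 : ℤ) = 1 by rw [zpow_two]; exact mul_self hw2,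
        one_zpow, one_mul, zpow_one]⟩
  have hcard : Nat.card N = 2 * Nat.card N₀ := by
    have hcop : (Nat.card N₀).Coprime (Nat.card (zpowers w)) := by
      rw [Nat.card_zpowers, hw2]; exact Nat.coprime_two_right.2 hN₀o
    rw [hNdef, Coprime.card_sup_of_coprime (by rw [Subgroup.normalizer_eq_top_iff.2 hN₀]; exact le_top) hcop,
      Nat.card_zpowers, hw2, mul_comm]
  -- involutions of `A` are not conjugate to elements outside `A`
  have hnot : ∀ e ∈ A, orderOf e = 2 → ∀ v ∈ H, v ∉ A → ∀ g : G, g * e * g⁻¹ ≠ v :=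
    fun e he he2 v hv hvA g hg => hvA (hg ▸ r.fuse he he2 (hg ▸ hv))
  have hdisj : ∀ e ∈ A, orderOf e = 2 → e ∉ N := by
    intro e he he2 heN
    rcases hcases e heN with h | ⟨n, hn, rfl⟩
    · have := odd_orderOf_of_mem hN₀o h
      rw [he2] at this
      exact absurd this (by decide)
    · obtain ⟨f, -, hf⟩ := exists_conj_mul hN₀o hn hw2 (mul_self he2)
      refine hnot _ he he2 w hwH hwA f⁻¹ ?_
      rw [← hf]; group
  set π := QuotientGroup.mk' N with hπdef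
  have hπw : π w = 1 := (QuotientGroup.eq_one_iff w).2 hwN
  have hπs : Function.Surjective π := QuotientGroup.mk'_surjective N
  set S' := S.mapSurjective hπs with hS'def
  have hπH : ∀ c ∈ H, π c * π c = 1 := by
    intro c hc
    by_cases hcA : c ∈ A
    · have h1 : w * c * w⁻¹ = c⁻¹ := r.d.inv hwH hwA hcA
      have h2 := congrArg π h1
      rw [map_mul, map_mul, map_inv, map_inv, hπw, inv_one, one_mul, mul_one] at h2
      nth_rw 2 [h2]
      exact mul_inv_cancel _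
    · rw [← map_mul, r.d.sq c hc hcA, map_one]
  -- centralisers of involutions
  have hcentπ : ∀ e ∈ A, orderOf e = 2 → ∀ c ∈ centralizer ({π e} : Set (G ⧸ N)), c * c = 1 := by
    intro e he he2 c hc
    obtain ⟨g, rfl⟩ := hπs c
    rw [mem_centralizer_singleton_iff, ← map_mul, ← map_mul] at hc
    have hx : g * e * g⁻¹ * e⁻¹ ∈ N := by
      rw [← QuotientGroup.eq_one_iff (N := N)]
      show π (g * e * g⁻¹ * e⁻¹) = 1
      rw [map_mul, map_mul, map_inv, map_inv, hc, map_mul, mul_inv_cancel_right, mul_inv_cancel]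
    have hge : orderOf (g * e * g⁻¹) = 2 := by rw [orderOf_conj]; exact he2
    rcases hcases _ hx with h | ⟨n, hn, hxe⟩
    · have h2 : g * e * g⁻¹ = g * e * g⁻¹ * e⁻¹ * e := by group
      obtain ⟨f, hf, hfe⟩ := exists_conj_mul hN₀o h he2 (by rw [← h2]; exact mul_self hge)
      rw [← h2] at hfe
      have hfg : f⁻¹ * g ∈ H := by
        rw [← r.cent he he2, mem_centralizer_singleton_iff]
        calc f⁻¹ * g * e = f⁻¹ * (g * e * g⁻¹) * g := by group
          _ = e * (f⁻¹ * g) := by rw [← hfe]; group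
      have h3 : π g = π (f⁻¹ * g) := by
        rw [map_mul, map_inv, show π f = 1 from (QuotientGroup.eq_one_iff f).2 (mem_sup_left hf), inv_one,
          one_mul]
      rw [h3]; exact hπH _ hfg
    · exfalso
      have hwe : orderOf (w * e) = 2 := by
        refine r.d.orderOf_outer (H.mul_mem hwH (r.d.lt.le he)) fun h => hwA ?_
        have := A.mul_mem h (A.inv_mem he)
        rwa [mul_inv_cancel_right] at this
      have h2 : g * e * g⁻¹ = n * (w * e) := by rw [← mul_assoc, ← hxe, inv_mul_cancel_right]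
      obtain ⟨f, hf, hfe⟩ := exists_conj_mul hN₀o hn hwe (by rw [← h2]; exact mul_self hge)
      refine hnot e he he2 (w * e) (H.mul_mem hwH (r.d.lt.le he)) (fun h => hwA ?_) (f⁻¹ * g) ?_
      · have := A.mul_mem h (A.inv_mem he)
        rwa [mul_inv_cancel_right] at this
      · rw [show f⁻¹ * g * e * (f⁻¹ * g)⁻¹ = f⁻¹ * (g * e * g⁻¹) * f by group, h2, ← hfe]
        group
  have hinvol : ∀ q : G ⧸ N, orderOf q = 2 → ∃ g : G ⧸ N, ∃ e ∈ A, orderOf e = 2 ∧ g * q * g⁻¹ = π e := by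
    intro q hq
    obtain ⟨R, hR⟩ := (IsPGroup.of_card (n := 1) (by rw [Nat.card_zpowers, hq, pow_one]) :
      IsPGroup 2 (zpowers q)).exists_le_sylow
    obtain ⟨g, hg⟩ := MulAction.exists_smul_eq (G ⧸ N) R S'
    have h1 : g * q * g⁻¹ ∈ ((g • R : Sylow 2 (G ⧸ N)) : Subgroup (G ⧸ N)) := by
      rw [Sylow.coe_subgroup_smul]; exact ⟨q, hR (mem_zpowers q), rfl⟩
    rw [hg, Sylow.coe_mapSurjective] at h1
    obtain ⟨s, hs, hsq'⟩ := h1
    have hne' : π s ≠ 1 := fun e => by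
      rw [e] at hsq'
      exact ne_one hq (conj_eq_one_iff.1 hsq'.symm)
    obtain ⟨e, heA, heπ⟩ : ∃ e, (e ∈ A ∧ e ∈ (S : Subgroup G)) ∧ π e = π s := by
      by_cases hsA : s ∈ A
      · exact ⟨s, ⟨hsA, hs⟩, rfl⟩
      · exact ⟨s * w, ⟨r.mul_mem_A (hS hs) hsA hwH hwA, mul_mem hs hwS⟩, by rw [map_mul, hπw, mul_one]⟩
    exact ⟨g, e, heA.1, orderOf_of_sq (hsq e heA.2) (fun h => hne' (by rw [← heπ, h, map_one])),
      hsq'.symm.trans heπ.symm⟩
  have hC : ∀ q : G ⧸ N, orderOf q = 2 → IsMulCommutative (centralizer ({q} : Set (G ⧸ N))) ∧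
      ∀ c ∈ centralizer ({q} : Set (G ⧸ N)), c ^ 2 = 1 := by
    intro q hq
    obtain ⟨g, e, he, he2, hge⟩ := hinvol q hq
    have h1 : ∀ c ∈ centralizer ({q} : Set (G ⧸ N)), c * c = 1 := fun c hc => by
      have h2 := hcentπ e he he2 (g * c * g⁻¹) (by
        rw [← hge]; exact (map_mem_centralizer (MulAut.conj g)).2 hc)
      rwa [show g * c * g⁻¹ * (g * c * g⁻¹) = g * (c * c) * g⁻¹ by group, conj_eq_one_iff] at h2
    exact ⟨⟨⟨fun a b => Subtype.ext (comm_of_sq h1 a.2 b.2)⟩⟩, fun c hc => by rw [pow_two]; exact h1 c hc⟩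
  have hsq' : ∀ x : G ⧸ N, x ∈ (S' : Subgroup (G ⧸ N)) → x * x = 1 := by
    intro x hx
    rw [hS'def, Sylow.coe_mapSurjective] at hx
    obtain ⟨s, hs, rfl⟩ := hx
    exact hπH s (hS hs)
  have hmem : ∀ e ∈ A, orderOf e = 2 → π e ∈ (S' : Subgroup (G ⧸ N)) := fun e he he2 => by
    rw [hS'def, Sylow.coe_mapSurjective]; exact ⟨e, heS e he he2, rfl⟩
  have hπne : π e₁ ≠ π e₂ := fun e => by
    have o₃ : orderOf (e₁⁻¹ * e₂) = 2 := orderOf_of_sq (by
      rw [inv_eq o₁, show e₁ * e₂ * (e₁ * e₂) = e₁ * (e₂ * e₁) * e₂ by group, r.d.comm h₂ h₁,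
        show e₁ * (e₁ * e₂) * e₂ = (e₁ * e₁) * (e₂ * e₂) by group, mul_self o₁, mul_self o₂, one_mul])
      fun h => hne (inv_mul_eq_one.1 h)
    refine hdisj _ (A.mul_mem (A.inv_mem h₁) h₂) o₃ ?_
    exact QuotientGroup.eq.1 e
  have hπ1 : ∀ e ∈ A, orderOf e = 2 → π e ≠ 1 := fun e he he2 h => hdisj e he he2 ((QuotientGroup.eq_one_iff e).1 h)
  have hnc : ¬ IsCyclic (S' : Subgroup (G ⧸ N)) := fun hc => by
    haveI := hc
    haveI := Fintype.ofFinite (S' : Subgroup (G ⧸ N))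
    have h := IsCyclic.card_orderOf_eq_totient (α := (S' : Subgroup (G ⧸ N))) (d := 2)
    have o : ∀ e (he : e ∈ A) (he2 : orderOf e = 2), orderOf (⟨π e, hmem e he he2⟩ : (S' : Subgroup (G ⧸ N))) = 2 :=
      fun e he he2 => by
        rw [Subgroup.orderOf_mk]
        exact orderOf_of_sq (hsq' _ (hmem e he he2)) (hπ1 e he he2)
    have h1 := h ((dvd_of_eq (o e₁ h₁ o₁).symm).trans orderOf_dvd_card)
    rw [Nat.totient_two, Finset.card_eq_one] at h1
    obtain ⟨c, hc'⟩ := h1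
    have m : ∀ e (he : e ∈ A) (he2 : orderOf e = 2),
        (⟨π e, hmem e he he2⟩ : (S' : Subgroup (G ⧸ N))) = c := fun e he he2 =>
      Finset.mem_singleton.1 (hc' ▸ Finset.mem_filter.2 ⟨Finset.mem_univ _, o e he he2⟩)
    exact hπne (congrArg Subtype.val ((m e₁ h₁ o₁).trans (m e₂ h₂ o₂).symm))
  have hnn : ¬ (S' : Subgroup (G ⧸ N)).Normal := fun hn' => r.d.ns <| by
    haveI := hn'
    haveI : Group.IsSolvable (G ⧸ N) := solvable_of_odd_index _
      (Group.isSolvable_of_comm fun a b => Subtype.ext (comm_of_sq hsq' a.2 b.2))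
      (Nat.odd_iff.2 (Nat.two_dvd_ne_zero.1 S'.not_dvd_index))
    refine (Group.isSolvable_iff_subgroup_quotient N).2 ⟨?_, inferInstance⟩
    haveI : (N₀.subgroupOf N).Normal := hN₀.subgroupOf N
    refine (Group.isSolvable_iff_subgroup_quotient (N₀.subgroupOf N)).2
      ⟨OddOrderTheorem.solvable (by rw [Cores.card_subgroupOf le_sup_left]; exact hN₀o), ?_⟩
    have hq2 : Nat.card (N ⧸ N₀.subgroupOf N) = 2 := by
      have h1 := Subgroup.card_eq_card_quotient_mul_card_subgroup (N₀.subgroupOf N)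
      rw [hcard, Cores.card_subgroupOf le_sup_left] at h1
      exact (Nat.eq_of_mul_eq_mul_right Nat.card_pos h1).symm
    haveI := isCyclic_of_prime_card hq2
    exact Group.isSolvable_of_comm fun a b => IsCyclic.commGroup.mul_comm a b
  obtain ⟨F, hF, hFt, hcF, ⟨e⟩⟩ := TwoFusion.ElemCent.equiv_psl ⟨hnc, hnn, hC⟩
  have h4 : 3 < Nat.card (S' : Subgroup (G ⧸ N)) := by
    by_contra hle
    obtain ⟨n, hn⟩ := IsPGroup.iff_card.1 S'.isPGroup'
    match n, hn with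
    | 0, hn =>
      haveI := (Nat.card_eq_one_iff_unique.1 (hn.trans (pow_zero 2))).1
      exact hnc isCyclic_of_subsingleton
    | 1, hn => exact hnc (isCyclic_of_prime_card (hn.trans (pow_one 2)))
    | n + 2, hn =>
      rw [hn] at hle
      have : 4 ≤ 2 ^ (n + 2) := by rw [pow_add]; exact Nat.le_mul_of_pos_left 4 (by positivity)
      omega
  exact ⟨N, hN, Or.inr ⟨_, hN₀o, hcard⟩, F, hF, hFt, hcF ▸ h4, Or.inl ⟨e⟩⟩

end RankTwo

end Cfsg.Agent.DGroup
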