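import Cfsg.Agent.Lib.DGroup.Key
import Cfsg.Agent.Lib.BSW.Two
import Cfsg.Agent.S0508

/-!
A simple `D`-group is `PSL(2, F)`, `F` of odd order.

* `DHyp.bsw` : the hypothesis of the theorem of Brauer, Suzuki and Wall
* `DHyp.equiv_psl`
-/

set_option autoImplicit false

namespace Cfsg.Agent.DGroup

open Subgroup Cfsg Involution

universe v

variable {G : Type v} [Group G] [Finite G]

theorem DHyp.bsw [IsSimpleGroup G] (h : DHyp G) {t : G} {A : Subgroup G} {u : G} (hl : Loc t A u) :
    BSW.Hyp t u A where
  ht := hl.ht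
  hs := hl.hu
  comm := hl.comm
  le_cent := fun a ha => hl.le_cent ha
  t_mem := hl.t_mem
  s_mem := hl.u_cent
  s_not := hl.u_not
  cent_le := fun c hc => by
    rcases hl.cover c hc with h1 | h1
    · exact mem_sup_left h1
    · have := Subgroup.mul_mem (A ⊔ zpowers u) (mem_sup_left h1) (mem_sup_right (inv_mem (mem_zpowers u)))
      rwa [mul_inv_cancel_right] at this
  fix := fun x hx hux => by
    have h1 := hl.inv x hx
    rw [hux, mul_inv_cancel_right] at h1
    rcases eq_or_ne x 1 with h2 | h2
    · exact Or.inl h2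
    · exact Or.inr (hl.uniq x hx (orderOf_of_sq (by nth_rw 2 [h1]; exact mul_inv_cancel x) h2))
  inv := hl.inv
  ti := fun g x hx hx1 hgx => by
    show g ∈ centralizer ({t} : Set G)
    rw [mem_centralizer_singleton_iff]
    have hfix : g * t * g⁻¹ = t → g * t = t * g := fun e => mul_inv_eq_iff_eq_mul.1 e
    refine hfix ?_
    rcases Nat.even_or_odd (orderOf x) with ⟨k, hk⟩ | hodd
    · have hk2 : orderOf (x ^ k) = 2 := by
        refine orderOf_of_sq (by rw [← pow_add, ← hk, pow_orderOf_eq_one]) fun e => ?_
        have := Nat.le_of_dvd (by have := orderOf_pos x; omega) (orderOf_dvd_of_pow_eq_one e)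
        have := orderOf_pos x
        omega
      have h1 : x ^ k = t := hl.uniq _ (A.pow_mem hx _) hk2
      refine hl.uniq _ ?_ (by rw [orderOf_conj]; exact hl.ht)
      rw [← h1, ← conj_pow]
      exact A.pow_mem hgx _
    · have hxt : Commute x t := mem_centralizer_singleton_iff.1 (hl.le_cent hx)
      have hyt : Commute (g * x * g⁻¹) t := mem_centralizer_singleton_iff.1 (hl.le_cent hgx)
      have hs : Commute x (g⁻¹ * t * g) := by
        have := hyt.map (MulAut.conj g⁻¹).toMonoidHom
        simpa [mul_assoc] using this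
      have hso : orderOf (g⁻¹ * t * g) = 2 := by
        have := orderOf_conj g⁻¹ t
        rw [inv_inv] at this
        rw [this]; exact hl.ht
      have hst : Commute (g⁻¹ * t * g) t := mem_centralizer_singleton_iff.1
        (h.ti hl.ht hx1 hodd hxt (mem_centralizer_singleton_iff.2 hs.eq.symm))
      by_contra hne
      have hne' : g⁻¹ * t * g ≠ t := fun e => hne (by
        nth_rw 1 [← e]
        group)
      exact hx1 (h.eq_one_of_four hl.ht hso hst hne' hxt hs hodd)
  all_conj := h.conj

/-- A simple `D`-group is `PSL(2, F)`. -/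
theorem DHyp.equiv_psl [IsSimpleGroup G] (h : DHyp G) :
    ∃ (F : Type) (_ : Field F) (_ : Fintype F), Odd (Fintype.card F) ∧
      Nonempty (G ≃* Matrix.ProjectiveSpecialLinearGroup (Fin 2) F) := by
  obtain ⟨t, ht⟩ := h.exists_invol
  obtain ⟨A, u, hl⟩ := h.loc t ht
  exact S0508.equiv_of_conclusion (h.bsw hl).conclusion

end Cfsg.Agent.DGroup
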