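import Cfsg.Agent.Lib.DGroup.Cases
import Cfsg.Agent.Lib.DGroup.Outer
import Cfsg.Agent.Lib.DGroup.Recognise
import Cfsg.Agent.Lib.DGroup.RankTwo

/-!
The classification of non-solvable groups with a self-centralising `D`-group.

* `DSet.concl`
-/

set_option autoImplicit false

namespace Cfsg.Agent.DGroup

open Subgroup Cfsg Involution

universe v

theorem three_lt_card {F : Type} [Field F] [Fintype F] {K : Type v} [Group K] [Finite K]
    (hns : ¬ Group.IsSolvable K) (hodd : Odd (Fintype.card F))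
    (e : K ≃* Matrix.ProjectiveSpecialLinearGroup (Fin 2) F) : 3 < Fintype.card F := by
  by_contra hle
  have h3 : Nat.card F = 3 := by
    have := Fintype.one_lt_card (α := F)
    rw [Nat.card_eq_fintype_card]
    rw [Nat.odd_iff] at hodd
    omega
  have h := PSL2.card_psl_mul (F := F)
  rw [h3] at h
  norm_num at h
  refine hns (CharApp.isSolvable_of_card_eq_prime_pow_mul 2 3 Nat.prime_two Nat.prime_three _ _ rfl 2 1 ?_)
  rw [Nat.card_congr e.toEquiv]
  change Nat.card (PSL2.PSL2 F) = 2 ^ 2 * 3 ^ 1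
  omega

variable {G : Type v} [Group G] [Finite G] {H A : Subgroup G}

theorem DSet.concl (d : DSet H A) : Concl G := by
  haveI : Fact (Nat.Prime 2) := ⟨Nat.prime_two⟩
  rcases d.elementary_or_cover with he | ⟨hbig, hcov⟩
  · exact d.concl_elementary he
  by_cases htwo : ∃ e₁ ∈ A, ∃ e₂ ∈ A, orderOf e₁ = 2 ∧ orderOf e₂ = 2 ∧ e₁ ≠ e₂
  · exact RankTwo.concl ⟨d, hbig, hcov, htwo⟩
  push Not at htwo
  obtain ⟨u, hu, huA⟩ := d.exists_outer
  have hu2 := d.orderOf_outer hu huA
  -- an involution of `A`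
  have hidx : (A.subgroupOf H).index = 2 := by
    refine Subgroup.index_eq_two_iff.2 ⟨⟨u, hu⟩, fun b => ?_⟩
    rw [mem_subgroupOf, mem_subgroupOf]
    by_cases hb : (b : G) ∈ A
    · exact Or.inr ⟨hb, fun h => huA (by simpa using A.mul_mem (A.inv_mem hb) h)⟩
    · exact Or.inl ⟨(hcov u hu huA b b.2).resolve_left hb, hb⟩
  have h2A : 2 ∣ Nat.card A := by
    have h1 := (A.subgroupOf H).card_mul_index
    rw [hidx, Cores.card_subgroupOf d.lt.le] at h1
    have h4 := d.four
    rw [← h1, show (4 : ℕ) = 2 * 2 from rfl] at h4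
    exact Nat.dvd_of_mul_dvd_mul_right (by norm_num) h4
  obtain ⟨⟨t, htA⟩, ht⟩ := exists_prime_orderOf_dvd_card' (G := A) 2 h2A
  rw [Subgroup.orderOf_mk] at ht
  have hcentral : ∀ h ∈ H, h * t = t * h := fun h hh => by
    by_cases hA : h ∈ A
    · exact d.comm hA htA
    · exact mul_inv_eq_iff_eq_mul.1 ((d.inv hh hA htA).trans (inv_eq ht))
  have hC : centralizer ({t} : Set G) = H := d.cent t (d.lt.le htA) ht hcentral
  have hl : Loc t A u := {
    ht := ht
    le_cent := by rw [hC]; exact d.lt.le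
    comm := fun a ha b hb => d.comm ha hb
    t_mem := htA
    uniq := fun a ha ho => htwo a ha t htA ho ht
    hu := hu2
    u_cent := by rw [hC]; exact hu
    u_not := huA
    inv := fun a ha => d.inv hu huA ha
    cover := fun c hc => hcov u hu huA c (hC ▸ hc) }
  set O := Cfsg.pPrimeCore 2 G with hOdef
  have hOo : Odd (Nat.card O) := odd_pPrimeCore_two
  have hns := not_solvable_quotient d.ns hOo
  have hO : Cfsg.pPrimeCore 2 (G ⧸ O) = ⊥ := Cores.pPrimeCore_quotient_self 2
  rcases (hl.quotient hOo).cases hns hO with hD | ⟨N, z, A', v, w, hs⟩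
  · haveI := hD.isSimple hns hO
    obtain ⟨F, hF, hFt, hodd, ⟨e⟩⟩ := hD.equiv_psl
    exact ⟨O, inferInstance, Or.inl hOo, F, hF, hFt, three_lt_card hns hodd e, Or.inl ⟨e⟩⟩
  · haveI := hs.normal
    have hnsN : ¬ Group.IsSolvable N := fun hsN => hns <| by
      refine (Group.isSolvable_iff_subgroup_quotient N).2 ⟨hsN, ?_⟩
      haveI : Fact (Nat.Prime 2) := ⟨Nat.prime_two⟩
      haveI : Group.IsNilpotent ((G ⧸ O) ⧸ N) := (IsPGroup.of_card (p := 2) (n := 1)
        (by rw [← Subgroup.index_eq_card, hs.index, pow_one])).isNilpotent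
      infer_instance
    have hON : Cfsg.pPrimeCore 2 N = ⊥ := (Subgroup.map_eq_bot_iff_of_injective _ N.subtype_injective).1
      (by rw [Cores.pPrimeCore_map_subtype, hO, bot_inf_eq])
    haveI hsimp := hs.dhyp.isSimple hnsN hON
    obtain ⟨F, hF, hFt, hodd, ⟨e⟩⟩ := hs.dhyp.equiv_psl
    exact ⟨O, inferInstance, Or.inl hOo, F, hF, hFt, three_lt_card hnsN hodd e,
      Or.inr (hs.equiv_pgl hodd hsimp hnsN e)⟩

end Cfsg.Agent.DGroup
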