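import Cfsg.Agent.EqLemmas
import Cfsg.Agent.Lib.PLocal.Functor

/-!
An order on `p`-subgroups: elementary abelian rank, then `|J(S)|`, then `|S|`.

* `key`, `key_mono`, `key_lt`
* `thompson_eq` : `J(S) ≤ S'` and `key S' ≤ key S` force `J(S') = J(S)`
-/

set_option autoImplicit false

namespace Cfsg.Agent.DGroup

open Subgroup Cfsg PLocal

variable {G : Type*} [Group G] [Finite G] (p : ℕ)

/-- The largest order of an elementary abelian subgroup. -/
noncomputable def rk (S : Subgroup G) : ℕ :=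
  Nat.card ↥(exists_maxIn (Q := elemAb p) elemAb_bot S).some

variable {p}

theorem le_rk {S A : Subgroup G} (hA : A ≤ S) (h : elemAb p A) : Nat.card A ≤ rk p S :=
  maxIn_card (exists_maxIn (Q := elemAb p) elemAb_bot S).some_mem hA h

theorem rk_eq {S A : Subgroup G} (hA : A ∈ maxIn (elemAb p) S) : Nat.card A = rk p S :=
  le_antisymm (le_rk hA.1 hA.2.1)
    (hA.2.2 _ (exists_maxIn (Q := elemAb p) elemAb_bot S).some_mem.1
      (exists_maxIn (Q := elemAb p) elemAb_bot S).some_mem.2.1)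

theorem le_thompson {S A : Subgroup G} (hA : A ∈ maxIn (elemAb p) S) :
    A ≤ thompsonSubgroupOf p S := by
  rw [thompsonSubgroupOf_eq]; exact le_sSup hA

theorem rk_le {S S' : Subgroup G} (h : thompsonSubgroupOf p S ≤ S') : rk p S ≤ rk p S' := by
  obtain ⟨A, hA⟩ := exists_maxIn (Q := elemAb p) elemAb_bot S
  rw [← rk_eq hA]
  exact le_rk ((le_thompson hA).trans h) hA.2.1

theorem thompson_le {S S' : Subgroup G} (h : thompsonSubgroupOf p S ≤ S') (hr : rk p S' ≤ rk p S) :
    thompsonSubgroupOf p S ≤ thompsonSubgroupOf p S' := by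
  nth_rw 1 [thompsonSubgroupOf_eq]
  refine sSup_le fun A hA => le_thompson ⟨(le_thompson hA).trans h, hA.2.1, fun B hB hQ => ?_⟩
  exact (le_rk hB hQ).trans (hr.trans (rk_eq hA).ge)

/-- `(rank, |J(S)|, |S|)`. -/
noncomputable def key (p : ℕ) (S : Subgroup G) : ℕ ×ₗ (ℕ ×ₗ ℕ) :=
  toLex (rk p S, toLex (Nat.card (thompsonSubgroupOf p S), Nat.card S))

/-- `J(S) ≤ S'` and `key S' ≤ key S` force `J(S') = J(S)`. -/
theorem thompson_eq {S S' : Subgroup G} (h : thompsonSubgroupOf p S ≤ S') (hk : key p S' ≤ key p S) :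
    thompsonSubgroupOf p S' = thompsonSubgroupOf p S := by
  have hr : rk p S' = rk p S := by
    rcases (Prod.Lex.le_iff.1 hk) with h1 | ⟨h1, -⟩
    · exact absurd (rk_le h) (not_le.2 h1)
    · exact h1
  have hJ := thompson_le h hr.le
  refine (eq_of_le_of_card_ge hJ ?_).symm
  rcases (Prod.Lex.le_iff.1 hk) with h1 | ⟨-, h2⟩
  · exact absurd hr h1.ne
  · rcases Prod.Lex.le_iff.1 h2 with h3 | ⟨h3, -⟩
    · exact le_of_lt h3
    · exact le_of_eq h3

theorem key_mono {S T : Subgroup G} (h : S ≤ T) : key p S ≤ key p T := by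
  have hJS : thompsonSubgroupOf p S ≤ T := (thompsonSubgroupOf_le S).trans h
  rcases (rk_le hJS).lt_or_eq with h1 | h1
  · exact Prod.Lex.le_iff.2 (Or.inl h1)
  refine Prod.Lex.le_iff.2 (Or.inr ⟨h1, ?_⟩)
  rcases (Subgroup.card_le_of_le (thompson_le hJS h1.ge)).lt_or_eq with h2 | h2
  · exact Prod.Lex.le_iff.2 (Or.inl h2)
  · exact Prod.Lex.le_iff.2 (Or.inr ⟨h2, Subgroup.card_le_of_le h⟩)

theorem key_lt {S T : Subgroup G} (h : S < T) : key p S < key p T := by
  refine lt_of_le_of_ne (key_mono h.le) fun e => h.ne (eq_of_le_of_card_ge h.le ?_)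
  have := congrArg (fun k => (ofLex (ofLex k).2).2) e
  exact this.ge

theorem key_conj (g : G) (S : Subgroup G) : key p (S.map (MulAut.conj g).toMonoidHom) = key p S := by
  have hi := (MulAut.conj g).injective
  have hJ : thompsonSubgroupOf p (S.map (MulAut.conj g).toMonoidHom) =
      (thompsonSubgroupOf p S).map (MulAut.conj g).toMonoidHom :=
    (map_thompsonSubgroupOf _ hi.injOn).symm
  obtain ⟨A, hA⟩ := exists_maxIn (Q := elemAb p) elemAb_bot S
  have hm : A.map (MulAut.conj g).toMonoidHom ∈ maxIn (elemAb p) (S.map (MulAut.conj g).toMonoidHom) := by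
    rw [map_maxIn (MulAut.conj g).toMonoidHom hi.injOn (elemAb p) (elemAb p) fun B hB =>
      elemAb_map_iff_of_injOn (f := (MulAut.conj g).toMonoidHom) hi.injOn hB]
    exact ⟨A, hA, rfl⟩
  have hr : rk p (S.map (MulAut.conj g).toMonoidHom) = rk p S := by
    rw [← rk_eq hm, ← rk_eq hA]
    exact card_map_of_injective hi
  rw [key, key, hr, hJ]
  congr 2
  exact Prod.ext (card_map_of_injective hi) (card_map_of_injective hi)

end Cfsg.Agent.DGroup
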