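import Cfsg.Agent.Lib.DGroup.Up
import Cfsg.Agent.Lib.DGroup.Rank

/-!
An extremal four-invariant `p`-subgroup of a `D`-group in which some `C(x)`, `x` odd, is not inside `C(t)`.

* `Best`, `exists_best`, `exists_fail`
-/

set_option autoImplicit false

namespace Cfsg.Agent.DGroup

open Subgroup Cfsg Involution PLocal

universe v

variable {G : Type v} [Group G] [Finite G]

theorem le_of_sylows {K W : Subgroup G}
    (h : ∀ r : ℕ, r.Prime → ∃ P : Sylow r K, (P : Subgroup K).map K.subtype ≤ W) : K ≤ W := by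
  refine le_trans ?_ (inf_le_right : K ⊓ W ≤ W)
  refine (Subgroup.eq_of_le_of_card_ge inf_le_left (Nat.le_of_dvd Nat.card_pos ?_)).ge
  rw [← Nat.factorization_prime_le_iff_dvd Nat.card_pos.ne' Nat.card_pos.ne']
  intro r hr
  haveI := Fact.mk hr
  obtain ⟨P, hP⟩ := h r hr
  refine (hr.pow_dvd_iff_le_factorization Nat.card_pos.ne').1 ?_
  rw [← P.card_eq_multiplicity, ← Cores.card_map_subtype K (P : Subgroup K)]
  exact card_dvd_of_le (le_inf (map_subtype_le _) hP)

namespace DHyp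

variable (h : DHyp G)
include h

theorem up_le_core {p : ℕ} (hp : Odd p) {t x : G} (ht : orderOf t = 2) (hx : x ≠ 1) (hxo : Odd (orderOf x))
    (hxt : Commute x t) : h.up hp ht ≤ core x := fun c hc => by
  obtain ⟨k, hk⟩ := hc.2
  exact h.mem_core hx hxo (h.commute_odd ht hc.1 hxt (odd_of_pow_eq_one hp hk) hxo)
    (odd_of_pow_eq_one hp hk)

theorem group_le_normalizer_up {p : ℕ} (hp : Odd p) {t j : G} (f : Four t j) :
    f.group ≤ normalizer (h.up hp f.ht : Set G) :=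
  f.le_iff.2 ⟨h.centralizer_le_normalizer_up hp f.ht (mem_centralizer_singleton_iff.2 rfl),
    h.centralizer_le_normalizer_up hp f.ht (mem_centralizer_singleton_iff.2 f.comm)⟩

theorem four_le_normalizer_core {t j x : G} (f : Four t j) (hxo : Odd (orderOf x)) (hxt : Commute x t) :
    f.group ≤ normalizer (core x : Set G) :=
  f.le_iff.2 ⟨normalizes_core (Or.inl (by rw [← hxt.eq, mul_inv_cancel_right])),
    normalizes_core (Or.inr (h.inverts f.ht f.hj f.comm f.ne hxt hxo))⟩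

/-- If `C(x)` is not inside `C(t)`, some invariant `p`-group properly contains the `p`-part of `C(t)`. -/
theorem exists_fail {t x : G} (ht : orderOf t = 2) (hx : x ≠ 1) (hxo : Odd (orderOf x))
    (hxt : Commute x t) (hnot : ¬ centralizer ({x} : Set G) ≤ centralizer ({t} : Set G)) :
    ∃ p : ℕ, p.Prime ∧ ∃ hp : Odd p, ∃ (j : G) (P : Subgroup G) (f : Four t j), IsPGroup p P ∧
      t ∈ normalizer (P : Set G) ∧ j ∈ normalizer (P : Set G) ∧ h.up hp f.ht < P := by
  obtain ⟨j, hj, hjt, hne⟩ := h.exists_partner ht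
  have f : Four t j := ⟨ht, hj, hjt, hne⟩
  set K := core x
  have hK : Odd (Nat.card K) := odd_core x
  have hfK : f.group ≤ normalizer (K : Set G) := h.four_le_normalizer_core f hxo hxt
  have hnK : ¬ K ≤ centralizer ({t} : Set G) := by
    intro hKt
    refine hnot fun c hc => ?_
    rw [mem_centralizer_singleton_iff] at hc ⊢
    set d := t * c * t⁻¹ * c⁻¹ with hd
    have hdm : d ∈ K := h.commutator_mem_core hx hxo hxt.symm hc
    have hdt : Commute d t := mem_centralizer_singleton_iff.1 (hKt hdm)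
    obtain ⟨k, hk⟩ := odd_orderOf_of_mem hK hdm
    have e1 : t * d * t⁻¹ = d := by rw [← hdt.eq, mul_inv_cancel_right]
    have e2 : t * d * t⁻¹ = d⁻¹ := by
      rw [hd, show t * (t * c * t⁻¹ * c⁻¹) * t⁻¹ = t * t * c * (t⁻¹ * c⁻¹) * t⁻¹ by group, mul_self ht, one_mul,
        inv_eq ht]
      simp [mul_assoc, inv_eq ht]
    have e3 : d * d = 1 := by
      nth_rw 2 [e1.symm.trans e2]
      exact mul_inv_cancel d
    have e4 : d = 1 := by
      have := pow_orderOf_eq_one d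
      rwa [hk, pow_succ, pow_mul, pow_two, e3, one_pow, one_mul] at this
    rw [hd, mul_inv_eq_one, mul_inv_eq_iff_eq_mul] at e4
    exact e4.symm
  obtain ⟨r, hr, hall⟩ : ∃ r, r.Prime ∧
      ∀ P : Sylow r K, ¬ (P : Subgroup K).map K.subtype ≤ centralizer ({t} : Set G) := by
    by_contra hcon
    push Not at hcon
    exact hnK (le_of_sylows hcon)
  haveI := Fact.mk hr
  have hrodd : Odd r := hr.odd_of_ne_two fun e => by
    subst e
    obtain ⟨P⟩ : Nonempty (Sylow 2 K) := inferInstance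
    refine hall P fun y hy => ?_
    obtain ⟨n, hn⟩ := P.isPGroup'.map K.subtype ⟨y, hy⟩
    have h1 : orderOf y ∣ 2 ^ n := orderOf_dvd_of_pow_eq_one (congrArg Subtype.val hn)
    have h2 := odd_orderOf_of_mem hK (map_subtype_le _ hy)
    rw [orderOf_eq_one_iff.1 (Nat.eq_one_of_dvd_coprimes ((Nat.coprime_two_left.2 h2).pow_left n)
      h1 dvd_rfl)]
    exact one_mem _
  obtain ⟨P, hUP, hPn⟩ := Coprime.exists_invariant_sylow_ge hfK (f.coprime hK)
    (Or.inr (OddOrderTheorem.solvable hK)) (h.up_le_core hrodd f.ht hx hxo hxt)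
    (h.isPGroup_up hrodd f.ht) (h.group_le_normalizer_up hrodd f)
  refine ⟨r, hr, hrodd, j, (P : Subgroup K).map K.subtype, f, P.isPGroup'.map _, hPn f.t_mem, hPn f.j_mem,
    lt_of_le_of_ne hUP fun e => hall P ?_⟩
  rw [← e]
  exact fun c hc => mem_centralizer_singleton_iff.2 hc.1

end DHyp

/-- An extremal configuration. -/
structure Best (h : DHyp G) (p : ℕ) (hp : Odd p) (t j z : G) (S : Subgroup G) : Prop where
  f : Four t j
  hS : IsPGroup p S
  t_S : t ∈ normalizer (S : Set G)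
  j_S : j ∈ normalizer (S : Set G)
  z_mem : z ∈ S ⊓ centralizer (S : Set G)
  z_ne : z ≠ 1
  z_pow : z ^ p = 1
  z_t : Commute z t
  S_le : S ≤ DHyp.core z
  key_max : ∀ (a b : G) (P : Subgroup G), Four a b → IsPGroup p P → a ∈ normalizer (P : Set G) →
    b ∈ normalizer (P : Set G) → key p P ≤ key p S
  moved : ∃ x ∈ S, ¬ Commute x t
  up_le : h.up hp f.ht ≤ S

open DHyp in
theorem DHyp.exists_best (h : DHyp G) {p : ℕ} [Fact p.Prime] (hp : Odd p) {t₀ j₀ : G} {P₀ : Subgroup G}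
    (f₀ : Four t₀ j₀) (hP₀ : IsPGroup p P₀) (ht₀ : t₀ ∈ normalizer (P₀ : Set G))
    (hj₀ : j₀ ∈ normalizer (P₀ : Set G)) (hlt : h.up hp f₀.ht < P₀) :
    ∃ t j z S, Best h p hp t j z S := by
  classical
  obtain ⟨⟨a, b, B⟩, ⟨f, hB, haB, hbB⟩, hmax⟩ := Set.exists_max_image
    {q : G × G × Subgroup G | Four q.1 q.2.1 ∧ IsPGroup p q.2.2 ∧ q.1 ∈ normalizer (q.2.2 : Set G) ∧
      q.2.1 ∈ normalizer (q.2.2 : Set G)}
    (fun q => key p q.2.2) (Set.toFinite _) ⟨(t₀, j₀, P₀), f₀, hP₀, ht₀, hj₀⟩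
  have hmax' : ∀ (a b : G) (P : Subgroup G), Four a b → IsPGroup p P → a ∈ normalizer (P : Set G) →
      b ∈ normalizer (P : Set G) → key p P ≤ key p B := fun a b P h1 h2 h3 h4 =>
    hmax (a, b, P) ⟨h1, h2, h3, h4⟩
  have hP0B := hmax' t₀ j₀ P₀ f₀ hP₀ ht₀ hj₀
  have hBne : B ≠ ⊥ := fun e =>
    absurd (((key_mono (bot_le : ⊥ ≤ h.up hp f₀.ht)).trans_lt (key_lt hlt)).trans_le hP0B)
      (by rw [e]; exact lt_irrefl _)
  set Z := B ⊓ centralizer (B : Set G) with hZdef
  have hZn : normalizer (B : Set G) ≤ normalizer (Z : Set G) := by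
    intro g hg
    rw [mem_normalizer_iff_map_eq] at hg ⊢
    rw [hZdef, map_inf_centralizer_self _ (MulAut.conj g).injective.injOn, hg]
  obtain ⟨z0, hz0, hz01, hz0p⟩ := PLocal.exists_central_of_order_p hB hBne
  have hZne : Z ≠ ⊥ := fun e => hz01 (mem_bot.1 (e ▸ hz0))
  have hZodd : Odd (Nat.card Z) := odd_card_of_pGroup hp (hB.to_le inf_le_left)
  obtain ⟨v, v', fv, -, hv, hv', x, hx, hx1, hxv⟩ :=
    h.exists_invol_fixed f hZodd (hZn haB) (hZn hbB) hZne
  have hfB : f.group ≤ normalizer (B : Set G) := f.le_iff.2 ⟨haB, hbB⟩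
  obtain ⟨k, hk⟩ := IsPGroup.iff_orderOf.1 (hB.to_le (inf_le_left : Z ≤ B)) ⟨x, hx⟩
  rw [Subgroup.orderOf_mk] at hk
  rcases k with _ | k
  · exact absurd (orderOf_eq_one_iff.1 (by rw [hk, pow_zero])) hx1
  set z := x ^ p ^ k with hzdef
  have hzp : z ^ p = 1 := by rw [hzdef, ← pow_mul, ← pow_succ, ← hk, pow_orderOf_eq_one]
  have hz1 : z ≠ 1 := fun e => by
    have h1 := orderOf_dvd_of_pow_eq_one e
    rw [hk] at h1
    exact absurd ((Nat.pow_dvd_pow_iff_le_right (Fact.out : p.Prime).one_lt).1 h1) (by omega)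
  have hzv : Commute z v := hxv.pow_left _
  have hzo : Odd (orderOf z) := odd_of_pow_eq_one hp (k := 1) (by rw [pow_one]; exact hzp)
  have hzZ : z ∈ Z := Z.pow_mem hx _
  have hBcore : B ≤ core z := fun y hy => h.mem_core hz1 hzo (mem_centralizer_iff.1 hzZ.2 y hy)
    (odd_orderOf_of_mem (odd_card_of_pGroup hp hB) hy)
  have hfK : fv.group ≤ normalizer (core z : Set G) := h.four_le_normalizer_core fv hzo hzv
  have hfvB : fv.group ≤ normalizer (B : Set G) := fv.le_iff.2 ⟨hfB hv, hfB hv'⟩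
  obtain ⟨P, hBP, hPn⟩ := Coprime.exists_invariant_sylow_ge hfK (fv.coprime (odd_core z))
    (Or.inr (OddOrderTheorem.solvable (odd_core z))) hBcore hB hfvB
  obtain ⟨P', hUP', hP'n⟩ := Coprime.exists_invariant_sylow_ge hfK (fv.coprime (odd_core z))
    (Or.inr (OddOrderTheorem.solvable (odd_core z))) (h.up_le_core hp fv.ht hz1 hzo hzv)
    (h.isPGroup_up hp fv.ht) (h.group_le_normalizer_up hp fv)
  have hPB : B = (P : Subgroup (core z)).map (core z).subtype := by
    refine (lt_or_eq_of_le hBP).resolve_left fun hl => ?_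
    exact absurd (hmax' v v' _ fv (P.isPGroup'.map _) (hPn fv.t_mem) (hPn fv.j_mem))
      (not_le.2 (key_lt hl))
  have hPP := h.sylow_unique fv (odd_core z) (hfK fv.t_mem) (hfK fv.j_mem) P P' (hPn fv.t_mem)
    (hPn fv.j_mem) (hP'n fv.t_mem) (hP'n fv.j_mem)
  have hup : h.up hp fv.ht ≤ B := by rw [hPB, hPP]; exact hUP'
  refine ⟨v, v', z, B, fv, hB, hfvB fv.t_mem, hfvB fv.j_mem, hzZ, hz1, hzp, hzv, hBcore, hmax', ?_, hup⟩
  by_contra hcon
  push Not at hcon
  have hBup : B ≤ h.up hp fv.ht := fun y hy => by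
    obtain ⟨n, hn⟩ := hB ⟨y, hy⟩
    exact ⟨hcon y hy, n, congrArg Subtype.val hn⟩
  obtain ⟨g, hg⟩ := isConj_iff.1 (h.conj v t₀ fv.ht f₀.ht)
  have hmap : B.map (MulAut.conj g).toMonoidHom ≤ h.up hp f₀.ht := by
    rintro _ ⟨y, hy, rfl⟩
    obtain ⟨hyv, n, hn⟩ := hBup hy
    refine ⟨?_, n, by rw [← map_pow, hn, map_one]⟩
    have := hyv.map (MulAut.conj g).toMonoidHom
    rwa [show (MulAut.conj g).toMonoidHom v = t₀ from hg] at this
  have h1 := key_mono (p := p) hmap
  rw [key_conj] at h1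
  exact absurd (h1.trans_lt (key_lt hlt)) (not_lt.2 hP0B)

end Cfsg.Agent.DGroup
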