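import Cfsg.Agent.Lib.DGroup.Dihedral
import Cfsg.Agent.Lib.Cores.Basic

/-!
Passing to the quotient by the odd core.

* `Loc.quotient` : the shape of the centraliser of `t` is inherited
* `not_solvable_quotient`
-/

set_option autoImplicit false

namespace Cfsg.Agent.DGroup

open Subgroup Cfsg Involution

universe v

variable {G : Type v} [Group G] [Finite G]

theorem odd_pPrimeCore_two : Odd (Nat.card (Cfsg.pPrimeCore 2 G)) :=
  Nat.coprime_two_right.1 (Cores.coprime_card_pPrimeCore 2)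

theorem orderOf_mk_two {N : Subgroup G} [N.Normal] (hN : Odd (Nat.card N)) {t : G} (ht : orderOf t = 2) :
    orderOf (QuotientGroup.mk' N t) = 2 := by
  refine orderOf_of_sq (by rw [← map_mul, mul_self ht, map_one]) fun e => ?_
  have h1 := odd_orderOf_of_mem hN ((QuotientGroup.eq_one_iff t).1 e)
  rw [ht] at h1
  exact absurd h1 (by decide)

theorem Loc.quotient {t : G} {A : Subgroup G} {u : G} (hl : Loc t A u) {N : Subgroup G} [N.Normal]
    (hN : Odd (Nat.card N)) :
    Loc (QuotientGroup.mk' N t) (A.map (QuotientGroup.mk' N)) (QuotientGroup.mk' N u) where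
  ht := orderOf_mk_two hN hl.ht
  le_cent := by
    rintro _ ⟨a, ha, rfl⟩
    rw [mem_centralizer_singleton_iff, ← map_mul, ← map_mul,
      mem_centralizer_singleton_iff.1 (hl.le_cent ha)]
  comm := by
    rintro _ ⟨a, ha, rfl⟩ _ ⟨b, hb, rfl⟩
    rw [← map_mul, ← map_mul, hl.comm a ha b hb]
  t_mem := mem_map_of_mem _ hl.t_mem
  uniq := by
    rintro _ ⟨a, ha, rfl⟩ h2
    obtain ⟨i, m, hm, him⟩ := Nat.exists_eq_pow_mul_and_not_dvd (orderOf_pos a).ne' 2 (by norm_num)
    obtain ⟨j, rfl⟩ : Odd m := Nat.odd_iff.2 (Nat.two_dvd_ne_zero.1 hm)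
    set b := a ^ (2 * j + 1) with hb
    have hπ : QuotientGroup.mk' N b = QuotientGroup.mk' N a := by
      rw [hb, map_pow, pow_succ, pow_mul, pow_two, mul_self h2, one_pow, one_mul]
    have hbN : b * b ∈ N := (QuotientGroup.eq_one_iff (b * b)).1 (by
      show QuotientGroup.mk' N (b * b) = 1
      rw [map_mul, hπ, mul_self h2])
    have hb2 : (b * b) ^ 2 ^ i = 1 := by
      rw [← pow_two, hb, ← pow_mul, ← pow_mul, show (2 * j + 1) * (2 * 2 ^ i) = 2 ^ i * (2 * j + 1) * 2 by ring,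
        ← him, pow_mul, pow_orderOf_eq_one, one_pow]
    have hbb : b * b = 1 := by
      obtain ⟨l, -, hl2⟩ := (Nat.dvd_prime_pow Nat.prime_two).1 (orderOf_dvd_of_pow_eq_one hb2)
      have h1 := odd_orderOf_of_mem hN hbN
      rw [hl2] at h1
      rcases Nat.eq_zero_or_pos l with rfl | hlp
      · rw [pow_zero] at hl2; exact orderOf_eq_one_iff.1 hl2
      · exact absurd h1 (Nat.not_odd_iff_even.2 (Nat.even_pow.2 ⟨even_two, hlp.ne'⟩))
    have hb1 : b ≠ 1 := fun e => by
      rw [e, map_one] at hπ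
      exact ne_one h2 hπ.symm
    rw [← hπ, hl.uniq b (A.pow_mem ha _) (orderOf_of_sq hbb hb1)]
  hu := orderOf_mk_two hN hl.hu
  u_cent := by
    rw [mem_centralizer_singleton_iff, ← map_mul, ← map_mul,
      mem_centralizer_singleton_iff.1 hl.u_cent]
  u_not := by
    rintro ⟨a, ha, e⟩
    have h1 : a⁻¹ * u ∈ N := QuotientGroup.eq.1 e
    have hcA : a⁻¹ * u ∉ A := fun h => hl.u_not (by simpa using A.mul_mem ha h)
    have h2 := hl.sq_eq_one (Subgroup.mul_mem _ (Subgroup.inv_mem _ (hl.le_cent ha)) hl.u_cent) hcA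
    have h3 := odd_orderOf_of_mem hN h1
    rw [orderOf_of_sq h2 fun e => hcA (e ▸ A.one_mem)] at h3
    exact absurd h3 (by decide)
  inv := by
    rintro _ ⟨a, ha, rfl⟩
    rw [← map_inv, ← map_mul, ← map_mul, hl.inv a ha, map_inv]
  cover := by
    intro q hq
    obtain ⟨g, rfl⟩ := QuotientGroup.mk'_surjective N q
    rw [mem_centralizer_singleton_iff] at hq
    have hg : t * g * t⁻¹ * g⁻¹ ∈ N := (QuotientGroup.eq_one_iff _).1 (by
      show QuotientGroup.mk' N (t * g * t⁻¹ * g⁻¹) = 1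
      rw [map_mul, map_mul, map_mul, ← hq, map_inv, map_inv]
      group)
    obtain ⟨e, he, c, hc, rfl⟩ := exists_odd_factor hl.ht hN hg
    have he1 : QuotientGroup.mk' N e = 1 := (QuotientGroup.eq_one_iff e).2 he
    rw [map_mul, he1, one_mul]
    rcases hl.cover c (mem_centralizer_singleton_iff.2 hc) with h | h
    · exact Or.inl (mem_map_of_mem _ h)
    · exact Or.inr ⟨c * u, h, map_mul _ c u⟩

omit [Finite G] in
theorem not_solvable_quotient [Finite G] (hns : ¬ Group.IsSolvable G) {N : Subgroup G} [N.Normal]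
    (hN : Odd (Nat.card N)) : ¬ Group.IsSolvable (G ⧸ N) := fun h =>
  hns ((Group.isSolvable_iff_subgroup_quotient N).2 ⟨OddOrderTheorem.solvable hN, h⟩)

end Cfsg.Agent.DGroup
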