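import Cfsg.Agent.Lib.DGroup.Up
import Cfsg.Agent.Lib.Transfer.IsolatedSylow
import Cfsg.Agent.Lib.ZStar.Glauberman

/-!
The centraliser of a central involution of a `D`-group with proper witness `A`.

* `DSet H A` : every element of `H` outside `A` is an involution, central involutions have centraliser `H`
* `DSet.elementary_or_cover`
* `solvable_of_isolated`
-/

set_option autoImplicit false

namespace Cfsg.Agent.DGroup

open Subgroup Cfsg Involution

universe v

variable {G : Type v} [Group G]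

/-- The hypotheses on `A < H`. -/
structure DSet (H A : Subgroup G) : Prop where
  lt : A < H
  sq : ∀ x ∈ H, x ∉ A → x * x = 1
  four : 4 ∣ Nat.card H
  cent : ∀ j ∈ H, orderOf j = 2 → (∀ h ∈ H, h * j = j * h) → centralizer ({j} : Set G) = H
  ns : ¬ Group.IsSolvable G

/-- A group of elements squaring to one is commutative. -/
theorem comm_of_sq {H : Subgroup G} (hH : ∀ x ∈ H, x * x = 1) {a b : G} (ha : a ∈ H) (hb : b ∈ H) :
    a * b = b * a := by
  have h1 : (a * b)⁻¹ = a * b := inv_eq_of_mul_eq_one_right (hH _ (H.mul_mem ha hb))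
  rw [mul_inv_rev, inv_eq_of_mul_eq_one_right (hH a ha), inv_eq_of_mul_eq_one_right (hH b hb)] at h1
  exact h1.symm

/-- A group all of whose elements square to one, by cardinality four at least, contains two involutions. -/
theorem isPGroup_of_sq {H : Subgroup G} (hH : ∀ x ∈ H, x * x = 1) : IsPGroup 2 H :=
  fun ⟨x, hx⟩ => ⟨1, Subtype.ext (by simpa [pow_two] using hH x hx)⟩

/-- An isolated involution with solvable centraliser makes the group solvable. -/
theorem solvable_of_isolated [Finite G] {z : G} (hz : IsIsolatedInvolution z)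
    (hC : Group.IsSolvable (centralizer ({z} : Set G))) : Group.IsSolvable G := by
  obtain ⟨N, hN, hNo, hc⟩ := Transfer.exists_odd_normal_of_isolated hz
  haveI := hN
  haveI := hC
  refine (Group.isSolvable_iff_subgroup_quotient N).2 ⟨OddOrderTheorem.solvable hNo, ?_⟩
  refine Group.isSolvable_of_surjective
    (f := (QuotientGroup.mk' N).comp (centralizer ({z} : Set G)).subtype) fun q => ?_
  obtain ⟨g, rfl⟩ := QuotientGroup.mk'_surjective N q
  obtain ⟨e, he, c, hct, rfl⟩ := exists_odd_factor hz.1 hNo (hc g)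
  exact ⟨⟨c, mem_centralizer_singleton_iff.2 hct⟩, by
    show QuotientGroup.mk' N c = QuotientGroup.mk' N (e * c)
    rw [map_mul, show QuotientGroup.mk' N e = 1 from (QuotientGroup.eq_one_iff e).2 he, one_mul]⟩

/-- A normal subgroup with odd quotient and solvable: the group is solvable. -/
theorem solvable_of_odd_index [Finite G] (N : Subgroup G) [N.Normal] (hN : Group.IsSolvable N)
    (hi : Odd N.index) : Group.IsSolvable G :=
  (Group.isSolvable_iff_subgroup_quotient N).2 ⟨hN, OddOrderTheorem.solvable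
    (by rwa [← Subgroup.index_eq_card])⟩

namespace DSet

variable {H A : Subgroup G} (d : DSet H A)
include d

theorem exists_outer : ∃ u ∈ H, u ∉ A := SetLike.exists_of_lt d.lt

theorem orderOf_outer {u : G} (hu : u ∈ H) (huA : u ∉ A) : orderOf u = 2 :=
  orderOf_of_sq (d.sq u hu huA) fun e => huA (e ▸ A.one_mem)

theorem inv {u : G} (hu : u ∈ H) (huA : u ∉ A) {a : G} (ha : a ∈ A) : u * a * u⁻¹ = a⁻¹ := by
  have h1 : a * u ∉ A := fun h => huA (by simpa using A.mul_mem (A.inv_mem ha) h)
  have h2 := d.sq _ (H.mul_mem (d.lt.le ha) hu) h1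
  rw [inv_eq_of_mul_eq_one_right (d.sq u hu huA)]
  exact (inv_eq_of_mul_eq_one_right (a := a) (b := u * a * u) (by rw [← h2]; group)).symm

theorem comm {a b : G} (ha : a ∈ A) (hb : b ∈ A) : a * b = b * a := by
  obtain ⟨u, hu, huA⟩ := d.exists_outer
  have h1 := d.inv hu huA (A.mul_mem ha hb)
  rw [show u * (a * b) * u⁻¹ = (u * a * u⁻¹) * (u * b * u⁻¹) by group, d.inv hu huA ha, d.inv hu huA hb,
    mul_inv_rev] at h1
  calc a * b = (b⁻¹ * a⁻¹)⁻¹ := by group
    _ = (a⁻¹ * b⁻¹)⁻¹ := by rw [h1]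
    _ = b * a := by group

/-- Either `H` is elementary abelian or `H = A ∪ A u`. -/
theorem elementary_or_cover : (∀ x ∈ H, x * x = 1) ∨
    ((∃ a ∈ A, a * a ≠ 1) ∧ ∀ u ∈ H, u ∉ A → ∀ c ∈ H, c ∈ A ∨ c * u ∈ A) := by
  by_cases hA : ∀ a ∈ A, a * a = 1
  · exact Or.inl fun x hx => by
      by_cases hxA : x ∈ A
      · exact hA x hxA
      · exact d.sq x hx hxA
  · push Not at hA
    obtain ⟨a, ha, ha2⟩ := hA
    refine Or.inr ⟨⟨a, ha, ha2⟩, fun u hu huA c hc => ?_⟩
    by_contra hcon
    push Not at hcon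
    obtain ⟨hcA, hcu⟩ := hcon
    have h1 := d.inv (H.mul_mem hc hu) hcu ha
    rw [show c * u * a * (c * u)⁻¹ = c * (u * a * u⁻¹) * c⁻¹ by group, d.inv hu huA ha,
      d.inv hc hcA (A.inv_mem ha), inv_inv] at h1
    exact ha2 (by nth_rw 2 [h1]; exact mul_inv_cancel a)

theorem solvable : Group.IsSolvable H := by
  obtain ⟨u, hu, huA⟩ := d.exists_outer
  have hcomm : Group.IsSolvable A := Group.isSolvable_of_comm fun a b => Subtype.ext (d.comm a.2 b.2)
  rcases d.elementary_or_cover with he | ⟨-, hcov⟩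
  · exact Group.isSolvable_of_comm fun a b => Subtype.ext (comm_of_sq he a.2 b.2)
  · have hn : (A.subgroupOf H).Normal := ⟨fun x hx g => by
      rw [mem_subgroupOf] at hx ⊢
      show (g : G) * x * (g : G)⁻¹ ∈ A
      by_cases hgA : (g : G) ∈ A
      · exact A.mul_mem (A.mul_mem hgA hx) (A.inv_mem hgA)
      · rw [d.inv g.2 hgA hx]; exact A.inv_mem hx⟩
    haveI := hn
    refine (Group.isSolvable_iff_subgroup_quotient (A.subgroupOf H)).2 ⟨?_, ?_⟩
    · exact Group.isSolvable_of_comm fun a b => Subtype.ext (Subtype.ext (d.comm a.2 b.2))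
    · refine Group.isSolvable_of_comm fun x y => ?_
      have key : ∀ q : H ⧸ A.subgroupOf H,
          q = 1 ∨ q = QuotientGroup.mk (⟨u, hu⟩ : H) := by
        intro q
        obtain ⟨g, rfl⟩ := QuotientGroup.mk_surjective q
        rcases hcov u hu huA g g.2 with h1 | h1
        · exact Or.inl ((QuotientGroup.eq_one_iff g).2 h1)
        · refine Or.inr (QuotientGroup.eq.2 ?_)
          rw [mem_subgroupOf]
          show (g : G)⁻¹ * u ∈ A
          rw [show (g : G)⁻¹ * u = (g : G)⁻¹ * u⁻¹ by rw [inv_eq_of_mul_eq_one_right (d.sq u hu huA)],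
            show (g : G)⁻¹ * u⁻¹ = u * ((g : G) * u)⁻¹ * u⁻¹ by group, d.inv hu huA (A.inv_mem h1), inv_inv]
          exact h1
      rcases key x with rfl | rfl <;> rcases key y with rfl | rfl <;> simp

end DSet

end Cfsg.Agent.DGroup
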