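import Cfsg.Agent.Lib.DGroup.Four
import Cfsg.Agent.Lib.Signalizer.SSFT.Fitting

/-!
The `p`-part of the centraliser of an involution and equivariance of the cores, in a `D`-group.

* `up`, `mem_up`, `normalizes_up` : the elements of `p`-power order of `C(t)`
* `core_conj`, `sylow_normalized` : cores move with their base point; automorphisms fixing the four group
  fix the invariant Sylow subgroup
* `exists_odd_factor`, `odd_card_sup` : two general lemmas
* `exists_invol_fixed` : a non-trivial invariant `2'`-group meets the centraliser of an involution of a four group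
-/

set_option autoImplicit false

namespace Cfsg.Agent.DGroup

open Subgroup Cfsg Involution

universe v

variable {G : Type v} [Group G]

theorem odd_of_pow_eq_one {p k : ℕ} {x : G} (hp : Odd p) (hx : x ^ p ^ k = 1) : Odd (orderOf x) :=
  hp.pow.of_dvd_nat (orderOf_dvd_of_pow_eq_one hx)

theorem odd_card_of_pGroup [Finite G] {p : ℕ} [Fact p.Prime] (hp : Odd p) {S : Subgroup G}
    (hS : IsPGroup p S) : Odd (Nat.card S) := by
  obtain ⟨n, hn⟩ := IsPGroup.iff_card.1 hS
  rw [hn]; exact hp.pow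

/-- If `t` centralises `g` modulo the odd subgroup `D`, then `g ∈ D C(t)`. -/
theorem exists_odd_factor [Finite G] {t g : G} {D : Subgroup G} (ht : orderOf t = 2)
    (hD : Odd (Nat.card D)) (hg : t * g * t⁻¹ * g⁻¹ ∈ D) :
    ∃ e ∈ D, ∃ c : G, Commute c t ∧ g = e * c := by
  set d := t * g * t⁻¹ * g⁻¹ with hd
  obtain ⟨k, hk⟩ := odd_orderOf_of_mem hD hg
  have htd : t * d * t⁻¹ = d⁻¹ := by
    rw [hd, show t * (t * g * t⁻¹ * g⁻¹) * t⁻¹ = t * t * g * (t⁻¹ * g⁻¹) * t⁻¹ by group, mul_self ht, one_mul,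
      inv_eq ht]
    simp [mul_assoc, inv_eq ht]
  have htp : t * d ^ (k + 1) * t⁻¹ = (d ^ (k + 1))⁻¹ := inverts_pow htd _
  have he2 : d ^ (k + 1) * d ^ (k + 1) = d := by
    rw [← pow_add, show k + 1 + (k + 1) = orderOf d + 1 by omega, pow_succ, pow_orderOf_eq_one, one_mul]
  refine ⟨(d ^ (k + 1))⁻¹, D.inv_mem (D.pow_mem hg _), d ^ (k + 1) * g, ?_, by group⟩
  have e1 : t * (d ^ (k + 1) * g) * t⁻¹ = d ^ (k + 1) * g := by
    calc t * (d ^ (k + 1) * g) * t⁻¹ = (t * d ^ (k + 1) * t⁻¹) * (t * g * t⁻¹ * g⁻¹) * g := by group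
      _ = (d ^ (k + 1))⁻¹ * d * g := by rw [htp, ← hd]
      _ = d ^ (k + 1) * g := by
        nth_rw 2 [← he2]
        group
  exact (mul_inv_eq_iff_eq_mul.1 e1).symm

/-- A product of two subgroups of odd order, one normalised by the other, has odd order. -/
theorem odd_card_sup [Finite G] {D S : Subgroup G} (hD : Odd (Nat.card D)) (hS : Odd (Nat.card S))
    (hSD : S ≤ normalizer (D : Set G)) : Odd (Nat.card ↥(D ⊔ S)) := by
  set M := normalizer (D : Set G)
  have hDn : (D.subgroupOf M).Normal := normal_in_normalizer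
  have h1 := Cores.card_sup_dvd (S.subgroupOf M) (D.subgroupOf M)
  rw [← Subgroup.subgroupOf_sup hSD le_normalizer, Cores.card_subgroupOf (sup_le hSD le_normalizer),
    Cores.card_subgroupOf hSD, Cores.card_subgroupOf le_normalizer, sup_comm] at h1
  exact (hS.mul hD).of_dvd_nat h1

namespace DHyp

variable [Finite G] (h : DHyp G)
include h

/-- A non-trivial odd abelian group normalised by a four group meets the centraliser of an involution of it. -/
theorem exists_invol_fixed {t j : G} (f : Four t j) {Z : Subgroup G} (hZ : Odd (Nat.card Z))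
    (htZ : t ∈ normalizer (Z : Set G)) (hjZ : j ∈ normalizer (Z : Set G)) (hne : Z ≠ ⊥) :
    ∃ v v', Four v v' ∧ (f.group ≤ normalizer (Z : Set G)) ∧
      v ∈ f.group ∧ v' ∈ f.group ∧ ∃ x ∈ Z, x ≠ 1 ∧ Commute x v := by
  have hle : f.group ≤ normalizer (Z : Set G) := f.le_iff.2 ⟨htZ, hjZ⟩
  by_cases hall : ∃ x ∈ Z, ¬ Commute x t
  · obtain ⟨j', f', hj', x, hx, hx1, hxj⟩ := h.exists_inverted f hZ htZ hjZ hall
    refine ⟨j', t, f'.symm, hle, ?_, f.t_mem, x, hx, hx1, hxj⟩
    rcases hj' with rfl | rfl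
    · exact f.j_mem
    · exact Or.inr (Or.inr (Or.inr rfl))
  · push Not at hall
    obtain ⟨⟨x, hx⟩, hx1⟩ := (Subgroup.ne_bot_iff_exists_ne_one).1 hne
    exact ⟨t, j, f, hle, f.t_mem, f.j_mem, x, hx, fun e => hx1 (Subtype.ext e), hall x hx⟩

/-- The elements of `p`-power order of `C(t)`. -/
def up {p : ℕ} (hp : Odd p) {t : G} (ht : orderOf t = 2) : Subgroup G where
  carrier := {c | Commute c t ∧ ∃ k : ℕ, c ^ p ^ k = 1}
  one_mem' := ⟨Commute.one_left t, 0, one_pow _⟩
  mul_mem' := by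
    rintro a b ⟨ha, k, hk⟩ ⟨hb, l, hl⟩
    refine ⟨ha.mul_left hb, k + l, ?_⟩
    rw [(h.commute_odd ht ha hb (odd_of_pow_eq_one hp hk) (odd_of_pow_eq_one hp hl)).mul_pow, pow_add,
      pow_mul, hk, one_pow, one_mul, mul_comm, pow_mul, hl, one_pow]
  inv_mem' := by
    rintro a ⟨ha, k, hk⟩
    exact ⟨ha.inv_left, k, by rw [inv_pow, hk, inv_one]⟩

variable {p : ℕ} (hp : Odd p) {t : G} (ht : orderOf t = 2)

theorem mem_up {c : G} : c ∈ h.up hp ht ↔ Commute c t ∧ ∃ k : ℕ, c ^ p ^ k = 1 := Iff.rfl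

theorem isPGroup_up : IsPGroup p (h.up hp ht) := fun ⟨_, _, k, hk⟩ => ⟨k, Subtype.ext (by simpa using hk)⟩

theorem centralizer_le_normalizer_up : centralizer ({t} : Set G) ≤ normalizer (h.up hp ht : Set G) := by
  intro g hg
  have key : ∀ g : G, Commute g t → ∀ c ∈ h.up hp ht, g * c * g⁻¹ ∈ h.up hp ht := fun g hg c hc => by
    obtain ⟨hct, k, hk⟩ := hc
    exact ⟨(hg.mul_left hct).mul_left hg.inv_left, k, by rw [conj_pow, hk, mul_one, mul_inv_cancel]⟩
  exact Coprime.mem_normalizer_of_forall fun c hc =>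
    key g (mem_centralizer_singleton_iff.1 hg) c hc

omit hp ht in
/-- Conjugation moves the cores. -/
theorem core_conj {x : G} (g : G) (hx : x ≠ 1) (hxo : Odd (orderOf x)) :
    (core x).map (MulAut.conj g).toMonoidHom = core (g * x * g⁻¹) := by
  have hx' : g * x * g⁻¹ ≠ 1 := fun e => hx (by simpa [mul_assoc] using congrArg (fun y => g⁻¹ * y * g) e)
  have hxo' : Odd (orderOf (g * x * g⁻¹)) := by rw [orderOf_conj]; exact hxo
  ext c
  rw [h.mem_core_iff hx' hxo']
  constructor
  · rintro ⟨c, hc, rfl⟩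
    obtain ⟨hcx, hco⟩ := (h.mem_core_iff hx hxo).1 hc
    refine ⟨?_, by rw [MulEquiv.toMonoidHom_eq_coe, MonoidHom.coe_coe, MulEquiv.orderOf_eq]; exact hco⟩
    exact hcx.map (MulAut.conj g).toMonoidHom
  · rintro ⟨hcx, hco⟩
    refine ⟨g⁻¹ * c * g, (h.mem_core_iff hx hxo).2 ⟨?_, ?_⟩, by simp [mul_assoc]⟩
    · have := hcx.map (MulAut.conj g⁻¹).toMonoidHom
      simpa [mul_assoc] using this
    · have := orderOf_conj g⁻¹ c
      rw [inv_inv] at this
      rw [this]; exact hco

omit hp ht in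
/-- Whatever normalises `K` and the four group normalises the invariant Sylow subgroup of `K`. -/
theorem sylow_normalized {t j g : G} (f : Four t j) {K : Subgroup G} (hK : Odd (Nat.card K))
    (htK : t ∈ normalizer (K : Set G)) (hjK : j ∈ normalizer (K : Set G)) {p : ℕ} [Fact p.Prime]
    (P : Sylow p K) (htP : t ∈ normalizer ((P : Subgroup K).map K.subtype : Set G))
    (hjP : j ∈ normalizer ((P : Subgroup K).map K.subtype : Set G))
    (hg : g ∈ normalizer (K : Set G)) (hgt : g⁻¹ * t * g ∈ f.group) (hgj : g⁻¹ * j * g ∈ f.group) :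
    g ∈ normalizer ((P : Subgroup K).map K.subtype : Set G) := by
  obtain ⟨Q, hQ⟩ := Coprime.exists_sylow_conj_eq hg P
  have hfP : f.group ≤ normalizer ((P : Subgroup K).map K.subtype : Set G) := f.le_iff.2 ⟨htP, hjP⟩
  have hinv : ∀ a : G, g⁻¹ * a * g ∈ f.group →
      a ∈ normalizer ((Q : Subgroup K).map K.subtype : Set G) := by
    intro a ha
    rw [hQ]
    have h1 := hfP ha
    rw [Subgroup.mem_normalizer_iff] at h1 ⊢
    intro x
    rw [Subgroup.mem_pointwise_smul_iff_inv_smul_mem, Subgroup.mem_pointwise_smul_iff_inv_smul_mem, h1]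
    simp [MulAut.smul_def, mul_assoc]
  have h2 := h.sylow_unique f hK htK hjK P Q htP hjP (hinv t hgt) (hinv j hgj)
  rw [← h2] at hQ
  exact mem_normalizer_iff_map_conj_eq.2 hQ.symm

end DHyp

end Cfsg.Agent.DGroup
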